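/-
Two involutions either are conjugate in the group they generate or centralise a common involution.
-/
import Mathlib

set_option autoImplicit false

namespace Cfsg.Agent.FormWreath

section Dihedral

variable {G : Type*} [Group G]

/-- Two involutions with product of odd order are conjugate, otherwise some involution commutes with both. -/
theorem conj_or_central [Finite G] {H : Subgroup G} {t s : G} (ht : t * t = 1) (hs : s * s = 1)
    (htH : t ∈ H) (hsH : s ∈ H) :
    (∃ x ∈ H, x * t * x⁻¹ = s) ∨ ∃ z ∈ H, z ≠ 1 ∧ z * z = 1 ∧ t * z = z * t ∧ s * z = z * s := by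
  obtain ⟨r, hr⟩ : ∃ r, r = t * s := ⟨_, rfl⟩
  have hti : t⁻¹ = t := inv_eq_of_mul_eq_one_right ht
  have hsi : s⁻¹ = s := inv_eq_of_mul_eq_one_right hs
  have htr : t * r * t = r⁻¹ := by
    rw [hr, _root_.mul_inv_rev, hti, hsi]
    calc t * (t * s) * t = (t * t) * (s * t) := by group
      _ = s * t := by rw [ht, one_mul]
  have hrH : r ∈ H := hr ▸ H.mul_mem htH hsH
  have hpow : ∀ n : ℕ, t * r ^ n = (r ^ n)⁻¹ * t := fun n => by
    induction n with
    | zero => simp
    | succ n ih =>
      calc t * r ^ (n + 1) = (t * r ^ n) * r := by rw [pow_succ, mul_assoc]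
        _ = (r ^ n)⁻¹ * (t * r * t) * t := by
          rw [ih]; simp only [mul_assoc]; rw [ht, mul_one]
        _ = _ := by rw [htr, pow_succ', _root_.mul_inv_rev]
  obtain ⟨j, hj | hj⟩ := Nat.even_or_odd' (orderOf r)
  · right
    have hpos : 0 < orderOf r := orderOf_pos r
    have hz : (r ^ j) * (r ^ j) = 1 := by
      rw [← pow_add, ← two_mul, ← hj, pow_orderOf_eq_one]
    have hzi : (r ^ j)⁻¹ = r ^ j := inv_eq_of_mul_eq_one_right hz
    have hzt : t * r ^ j = r ^ j * t := by rw [hpow, hzi]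
    refine ⟨r ^ j, H.pow_mem hrH j, pow_ne_one_of_lt_orderOf (by omega) (by omega), hz, hzt, ?_⟩
    have hst : s = t * r := by rw [hr, ← mul_assoc, ht, one_mul]
    rw [hst, mul_assoc, ← pow_succ', ← mul_assoc, ← hzt, mul_assoc, ← pow_succ]
  · left
    refine ⟨r ^ j, H.pow_mem hrH j, ?_⟩
    have h2 : r ^ j * r ^ j * r = 1 := by
      rw [← pow_add, ← pow_succ, ← two_mul, ← hj, pow_orderOf_eq_one]
    have h3 : r ^ j * t * (r ^ j)⁻¹ = r ^ j * r ^ j * t := by
      have := hpow j
      rw [mul_assoc, mul_assoc]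
      congr 1
      rw [eq_comm, eq_mul_inv_iff_mul_eq, mul_assoc, this, ← mul_assoc, mul_inv_cancel, one_mul]
    rw [h3, mul_eq_one_iff_eq_inv.1 h2, hr, _root_.mul_inv_rev, hti, hsi, mul_assoc, ht, mul_one]

end Dihedral

end Cfsg.Agent.FormWreath
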