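/-
Non-degenerate sesquilinear forms with a symmetry, orthogonal spaces, and root groups of totally isotropic subspaces.
-/
import Cfsg.Agent.Lib.WreathMax.Kron

set_option autoImplicit false
set_option linter.unusedSectionVars false

namespace Cfsg.Agent.FormWreath

open Matrix Cfsg.Agent.Transvec Cfsg.Agent.TensorMax

variable {ι : Type} [Fintype ι] [DecidableEq ι] {F : Type*} [Field F]

/-- A non-degenerate form, linear on the left, symmetric up to the sign ε and the involution σ. -/
structure SF (σ : F ≃+* F) (ε : F) (B : (ι → F) → (ι → F) → F) : Prop where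
  add_left : ∀ x y z, B (x + y) z = B x z + B y z
  smul_left : ∀ (a : F) (x z : ι → F), B (a • x) z = a * B x z
  symm : ∀ x y, B x y = ε * σ (B y x)
  inv : ∀ a, σ (σ a) = a
  eps : ε * σ ε = 1
  nondeg : ∀ x, (∀ y, B x y = 0) → x = 0

/-- Similitudes. -/
def Sim (B : (ι → F) → (ι → F) → F) (g : GL ι F) : Prop :=
  ∃ μ : F, μ ≠ 0 ∧ ∀ x y, B (mv g x) (mv g y) = μ * B x y

variable {σ : F ≃+* F} {ε : F} {B : (ι → F) → (ι → F) → F}

namespace SF

variable (h : SF σ ε B)
include h

theorem eps_ne_zero : ε ≠ 0 := fun e => by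
  have := h.eps
  rw [e, zero_mul] at this
  exact zero_ne_one this

theorem zero_left (y : ι → F) : B 0 y = 0 := by
  have := h.smul_left 0 0 y
  rwa [zero_smul, zero_mul] at this

theorem add_right (x y z : ι → F) : B x (y + z) = B x y + B x z := by
  rw [h.symm x (y + z), h.add_left, map_add, mul_add, ← h.symm, ← h.symm]

theorem smul_right (a : F) (x y : ι → F) : B x (a • y) = σ a * B x y := by
  rw [h.symm x (a • y), h.smul_left, map_mul, mul_left_comm, ← h.symm]

theorem zero_right (x : ι → F) : B x 0 = 0 := by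
  rw [h.symm, h.zero_left, map_zero, mul_zero]

theorem comm {x y : ι → F} : B x y = 0 ↔ B y x = 0 := by
  constructor <;> intro e <;> rw [h.symm, e, map_zero, mul_zero]

theorem neg_left (x y : ι → F) : B (-x) y = -B x y := by
  rw [← neg_one_smul F x, h.smul_left, neg_one_mul]

theorem sub_left (x y z : ι → F) : B (x - y) z = B x z - B y z := by
  rw [sub_eq_add_neg, h.add_left, h.neg_left, ← sub_eq_add_neg]

theorem sub_right (x y z : ι → F) : B x (y - z) = B x y - B x z := by
  rw [h.symm x (y - z), h.sub_left, map_sub, mul_sub, ← h.symm, ← h.symm]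

/-- Pairing with a fixed vector. -/
def formL (y : ι → F) : (ι → F) →ₗ[F] F where
  toFun x := B x y
  map_add' x x' := h.add_left x x' y
  map_smul' a x := by simpa using h.smul_left a x y

@[simp] theorem formL_apply (y x : ι → F) : h.formL y x = B x y := rfl

/-- The orthogonal space. -/
def perp (S : Submodule F (ι → F)) : Submodule F (ι → F) where
  carrier := {x | ∀ y ∈ S, B x y = 0}
  add_mem' {a b} ha hb y hy := by rw [h.add_left, ha y hy, hb y hy, add_zero]
  zero_mem' y _ := h.zero_left y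
  smul_mem' a x hx y hy := by rw [h.smul_left, hx y hy, mul_zero]

theorem mem_perp {S : Submodule F (ι → F)} {x : ι → F} : x ∈ h.perp S ↔ ∀ y ∈ S, B x y = 0 := Iff.rfl

theorem perp_anti {S T : Submodule F (ι → F)} (hle : S ≤ T) : h.perp T ≤ h.perp S :=
  fun _ hx y hy => hx y (hle hy)

theorem finrank_perp (S : Submodule F (ι → F)) :
    Module.finrank F ↥(h.perp S) + Module.finrank F ↥S = Module.finrank F (ι → F) := by
  classical
  set b := Module.finBasis F S
  let Φ : (ι → F) →ₗ[F] Fin (Module.finrank F S) → F := LinearMap.pi fun i => h.formL (b i : ι → F)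
  have hker : LinearMap.ker Φ = h.perp S := by
    ext x
    rw [LinearMap.mem_ker, h.mem_perp]
    constructor
    · intro hx y hy
      have e : y = ((∑ i, b.repr ⟨y, hy⟩ i • b i : S) : ι → F) := by rw [b.sum_repr]
      rw [e, Submodule.coe_sum, h.symm]
      rw [show B (∑ i, ((b.repr ⟨y, hy⟩ i • b i : S) : ι → F)) x =
        ∑ i, B ((b.repr ⟨y, hy⟩ i • b i : S) : ι → F) x from map_sum (h.formL x) _ _]
      rw [Finset.sum_eq_zero (fun i _ => ?_), map_zero, mul_zero]
      have hi : B x (b i : ι → F) = 0 := congrFun hx i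
      rw [Submodule.coe_smul, h.smul_left, h.comm.1 hi, mul_zero]
    · intro hx
      exact funext fun i => hx _ (b i).2
  have hsurj : LinearMap.range Φ = ⊤ := by
    by_contra hne
    obtain ⟨ψ, hψ0, hψ⟩ := Submodule.exists_le_ker_of_lt_top _ (lt_top_iff_ne_top.2 hne)
    refine hψ0 ?_
    set y : S := ∑ i, σ (ψ (Pi.single i 1)) • b i with hy
    have hy0 : (y : ι → F) = 0 := h.nondeg _ fun x => h.comm.1 (by
      have e : ψ (Φ x) = 0 := hψ (LinearMap.mem_range_self Φ x)
      rw [pi_eq_sum_univ' (Φ x), map_sum] at e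
      rw [h.symm, hy, Submodule.coe_sum,
        show B (∑ i, ((σ (ψ (Pi.single i 1)) • b i : S) : ι → F)) x =
          ∑ i, B ((σ (ψ (Pi.single i 1)) • b i : S) : ι → F) x from map_sum (h.formL x) _ _,
        map_sum, Finset.mul_sum]
      rw [← e]
      refine Finset.sum_congr rfl fun i _ => ?_
      rw [Submodule.coe_smul, h.smul_left, map_mul, h.inv, mul_left_comm, ← h.symm, map_smul, smul_eq_mul,
        mul_comm]
      rfl)
    have hyS : y = 0 := Subtype.ext hy0
    rw [hy] at hyS
    refine LinearMap.pi_ext' fun i => LinearMap.ext_ring ?_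
    have := Fintype.linearIndependent_iff.1 b.linearIndependent _ hyS i
    simpa using this
  have := LinearMap.finrank_range_add_finrank_ker Φ
  rw [hker, hsurj, finrank_top, Module.finrank_fintype_fun_eq_card, Fintype.card_fin] at this
  omega

theorem map_perp {g : GL ι F} (hg : Sim B g) (S : Submodule F (ι → F)) :
    (h.perp S).map (mvLin g) = h.perp (S.map (mvLin g)) := by
  obtain ⟨μ, hμ0, hμ⟩ := hg
  ext x
  rw [WreathMax.mem_map_gl, h.mem_perp]
  constructor
  · rintro ⟨x, hx, rfl⟩ y hy
    obtain ⟨y, hy', rfl⟩ := WreathMax.mem_map_gl.1 hy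
    rw [hμ, hx y hy', mul_zero]
  · intro hx
    refine ⟨mv g⁻¹ x, fun y hy => ?_, mv_mv_inv g x⟩
    have := hx _ (WreathMax.mem_map_gl.2 ⟨y, hy, rfl⟩)
    rw [show x = mv g (mv g⁻¹ x) from (mv_mv_inv g x).symm, hμ] at this
    exact (mul_eq_zero.1 this).resolve_left hμ0

end SF

/-- A skew map onto a totally isotropic subspace whose root group lies in M. -/
structure Rt (h : SF σ ε B) (M : Subgroup (GL ι F)) (S : Submodule F (ι → F))
    (N : (ι → F) →ₗ[F] ι → F) : Prop where
  iso : S ≤ h.perp S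
  range : LinearMap.range N = S
  skew : ∀ x y, B (N x) y + B x (N y) = 0
  mem : ∀ c : F, σ c = c → ∃ t ∈ M, ∀ x, mv t x = x + c • N x

namespace Rt

variable {h : SF σ ε B} {M : Subgroup (GL ι F)} {S : Submodule F (ι → F)} {N : (ι → F) →ₗ[F] ι → F}
variable (R : Rt h M S N)
include R

theorem apply_mem (x : ι → F) : N x ∈ S := R.range ▸ LinearMap.mem_range_self N x

theorem eq_zero_iff {x : ι → F} : N x = 0 ↔ x ∈ h.perp S := by
  rw [h.mem_perp]
  constructor
  · intro hx y hy
    rw [← R.range] at hy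
    obtain ⟨z, rfl⟩ := hy
    have := R.skew x z
    rwa [hx, h.zero_left, zero_add] at this
  · intro hx
    refine h.nondeg _ fun y => ?_
    have := R.skew x y
    rwa [hx _ (R.apply_mem y), add_zero] at this

theorem sq (x : ι → F) : N (N x) = 0 := R.eq_zero_iff.2 (R.iso (R.apply_mem x))

theorem apply_self {x : ι → F} (hx : x ∈ S) : N x = 0 := R.eq_zero_iff.2 (R.iso hx)

theorem ker_eq : LinearMap.ker N = h.perp S := Submodule.ext fun _ => R.eq_zero_iff

/-- Conjugates of roots are roots. -/
theorem conj {g : GL ι F} (hg : g ∈ M) (hs : Sim B g) :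
    Rt h M (S.map (mvLin g)) ((mvLin g).comp (N.comp (mvLin g⁻¹))) where
  iso := by
    rw [← h.map_perp hs]
    exact Submodule.map_mono R.iso
  range := by
    rw [LinearMap.range_comp, LinearMap.range_comp]
    have : LinearMap.range (mvLin (g⁻¹ : GL ι F)) = ⊤ :=
      LinearMap.range_eq_top.2 fun x => ⟨mv g x, by simp [mv_inv_mv]⟩
    rw [this, Submodule.map_top, R.range]
  skew x y := by
    obtain ⟨μ, hμ0, hμ⟩ := hs
    simp only [LinearMap.comp_apply, Matrix.toLin'_apply]
    show B (mv g (N (mv g⁻¹ x))) y + B x (mv g (N (mv g⁻¹ y))) = 0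
    have e1 : B (mv g (N (mv g⁻¹ x))) y = μ * B (N (mv g⁻¹ x)) (mv g⁻¹ y) := by
      rw [← hμ, mv_mv_inv]
    have e2 : B x (mv g (N (mv g⁻¹ y))) = μ * B (mv g⁻¹ x) (N (mv g⁻¹ y)) := by
      rw [← hμ, mv_mv_inv]
    rw [e1, e2, ← mul_add, R.skew, mul_zero]
  mem c hc := by
    obtain ⟨t, ht, htx⟩ := R.mem c hc
    refine ⟨g * t * g⁻¹, M.mul_mem (M.mul_mem hg ht) (M.inv_mem hg), fun x => ?_⟩
    rw [mv_mul, mv_mul, htx, mv_add, mv_smul, mv_mv_inv]
    simp [LinearMap.comp_apply, Matrix.toLin'_apply, mv]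

end Rt

end Cfsg.Agent.FormWreath
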