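/-
A largest meet of a bad image with a member of a family of totally isotropic subspaces with root groups:
the two roots pair the image and the member non-degenerately modulo their meet.
-/
import Cfsg.Agent.Lib.FormWreath.Sesq

set_option autoImplicit false
set_option linter.unusedSectionVars false

namespace Cfsg.Agent.FormWreath

open Matrix Cfsg.Agent.Transvec Cfsg.Agent.TensorMax
open WreathMax (mem_map_gl finrank_map_gl map_gl_mul map_gl_inv map_gl_one)

variable {ι : Type} [Fintype ι] [DecidableEq ι] {F : Type*} [Field F]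
variable {σ : F ≃+* F} {ε : F} {B : (ι → F) → (ι → F) → F}

theorem SF.perp_perp (h : SF σ ε B) (S : Submodule F (ι → F)) : h.perp (h.perp S) = S := by
  have hle : S ≤ h.perp (h.perp S) := fun x hx y hy => h.comm.1 (hy x hx)
  refine (Submodule.eq_of_le_of_finrank_le hle ?_).symm
  have h1 := h.finrank_perp S
  have h2 := h.finrank_perp (h.perp S)
  omega

theorem SF.perp_sup (h : SF σ ε B) (S T : Submodule F (ι → F)) : h.perp (S ⊔ T) = h.perp S ⊓ h.perp T := by
  refine le_antisymm (le_inf (h.perp_anti le_sup_left) (h.perp_anti le_sup_right)) fun x hx y hy => ?_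
  obtain ⟨a, ha, b, hb, rfl⟩ := Submodule.mem_sup.1 hy
  rw [h.add_right, hx.1 a ha, hx.2 b hb, add_zero]

/-- Symmetry of the two radicals of a pairing. -/
theorem SF.finrank_radicals (h : SF σ ε B) (S Y : Submodule F (ι → F)) :
    Module.finrank F ↥(S ⊓ h.perp Y) + Module.finrank F ↥Y =
      Module.finrank F ↥(Y ⊓ h.perp S) + Module.finrank F ↥S := by
  have h1 := h.finrank_perp (h.perp S ⊔ Y)
  rw [h.perp_sup, h.perp_perp] at h1
  have h2 := Submodule.finrank_sup_add_finrank_inf_eq (h.perp S) Y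
  have h3 := h.finrank_perp S
  rw [inf_comm (h.perp S) Y] at h2
  omega

/-- The hypotheses on the family. -/
structure Family (h : SF σ ε B) (M : Subgroup (GL ι F)) (P : Submodule F (ι → F) → Prop) : Prop where
  sim : ∀ g ∈ M, Sim B g
  rt : ∀ S, P S → ∃ N, Rt h M S N
  dim : ∀ S T, P S → P T → Module.finrank F ↥S = Module.finrank F ↥T
  rel : ∀ S T, P S → P T → S ⊓ T ≠ ⊥ → ∀ N, Rt h M S N → ∀ x ∈ T, N x ∈ T
  uniq : ∀ S T T', P S → P T → P T' → S ≠ T → S ≠ T' → S ⊓ T ≠ ⊥ → S ⊓ T = S ⊓ T' → T = T'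
  small : (∀ c : F, σ c = c → c = 0 ∨ c = 1) →
    ∀ S T, P S → P T → S ≠ T → S ⊓ T ≠ ⊥ →
      2 * Module.finrank F ↥(S ⊓ T) < Module.finrank F ↥(S ⊓ h.perp T)
  stab : ∀ g ∈ M, ∀ S T, P S → P T → ∀ N, Rt h M S N →
    (∀ x ∈ T.map (mvLin g), N x ∈ T.map (mvLin g)) → P (T.map (mvLin g))

/-- No bad image meets a member in more than m dimensions. -/
def MaxMeet (M : Subgroup (GL ι F)) (P : Submodule F (ι → F) → Prop) (m : ℕ) : Prop :=
  ∀ g ∈ M, ∀ S T, P S → P T → ¬P (T.map (mvLin g)) →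
    Module.finrank F ↥(T.map (mvLin g) ⊓ S) ≤ m

variable {h : SF σ ε B} {M : Subgroup (GL ι F)} {P : Submodule F (ι → F) → Prop} {m : ℕ}

theorem map_inf_gl (g : GL ι F) (S T : Submodule F (ι → F)) :
    (S ⊓ T).map (mvLin g) = S.map (mvLin g) ⊓ T.map (mvLin g) :=
  Submodule.map_inf _ fun x y hxy => mv_inj g (by simpa [mv] using hxy)

/-- A root moving an image inside itself in too many dimensions stabilises it. -/
theorem stab_of_large (H : Family h M P) (hmax : MaxMeet M P m) {S' : Submodule F (ι → F)}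
    {N : (ι → F) →ₗ[F] ι → F} (R : Rt h M S' N) {g : GL ι F} (hg : g ∈ M) {T : Submodule F (ι → F)}
    (hT : P T) (hdim : Module.finrank F ↥S' = Module.finrank F ↥T)
    (hbig : m < Module.finrank F ↥(T.map (mvLin g) ⊓ (T.map (mvLin g)).comap N)) :
    ∀ x ∈ T.map (mvLin g), N x ∈ T.map (mvLin g) := by
  set Y := T.map (mvLin g) with hY
  set K := Y ⊓ Y.comap N with hK
  by_contra hno
  have hmove : ∀ c : F, σ c = c → c ≠ 0 → ∃ T', P T' ∧ T' ≠ T ∧ T ⊓ T' ≠ ⊥ ∧
      (T ⊓ T').map (mvLin g) = K ∧ ∀ y, y ∈ T'.map (mvLin g) ↔ ∃ x ∈ Y, x + c • N x = y := by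
    intro c hc hc0
    obtain ⟨t, ht, htx⟩ := R.mem c hc
    have hg2 : g⁻¹ * t * g ∈ M := M.mul_mem (M.mul_mem (M.inv_mem hg) ht) hg
    set T' := T.map (mvLin (g⁻¹ * t * g)) with hT'
    have hmem : ∀ y, y ∈ T'.map (mvLin g) ↔ ∃ x ∈ Y, x + c • N x = y := fun y => by
      rw [hT', map_gl_mul, show g * (g⁻¹ * t * g) = t * g by group, ← map_gl_mul, mem_map_gl]
      simp only [htx]
      rfl
    have hKe : (T ⊓ T').map (mvLin g) = K := by
      ext y
      rw [map_inf_gl, Submodule.mem_inf, hmem, hK, Submodule.mem_inf, Submodule.mem_comap]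
      constructor
      · rintro ⟨hy, x, hx, rfl⟩
        have hN : N x ∈ Y := by
          have := Y.sub_mem hy hx
          rw [add_sub_cancel_left] at this
          simpa [smul_smul, inv_mul_cancel₀ hc0] using Y.smul_mem c⁻¹ this
        exact ⟨hy, by rw [map_add, map_smul, R.sq, smul_zero, add_zero]; exact hN⟩
      · rintro ⟨hy, hN⟩
        exact ⟨hy, y - c • N y, Y.sub_mem hy (Y.smul_mem c hN), by
          rw [map_sub, map_smul, R.sq, smul_zero, sub_zero, sub_add_cancel]⟩
    have hdK : Module.finrank F ↥(T ⊓ T') = Module.finrank F ↥K := by rw [← hKe, finrank_map_gl]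
    have hPT' : P T' := by
      by_contra hbad
      have := hmax _ hg2 T T hT hT hbad
      rw [← hT', inf_comm] at this
      omega
    refine ⟨T', hPT', fun he => hno fun x hx => ?_, fun hb => ?_, hKe, hmem⟩
    · obtain ⟨x', hx', e⟩ : ∃ x' ∈ Y, x' = x + c • N x :=
        ⟨_, by rw [hY, ← he]; exact (hmem _).2 ⟨x, hx, rfl⟩, rfl⟩
      have := Y.smul_mem c⁻¹ (Y.sub_mem hx' hx)
      rw [e, add_sub_cancel_left, smul_smul, inv_mul_cancel₀ hc0, one_smul] at this
      exact this
    · rw [hb, finrank_bot] at hdK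
      omega
  by_cases htwo : ∀ c : F, σ c = c → c = 0 ∨ c = 1
  · obtain ⟨T', hPT', hne, hmeet, hKe, hmem⟩ := hmove 1 (map_one σ) one_ne_zero
    have hsm := H.small htwo T T' hT hPT' hne.symm hmeet
    have hdK : Module.finrank F ↥(T ⊓ T') = Module.finrank F ↥K := by rw [← hKe, finrank_map_gl]
    have hYiso : Y ≤ h.perp Y := by
      obtain ⟨NT, RT⟩ := H.rt T hT
      rw [hY, ← h.map_perp (H.sim g hg)]
      exact Submodule.map_mono RT.iso
    set D := Y ⊓ h.perp (Y.map N) with hD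
    have hsub : (T ⊓ h.perp T').map (mvLin g) ≤ D := by
      rw [map_inf_gl, h.map_perp (H.sim g hg)]
      refine fun x hx => ⟨hx.1, fun y hy => ?_⟩
      obtain ⟨z, hz, rfl⟩ := Submodule.mem_map.1 hy
      have h0 := hx.2 _ ((hmem _).2 ⟨z, hz, rfl⟩)
      rwa [one_smul, h.add_right, hYiso hx.1 z hz, zero_add] at h0
    have hmd := Submodule.finrank_mono hsub
    rw [finrank_map_gl] at hmd
    have hrn : ∀ W : Submodule F (ι → F),
        Module.finrank F ↥(W.map N) + Module.finrank F ↥(W ⊓ h.perp S') = Module.finrank F ↥W := fun W => by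
      have h1 := LinearMap.finrank_range_add_finrank_ker (N.comp W.subtype)
      rw [LinearMap.range_comp, Submodule.range_subtype, LinearMap.ker_comp, R.ker_eq] at h1
      rw [← h1]
      congr 1
      rw [← Submodule.finrank_map_subtype_eq, Submodule.map_comap_eq, Submodule.range_subtype]
    have h1 := hrn D
    have h2 := hrn (h.perp (Y.map N))
    have h3 := hrn Y
    have hle : h.perp S' ≤ h.perp (Y.map N) := h.perp_anti fun y hy => by
      obtain ⟨z, -, rfl⟩ := Submodule.mem_map.1 hy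
      exact R.apply_mem z
    rw [inf_eq_right.2 hle] at h2
    have h4 : D.map N ≤ (h.perp (Y.map N)).map N := Submodule.map_mono inf_le_right
    have h4' := Submodule.finrank_mono h4
    have h5 := h.finrank_perp (Y.map N)
    have h6 := h.finrank_perp S'
    have h7 : Y ⊓ h.perp S' ≤ K := fun x hx =>
      ⟨hx.1, show N x ∈ Y by rw [R.eq_zero_iff.2 hx.2]; exact Y.zero_mem⟩
    have h8 := Submodule.finrank_mono h7
    have h9 : D ⊓ h.perp S' ≤ Y ⊓ h.perp S' := inf_le_inf_right _ inf_le_left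
    have h9' := Submodule.finrank_mono h9
    have h10 : Module.finrank F ↥Y = Module.finrank F ↥T := finrank_map_gl g T
    omega
  · push Not at htwo
    obtain ⟨c, hc, hc0, hc1⟩ := htwo
    obtain ⟨T₁, hP₁, hne₁, hm₁, hK₁, hmem₁⟩ := hmove 1 (map_one σ) one_ne_zero
    obtain ⟨T₂, hP₂, hne₂, -, hK₂, hmem₂⟩ := hmove c hc hc0
    have he : T₁ = T₂ := H.uniq T T₁ T₂ hT hP₁ hP₂ hne₁.symm hne₂.symm hm₁ (by
      have := congrArg (Submodule.map (mvLin g⁻¹)) (hK₁.trans hK₂.symm)
      rwa [map_gl_inv, map_gl_inv] at this)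
    refine hno fun x hx => ?_
    obtain ⟨y, hy, e⟩ := (hmem₂ _).1 (he ▸ (hmem₁ _).2 ⟨x, hx, rfl⟩)
    have hNe : N y = N x := by
      have := congrArg N e
      simpa [map_add, R.sq] using this
    rw [hNe] at e
    have h1 : (1 - c) • N x = y - x := by rw [sub_smul]; linear_combination (norm := module) -e
    have := Y.smul_mem (1 - c)⁻¹ (Y.sub_mem hy hx)
    rwa [← h1, smul_smul, inv_mul_cancel₀ (sub_ne_zero.2 (Ne.symm hc1)), one_smul] at this

/-- An image Y and a member S paired non-degenerately modulo their meet by their roots. -/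
structure Pair (h : SF σ ε B) (M : Subgroup (GL ι F)) (Y S : Submodule F (ι → F))
    (N' N : (ι → F) →ₗ[F] ι → F) : Prop where
  rY : Rt h M Y N'
  rS : Rt h M S N
  dim : Module.finrank F ↥Y = Module.finrank F ↥S
  meetY : Y ⊓ h.perp S ≤ S
  meetS : S ⊓ h.perp Y ≤ Y
  injY : ∀ x ∈ Y, N x ∈ Y → x ∈ S
  injS : ∀ y ∈ S, N' y ∈ S → y ∈ Y

/-- A bad image with a largest meet. -/
theorem pair_of_max (H : Family h M P) (hmax : MaxMeet M P m) {g : GL ι F} (hg : g ∈ M)
    {S T : Submodule F (ι → F)} (hS : P S) (hT : P T) (hbad : ¬P (T.map (mvLin g)))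
    (hm : m ≤ Module.finrank F ↥(T.map (mvLin g) ⊓ S)) {N NT : (ι → F) →ₗ[F] ι → F}
    (RS : Rt h M S N) (RT : Rt h M T NT) :
    Pair h M (T.map (mvLin g)) S ((mvLin g).comp (NT.comp (mvLin g⁻¹))) N := by
  set Y := T.map (mvLin g) with hY
  have RY := RT.conj hg (H.sim g hg)
  rw [← hY] at RY
  have hdim : Module.finrank F ↥Y = Module.finrank F ↥S := by
    rw [hY, finrank_map_gl, H.dim S T hS hT]
  set N' := (mvLin g).comp (NT.comp (mvLin g⁻¹)) with hN'
  have hK : Y ⊓ Y.comap N = Y ⊓ S := by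
    have hle : Y ⊓ S ≤ Y ⊓ Y.comap N := fun x hx =>
      ⟨hx.1, show N x ∈ Y by rw [RS.apply_self hx.2]; exact Y.zero_mem⟩
    refine (Submodule.eq_of_le_of_finrank_le hle ?_).symm
    · refine le_trans (not_lt.1 fun hbig => hbad ?_) hm
      exact H.stab g hg S T hS hT N RS
        (stab_of_large H hmax RS hg hT (H.dim S T hS hT) hbig)
  have hmY : Y ⊓ h.perp S ≤ S := fun x hx => (hK.le ⟨hx.1, show N x ∈ Y by
    rw [RS.eq_zero_iff.2 hx.2]; exact Y.zero_mem⟩).2
  refine ⟨RY, RS, hdim, hmY, fun x hx => ?_, fun x hx hNx => (hK.le ⟨hx, hNx⟩).2, fun y hy hNy => ?_⟩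
  · have he : S ⊓ Y = S ⊓ h.perp Y := Submodule.eq_of_le_of_finrank_le
      (fun x hx => ⟨hx.1, RY.iso hx.2⟩) (by
        have h1 := h.finrank_radicals S Y
        have h2 : Y ⊓ h.perp S = Y ⊓ S :=
          le_antisymm (le_inf inf_le_left hmY) (inf_le_inf_left _ RS.iso)
        rw [h2, inf_comm Y S] at h1
        omega)
    exact (he.ge hx).2
  · by_contra hny
    have hbig : m < Module.finrank F ↥(S.map (mvLin (1 : GL ι F)) ⊓
        (S.map (mvLin (1 : GL ι F))).comap N') := by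
      rw [map_gl_one]
      have hlt : S ⊓ Y < S ⊓ S.comap N' := lt_of_le_of_ne
        (fun x hx => ⟨hx.1, show N' x ∈ S by rw [RY.apply_self hx.2]; exact S.zero_mem⟩)
        fun he => hny (he.ge ⟨hy, hNy⟩).2
      exact lt_of_le_of_lt (by rw [inf_comm]; exact hm) (Submodule.finrank_lt_finrank_of_lt hlt)
    have hst := stab_of_large H hmax RY M.one_mem hS hdim hbig
    simp only [map_gl_one] at hst
    set S₁ := S.map (mvLin g⁻¹) with hS₁
    have hP : P S₁ := H.stab g⁻¹ (M.inv_mem hg) T S hT hS NT RT fun x hx => by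
      obtain ⟨z, hz, rfl⟩ := mem_map_gl.1 hx
      refine mem_map_gl.2 ⟨N' z, hst z hz, ?_⟩
      simp [hN', LinearMap.comp_apply, Matrix.toLin'_apply, mv, ← Units.val_mul]
    have hback : S₁.map (mvLin g) = S := by rw [hS₁, map_gl_mul, mul_inv_cancel, map_gl_one]
    by_cases hne : S₁ = T
    · exact hbad (by rw [hne, ← hY] at hback; rw [hback]; exact hS)
    by_cases hz : T ⊓ S₁ = ⊥
    · have hperp : S₁ ≤ h.perp T := by
        intro x hx
        refine RT.eq_zero_iff.1 ((Submodule.mem_bot F).1 (hz.le ⟨RT.apply_mem x, ?_⟩))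
        obtain ⟨z, hz, rfl⟩ := mem_map_gl.1 hx
        refine mem_map_gl.2 ⟨N' z, hst z hz, ?_⟩
        simp [hN', LinearMap.comp_apply, Matrix.toLin'_apply, mv, ← Units.val_mul]
      have hSY : S ≤ h.perp Y := by
        rw [← hback, hY, ← h.map_perp (H.sim g hg)]
        exact Submodule.map_mono hperp
      refine hbad (H.stab g hg S T hS hT N RS fun x hx => ?_)
      rw [RS.eq_zero_iff.2 fun y hy => h.comm.1 (hSY hy x hx)]
      exact Submodule.zero_mem _
    · obtain ⟨N₁, R₁⟩ := H.rt S₁ hP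
      have R₁' := R₁.conj hg (H.sim g hg)
      rw [hback] at R₁'
      refine hbad (H.stab g hg S T hS hT _ R₁' fun x hx => ?_)
      obtain ⟨z, hz', rfl⟩ := mem_map_gl.1 hx
      refine mem_map_gl.2 ⟨N₁ z, H.rel S₁ T hP hT (fun hb => hz (by rw [inf_comm]; exact hb)) N₁ R₁ z hz', ?_⟩
      simp [LinearMap.comp_apply, Matrix.toLin'_apply, mv, ← Units.val_mul]

end Cfsg.Agent.FormWreath
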