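/-
Tensor powers of a symplectic or unitary form, lines of isotropic vectors and the root maps of the factors.
-/
import Cfsg.Agent.Lib.FormWreath.Meet
import Cfsg.Agent.Lib.WreathMax.Lines
import Cfsg.Agent.Lib.Transvec.HermGen

set_option autoImplicit false
set_option linter.unusedSectionVars false

namespace Cfsg.Agent.FormWreath

open scoped Matrix
open Matrix Cfsg.Agent.Transvec Cfsg.Agent.TensorMax Cfsg.Agent.WreathMax

variable {F : Type*} [Field F] {k : ℕ}

/-- A non-degenerate alternating or unitary form. -/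
structure UForm (σ : F ≃+* F) (ε : F) (f : (Fin k → F) → (Fin k → F) → F) : Prop extends SF σ ε f where
  cases : ((∀ a, σ a = a) ∧ ε = -1 ∧ ∀ v, f v v = 0) ∨ (σ ≠ RingEquiv.refl F ∧ ε = 1)

variable {σ : F ≃+* F} {ε : F} {f : (Fin k → F) → (Fin k → F) → F}

/-- The vector representing x ↦ f(x, c). -/
def frow (f : (Fin k → F) → (Fin k → F) → F) (c : Fin k → F) : Fin k → F := fun a => f (Pi.single a 1) c

theorem SF.frow_dot (h : SF σ ε f) (c x : Fin k → F) : frow f c ⬝ᵥ x = f x c := by
  show _ = h.formL c x
  conv_rhs => rw [pi_eq_sum_univ' x, map_sum]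
  simp [dotProduct, frow, mul_comm]

theorem SF.sum_gram (h : SF σ ε f) (x y : Fin k → F) :
    ∑ a, ∑ b, x a * Geo.gramMatrix f a b * σ (y b) = f x y := by
  have e : ∀ a : Fin k, ∑ b, Geo.gramMatrix f a b * σ (y b) = f (Pi.single a 1) y := fun a => by
    rw [h.symm _ y, show f y (Pi.single a 1) = h.formL (Pi.single a 1) y from rfl]
    conv_rhs => rw [pi_eq_sum_univ' y, map_sum, map_sum, Finset.mul_sum]
    refine Finset.sum_congr rfl fun b _ => ?_
    rw [map_smul, smul_eq_mul, map_mul, SF.formL_apply, mul_left_comm, ← h.symm, Geo.gramMatrix, mul_comm]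
  rw [← h.frow_dot y x]
  refine Finset.sum_congr rfl fun a _ => ?_
  show _ = f (Pi.single a 1) y * x a
  rw [← e, Finset.sum_mul]
  exact Finset.sum_congr rfl fun b _ => by ring

theorem SF.isUnit_gram (h : SF σ ε f) : IsUnit (Geo.gramMatrix f) := by
  rw [← Matrix.vecMul_injective_iff_isUnit]
  intro x y hxy
  rw [← sub_eq_zero]
  refine h.nondeg _ fun z => ?_
  rw [← h.sum_gram, Finset.sum_comm]
  refine Finset.sum_eq_zero fun b _ => ?_
  have := congrFun hxy b
  simp only [Matrix.vecMul, dotProduct] at this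
  rw [← Finset.sum_mul]
  simp only [Pi.sub_apply, sub_mul, Finset.sum_sub_distrib]
  rw [this, sub_self]

namespace UForm

variable (hf : UForm σ ε f)
include hf

/-- A scalar s with σ s = -ε s, the parameter of a root. -/
theorem exists_par : ∃ s : F, s ≠ 0 ∧ σ s = -(ε * s) := by
  rcases hf.cases with ⟨hσ, he, -⟩ | ⟨hσ, he⟩
  · exact ⟨1, one_ne_zero, by rw [hσ, he, mul_one, neg_neg]⟩
  · obtain ⟨t, ht0, ht⟩ := Transvec.Herm.exists_anti hσ hf.inv
    exact ⟨t, ht0, by rw [ht, he, one_mul]⟩

/-- A vector not orthogonal to an isotropic c is moved to an isotropic one along c. -/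
theorem exists_shift {v c : Fin k → F} (hc : f c c = 0) (hvc : f v c ≠ 0) :
    ∃ a : F, f (v + a • c) (v + a • c) = 0 := by
  rcases hf.cases with ⟨-, -, halt⟩ | ⟨hσ, he⟩
  · exact ⟨0, halt _⟩
  · obtain ⟨a₀, ha₀⟩ : ∃ a, a + σ a ≠ 0 := by
      by_contra hcon
      push Not at hcon
      refine hσ (RingEquiv.ext fun a => ?_)
      have h1 := hcon 1
      rw [map_one] at h1
      rw [RingEquiv.refl_apply, eq_neg_of_add_eq_zero_right (hcon a)]
      have h2 : a + a = 0 := by linear_combination a * h1
      exact (eq_neg_of_add_eq_zero_left h2).symm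
    have hvv : σ (f v v) = f v v := by
      conv_rhs => rw [hf.symm v v, he, one_mul]
    have hcv : σ (f c v) = f v c := by rw [hf.symm v c, he, one_mul]
    have hcv0 : f c v ≠ 0 := fun e => hvc (by rw [← hcv, e, map_zero])
    refine ⟨-(f v v / (a₀ + σ a₀)) * a₀ / f c v, ?_⟩
    have hfix : σ (a₀ + σ a₀) = a₀ + σ a₀ := by rw [map_add, hf.inv, add_comm]
    rw [hf.add_left, hf.add_right, hf.add_right, hf.smul_left, hf.smul_left, hf.smul_right, hf.smul_right, hc,
      mul_zero, mul_zero, add_zero, map_div₀, map_mul, map_neg, map_div₀, hvv, hfix, hcv]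
    field_simp
    ring

/-- A non-zero isotropic vector. -/
theorem exists_iso [Finite F] (hk : 2 ≤ k) : ∃ c, c ≠ 0 ∧ f c c = 0 := by
  rcases hf.cases with ⟨-, -, halt⟩ | ⟨hσ, he⟩
  · exact ⟨Pi.single ⟨0, by omega⟩ 1, by simp, halt _⟩
  · have hU : Geo.IsUnitaryForm σ f :=
      ⟨hσ, hf.inv, hf.add_left, hf.smul_left, fun v w => by rw [hf.symm v w, he, one_mul], fun v hv => by
        obtain ⟨y, hy⟩ : ∃ y, f v y ≠ 0 := by
          by_contra hcon
          push Not at hcon
          exact hv (hf.nondeg v hcon)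
        exact ⟨⟨y, fun e => hy (hf.comm.1 e)⟩, ⟨y, hy⟩⟩⟩
    obtain ⟨e, -, he0, hee⟩ := Transvec.Herm.exists_isotropic hU (Transvec.Herm.nondeg_top hU)
      (by rw [finrank_top, Module.finrank_fintype_fun_eq_card, Fintype.card_fin]; exact hk)
    exact ⟨e, he0, hee⟩

theorem exists_not_perp {c : Fin k → F} (hc : c ≠ 0) : ∃ v, f v c ≠ 0 := by
  by_contra hcon
  push Not at hcon
  exact hc (hf.nondeg c fun y => hf.comm.1 (hcon y))

/-- An isotropic partner. -/
theorem exists_partner {c : Fin k → F} (hc : c ≠ 0) (hcc : f c c = 0) :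
    ∃ d, f d d = 0 ∧ f d c = 1 := by
  obtain ⟨v, hv⟩ := hf.exists_not_perp hc
  obtain ⟨a, ha⟩ := hf.exists_shift (v := (f v c)⁻¹ • v) hcc (by
    rw [hf.smul_left, inv_mul_cancel₀ hv]; exact one_ne_zero)
  exact ⟨_, ha, by rw [hf.add_left, hf.smul_left, hf.smul_left, hcc, mul_zero, add_zero, inv_mul_cancel₀ hv]⟩

end UForm

variable {J : Type} [Fintype J] [DecidableEq J]

/-- The tensor power of f. -/
def Bt (σ : F ≃+* F) (f : (Fin k → F) → (Fin k → F) → F) (x y : (J → Fin k) → F) : F :=
  ∑ a, ∑ b, x a * (∏ i, Geo.gramMatrix f (a i) (b i)) * σ (y b)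

theorem Bt_pten (h : SF σ ε f) (x y : J → Fin k → F) : Bt σ f (pten x) (pten y) = ∏ j, f (x j) (y j) := by
  rw [Finset.prod_congr rfl fun j (_ : j ∈ Finset.univ) => (h.sum_gram (x j) (y j)).symm]
  simp only [Bt, pten, map_prod, Fintype.prod_sum, ← Finset.prod_mul_distrib]

theorem Bt_sf (h : SF σ ε f) : SF σ (ε ^ Fintype.card J) (Bt (J := J) σ f) where
  add_left x y z := by simp [Bt, add_mul, Finset.sum_add_distrib]
  smul_left a x z := by simp [Bt, Finset.mul_sum, mul_assoc]
  symm x y := by
    simp only [Bt, map_sum, map_mul, map_prod, Finset.mul_sum, h.inv]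
    rw [Finset.sum_comm]
    refine Finset.sum_congr rfl fun a _ => Finset.sum_congr rfl fun b _ => ?_
    have e : ∏ i, Geo.gramMatrix f (b i) (a i) = ε ^ Fintype.card J * ∏ i, σ (Geo.gramMatrix f (a i) (b i)) := by
      rw [← Finset.card_univ, ← Finset.prod_const, ← Finset.prod_mul_distrib]
      exact Finset.prod_congr rfl fun i _ => h.symm _ _
    rw [e]
    ring
  inv := h.inv
  eps := by rw [map_pow, ← mul_pow, h.eps, one_pow]
  nondeg x hx := by
    obtain ⟨u, hu⟩ := h.isUnit_gram
    funext c
    have h1 : ∀ b : J → Fin k, ∑ a, x a * ∏ i, Geo.gramMatrix f (a i) (b i) = 0 := fun b => by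
      have := hx (Pi.single b 1)
      simpa [Bt, Pi.single_apply, apply_ite σ] using this
    have h2 : ∀ a : J → Fin k, ∑ b : J → Fin k, (∏ i, Geo.gramMatrix f (a i) (b i)) *
        ∏ i, ((u⁻¹ : (Matrix (Fin k) (Fin k) F)ˣ) : Matrix (Fin k) (Fin k) F) (b i) (c i) =
        if a = c then 1 else 0 := fun a => by
      simp only [← Finset.prod_mul_distrib]
      rw [← Fintype.prod_sum (fun i q => Geo.gramMatrix f (a i) q *
        ((u⁻¹ : (Matrix (Fin k) (Fin k) F)ˣ) : Matrix (Fin k) (Fin k) F) q (c i))]
      simp only [← Matrix.mul_apply, ← hu, Units.mul_inv, Matrix.one_apply]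
      split
      · rename_i e; simp [e]
      · rename_i e
        obtain ⟨i, hi⟩ := Function.ne_iff.1 e
        exact Finset.prod_eq_zero (Finset.mem_univ i) (if_neg hi)
    calc x c = ∑ a, x a * (if a = c then 1 else 0) := by simp
      _ = ∑ a : J → Fin k, ∑ b : J → Fin k, (x a * ∏ i, Geo.gramMatrix f (a i) (b i)) *
          ∏ i, ((u⁻¹ : (Matrix (Fin k) (Fin k) F)ˣ) : Matrix (Fin k) (Fin k) F) (b i) (c i) := by
        simp only [← h2, Finset.mul_sum, mul_assoc]
      _ = (0 : (J → Fin k) → F) c := by
        rw [Finset.sum_comm]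
        simp only [← Finset.sum_mul, h1, zero_mul, Finset.sum_const_zero, Pi.zero_apply]

/-- Pairing with a member of a split line. -/
theorem Bt_split (h : SF σ ε f) (i : J) (x : (J → Fin k) → F) (w : Rest i k → F) (v : Fin k → F) :
    Bt σ f x ((push i).symm (ten w v)) = Bt σ f (ctr (frow f v) (push i x)) w := by
  have hB := Bt_sf (J := J) h
  have hB' := Bt_sf (J := {j // j ≠ i}) h
  have e1 : hB.formL ((push i).symm (ten w v)) =
      (hB'.formL w).comp ((ctr (frow f v)).comp (push i).toLinearMap) := eq_of_pten fun y => by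
    let S : (Rest i k → F) → F := fun w => Bt σ f (pten y) ((push i).symm (ten w v))
    show Bt σ f (pten y) ((push i).symm (ten w v)) = Bt σ f (ctr (frow f v) (push i (pten y))) w
    rw [push_pten, ctr_ten, h.frow_dot, hB'.smul_left]
    let L₁ : (Rest i k → F) →ₛₗ[(σ : F →+* F)] F :=
      { toFun := fun w => Bt σ f (pten y) ((push i).symm (ten w v))
        map_add' := fun a b => by rw [ten_add_left, map_add, hB.add_right]
        map_smul' := fun a b => by rw [ten_smul_left, map_smul, hB.smul_right]; rfl }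
    let L₂ : (Rest i k → F) →ₛₗ[(σ : F →+* F)] F :=
      { toFun := fun w => f (y i) v * Bt σ f (pten fun j : {j // j ≠ i} => y j) w
        map_add' := fun a b => by rw [hB'.add_right, mul_add]
        map_smul' := fun a b => by rw [hB'.smul_right, mul_left_comm]; rfl }
    have hz : ∀ z : {j // j ≠ i} → Fin k → F, L₁ (pten z) = L₂ (pten z) := fun z => by
      show Bt σ f (pten y) _ = f (y i) v * Bt σ f (pten fun j : {j // j ≠ i} => y j) (pten z)
      have e : (push i).symm (ten (pten z) v) =
          pten (fun j => if hj : j = i then v else z ⟨j, hj⟩) := by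
        apply (push i).injective
        rw [LinearEquiv.apply_symm_apply, push_pten, dif_pos rfl]
        congr 1
        exact congrArg pten (funext fun j => by rw [dif_neg j.2])
      rw [e, Bt_pten h, Bt_pten h, ← Finset.mul_prod_erase Finset.univ _ (Finset.mem_univ i), dif_pos rfl,
        Finset.prod_subtype (Finset.univ.erase i) (p := fun j => j ≠ i) (by simp)]
      congr 1
      exact Finset.prod_congr rfl fun j _ => by rw [dif_neg j.2]
    have hb : L₁ = L₂ := (Pi.basisFun F (Rest i k)).ext fun a => by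
      have e : pten (fun j => (Pi.single (a j) (1 : F) : Fin k → F)) = Pi.single a 1 := by
        funext b
        unfold pten
        by_cases hb : b = a
        · subst hb; simp
        · obtain ⟨j, hj⟩ := Function.ne_iff.1 hb
          rw [Pi.single_eq_of_ne hb]
          exact Finset.prod_eq_zero (Finset.mem_univ j) (Pi.single_eq_of_ne hj _)
      rw [Pi.basisFun_apply, ← e]
      exact hz _
    exact congrArg (fun L : (Rest i k → F) →ₛₗ[(σ : F →+* F)] F => L w) hb
  exact LinearMap.congr_fun e1 x

theorem mem_perp_Ln (h : SF σ ε f) {i : J} {c : Fin k → F} {x : (J → Fin k) → F} :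
    x ∈ (Bt_sf (J := J) h).perp (Ln i c) ↔ ctr (frow f c) (push i x) = 0 := by
  rw [SF.mem_perp]
  constructor
  · intro hx
    refine (Bt_sf h).nondeg _ fun w => ?_
    rw [← Bt_split h]
    exact hx _ (mem_Ln.2 (by rw [LinearEquiv.apply_symm_apply]; exact ten_mem_line _ _))
  · intro hx y hy
    obtain ⟨w, hw⟩ := mem_line.1 (mem_Ln.1 hy)
    have : y = (push i).symm (ten w c) := (push i).injective (by rw [LinearEquiv.apply_symm_apply]; exact hw.symm)
    rw [this, Bt_split h, hx, (Bt_sf h).zero_left]

/-- The root map of c in factor i with parameter s. -/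
def rootN (f : (Fin k → F) → (Fin k → F) → F) (s : F) (i : J) (c : Fin k → F) :
    ((J → Fin k) → F) →ₗ[F] (J → Fin k) → F :=
  (push i).symm.toLinearMap.comp ((rho c).comp ((s • ctr (frow f c)).comp (push i).toLinearMap))

theorem rootN_apply (s : F) (i : J) (c : Fin k → F) (x : (J → Fin k) → F) :
    rootN f s i c x = (push i).symm (ten (s • ctr (frow f c) (push i x)) c) := rfl

theorem rootN_pten (h : SF σ ε f) (s : F) (i : J) (c : Fin k → F) (x : J → Fin k → F) :
    rootN f s i c (pten x) = pten (Function.update x i ((s * f (x i) c) • c)) := by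
  apply (push i).injective
  rw [rootN_apply, LinearEquiv.apply_symm_apply, push_pten, push_pten, ctr_ten, h.frow_dot, Function.update_self,
    ten_smul_left, ten_smul_left, ten_smul_right, smul_smul]
  congr 2
  exact congrArg pten (funext fun j => by rw [Function.update_of_ne j.2])

/-- The transvection of one factor. -/
noncomputable def rootT (h : SF σ ε f) (c : Fin k → F) (hc : f c c = 0) (s : F) : GL (Fin k) F :=
  tw c (s • frow f c) (by rw [smul_dotProduct, h.frow_dot, hc, smul_zero])

theorem mv_rootT (h : SF σ ε f) (c : Fin k → F) (hc : f c c = 0) (s : F) (x : Fin k → F) :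
    mv (rootT h c hc s) x = x + (s * f x c) • c := by
  rw [rootT, mv_tw, smul_dotProduct, h.frow_dot, smul_eq_mul]

theorem rootT_mem (h : SF σ ε f) (c : Fin k → F) (hc : f c c = 0) {s : F} (hs : σ s = -(ε * s)) :
    (∀ x y, f (mv (rootT h c hc s) x) (mv (rootT h c hc s) y) = f x y) ∧
      rootT h c hc s ∈ Geo.specialLinear (Fin k) F := by
  refine ⟨fun x y => ?_, ?_⟩
  · rw [mv_rootT, mv_rootT, h.add_left, h.add_right, h.add_right, h.smul_left, h.smul_left, h.smul_right,
      h.smul_right, hc, mul_zero, mul_zero, add_zero, map_mul, hs]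
    rw [h.symm c y]
    ring
  · let φ : Module.Dual F (Fin k → F) := s • h.formL c
    have e : rootT h c hc s = tv c φ (by simp [φ, hc]) := ext_mv fun x => by
      rw [mv_rootT, mv_tv]
      simp [φ]
    rw [e]
    exact tv_mem_specialLinear _

/-- A group containing the determinant one isometries of every factor. -/
def FacSU (f : (Fin k → F) → (Fin k → F) → F) (M : Subgroup (GL (J → Fin k) F)) : Prop :=
  ∀ (i : J) (A : GL (Fin k) F), (∀ x y, f (mv A x) (mv A y) = f x y) → A ∈ Geo.specialLinear (Fin k) F →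
    fac i A ∈ M

theorem Rt_rootN (h : SF σ ε f) {M : Subgroup (GL (J → Fin k) F)} (hM : FacSU f M) {i : J} {c : Fin k → F}
    (hc0 : c ≠ 0) (hc : f c c = 0) {s : F} (hs0 : s ≠ 0) (hs : σ s = -(ε * s)) :
    Rt (Bt_sf h) M (Ln i c) (rootN f s i c) where
  iso x hx := by
    obtain ⟨u, hu⟩ := mem_line.1 (mem_Ln.1 hx)
    rw [mem_perp_Ln h, ← hu, ctr_ten, h.frow_dot, hc, zero_smul]
  range := by
    obtain ⟨θ, hθ⟩ := exists_dot_one (c := frow f c) (fun e => hc0 (h.nondeg c fun y => h.comm.1 (by
      rw [← h.frow_dot c y, e, zero_dotProduct])))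
    refine le_antisymm ?_ fun x hx => ?_
    · rintro _ ⟨x, rfl⟩
      rw [mem_Ln, rootN_apply, LinearEquiv.apply_symm_apply]
      exact ten_mem_line _ _
    · obtain ⟨u, hu⟩ := mem_line.1 (mem_Ln.1 hx)
      refine ⟨(push i).symm (ten (s⁻¹ • u) θ), (push i).injective ?_⟩
      rw [rootN_apply, LinearEquiv.apply_symm_apply, LinearEquiv.apply_symm_apply, ctr_ten, ← hu,
        dotProduct_comm, hθ, one_smul, smul_smul, mul_inv_cancel₀ hs0, one_smul]
  skew x y := by
    have hB := Bt_sf (J := J) h
    have e1 : (hB.formL y).comp (rootN f s i c) = -(hB.formL (rootN f s i c y)) := eq_of_pten fun z => by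
      show Bt σ f (rootN f s i c (pten z)) y = -Bt σ f (pten z) (rootN f s i c y)
      let L₁ : ((J → Fin k) → F) →ₛₗ[(σ : F →+* F)] F :=
        { toFun := fun y => Bt σ f (rootN f s i c (pten z)) y + Bt σ f (pten z) (rootN f s i c y)
          map_add' := fun a b => by rw [map_add, hB.add_right, hB.add_right]; ring
          map_smul' := fun a b => by rw [map_smul, hB.smul_right, hB.smul_right, smul_eq_mul, mul_add]; rfl }
      have hb : L₁ = 0 := (Pi.basisFun F (J → Fin k)).ext fun a => by
        have e : pten (fun j => (Pi.single (a j) (1 : F) : Fin k → F)) = Pi.single a 1 := by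
          funext b
          unfold pten
          by_cases hb : b = a
          · subst hb; simp
          · obtain ⟨j, hj⟩ := Function.ne_iff.1 hb
            rw [Pi.single_eq_of_ne hb]
            exact Finset.prod_eq_zero (Finset.mem_univ j) (Pi.single_eq_of_ne hj _)
        rw [Pi.basisFun_apply, ← e, LinearMap.zero_apply]
        set w : J → Fin k → F := fun j => Pi.single (a j) (1 : F)
        show Bt σ f (rootN f s i c (pten z)) (pten w) + Bt σ f (pten z) (rootN f s i c (pten w)) = 0
        rw [rootN_pten h, rootN_pten h, Bt_pten h, Bt_pten h, ← Finset.mul_prod_erase Finset.univ _ (Finset.mem_univ i),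
          ← Finset.mul_prod_erase Finset.univ _ (Finset.mem_univ i), Function.update_self, Function.update_self]
        rw [Finset.prod_congr rfl fun j hj => show f (Function.update z i _ j) (w j) = f (z j) (w j) by
            rw [Function.update_of_ne (Finset.ne_of_mem_erase hj)],
          Finset.prod_congr rfl fun j hj => show f (z j) (Function.update w i _ j) = f (z j) (w j) by
            rw [Function.update_of_ne (Finset.ne_of_mem_erase hj)], ← add_mul]
        refine mul_eq_zero.2 (Or.inl ?_)
        rw [h.smul_left, h.smul_right, map_mul, hs, h.symm c (w i)]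
        ring
      exact eq_neg_of_add_eq_zero_left (LinearMap.congr_fun hb y)
    have := LinearMap.congr_fun e1 x
    simp only [LinearMap.comp_apply, SF.formL_apply, LinearMap.neg_apply] at this
    rw [this, neg_add_cancel]
  mem a ha := by
    obtain ⟨hiso, hdet⟩ := rootT_mem h c hc (s := a * s) (by rw [map_mul, ha, hs]; ring)
    refine ⟨fac i (rootT h c hc (a * s)), hM i _ hiso hdet, fun x => ?_⟩
    have e : mvLin (fac i (rootT h c hc (a * s))) = LinearMap.id + a • rootN f s i c := eq_of_pten fun z => by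
      rw [Matrix.toLin'_apply]
      show mv (fac i (rootT h c hc (a * s))) (pten z) = pten z + a • rootN f s i c (pten z)
      rw [mv_fac, mv_rootT, rootN_pten h, ← pten_update_smul, smul_smul, ← mul_assoc]
      apply (push i).injective
      rw [map_add, push_pten, push_pten, push_pten, Function.update_self, Function.update_self, ten_add_right]
      congr 1 <;> congr 1 <;> exact congrArg pten (funext fun j => by
        rw [Function.update_of_ne j.2]; try rw [Function.update_of_ne j.2])
    have := LinearMap.congr_fun e x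
    rwa [Matrix.toLin'_apply] at this

/-- The lines of isotropic vectors. -/
def IsoLn (f : (Fin k → F) → (Fin k → F) → F) (S : Submodule F ((J → Fin k) → F)) : Prop :=
  ∃ (i : J) (c : Fin k → F), c ≠ 0 ∧ f c c = 0 ∧ S = Ln i c

end Cfsg.Agent.FormWreath
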