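/-
How the lines of isotropic vectors of different factors meet.
-/
import Cfsg.Agent.Lib.FormWreath.Tensor

set_option autoImplicit false
set_option linter.unusedSectionVars false

namespace Cfsg.Agent.FormWreath

open scoped Matrix
open Matrix Cfsg.Agent.Transvec Cfsg.Agent.TensorMax Cfsg.Agent.WreathMax

variable {F : Type*} [Field F] {k : ℕ}
variable {σ : F ≃+* F} {ε : F} {f : (Fin k → F) → (Fin k → F) → F}
variable {J : Type} [Fintype J] [DecidableEq J]

/-- The map w ↦ (φ · w) c on the factor i. -/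
def rk (i : J) (c φ : Fin k → F) : ((J → Fin k) → F) →ₗ[F] (J → Fin k) → F :=
  (push i).symm.toLinearMap.comp ((rho c).comp ((ctr φ).comp (push i).toLinearMap))

theorem rk_apply (i : J) (c φ : Fin k → F) (x : (J → Fin k) → F) :
    rk i c φ x = (push i).symm (ten (ctr φ (push i x)) c) := rfl

theorem rk_pten (i : J) (c φ : Fin k → F) (x : J → Fin k → F) :
    rk i c φ (pten x) = pten (Function.update x i ((φ ⬝ᵥ x i) • c)) := by
  apply (push i).injective
  rw [rk_apply, LinearEquiv.apply_symm_apply, push_pten, push_pten, ctr_ten, Function.update_self, ten_smul_left,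
    ten_smul_right]
  congr 2
  exact congrArg pten (funext fun j => by rw [Function.update_of_ne j.2])

theorem rootN_eq_rk (s : F) (i : J) (c : Fin k → F) : rootN f s i c = rk i c (s • frow f c) :=
  LinearMap.ext fun x => by rw [rootN_apply, rk_apply, ctr_smul_vec]; rfl

theorem rk_comm {i l : J} (h : i ≠ l) (c φ d ψ : Fin k → F) (x : (J → Fin k) → F) :
    rk i c φ (rk l d ψ x) = rk l d ψ (rk i c φ x) :=
  LinearMap.congr_fun (f := (rk i c φ).comp (rk l d ψ)) (g := (rk l d ψ).comp (rk i c φ))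
    (eq_of_pten fun z => by
      simp only [LinearMap.comp_apply, rk_pten, Function.update_of_ne h, Function.update_of_ne h.symm]
      rw [Function.update_comm h.symm]) x

theorem mem_Ln_iff {l : J} {e d : Fin k → F} (he : e ≠ 0) (hd : d ≠ 0) {x : (J → Fin k) → F} :
    x ∈ Ln l e ↔ ∀ φ : Fin k → F, φ ⬝ᵥ e = 0 → rk l d φ x = 0 := by
  have hz : ∀ w : Rest l k → F, (push l).symm (ten w d) = 0 ↔ w = 0 := fun w => by
    rw [LinearEquiv.map_eq_zero_iff]
    exact ⟨fun h => by_contra fun hw => ten_ne_zero hw hd h, fun h => by rw [h, ten_zero_left]⟩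
  simp only [rk_apply, hz]
  constructor
  · intro hx φ hφ
    obtain ⟨u, hu⟩ := mem_line.1 (mem_Ln.1 hx)
    rw [← hu, ctr_ten, hφ, zero_smul]
  · exact fun h => mem_Ln.2 (mem_line_of_ctr he h)

/-- Putting c into the slot i. -/
def ins (i : J) (c : Fin k → F) : (Rest i k → F) →ₗ[F] (J → Fin k) → F :=
  (push i).symm.toLinearMap.comp (rho c)

theorem ins_apply (i : J) (c : Fin k → F) (w : Rest i k → F) : ins i c w = (push i).symm (ten w c) := rfl

theorem ins_injective (i : J) {c : Fin k → F} (hc : c ≠ 0) :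
    Function.Injective (ins i c : (Rest i k → F) →ₗ[F] (J → Fin k) → F) := by
  rw [← LinearMap.ker_eq_bot, LinearMap.ker_eq_bot']
  intro w hw
  by_contra hw0
  exact ten_ne_zero hw0 hc ((push i).symm.map_eq_zero_iff.1 hw)

theorem range_ins (i : J) (c : Fin k → F) : LinearMap.range (ins i c) = Ln i c := by
  ext x
  rw [mem_Ln, mem_line, LinearMap.mem_range]
  constructor
  · rintro ⟨w, rfl⟩
    exact ⟨w, by rw [ins_apply, LinearEquiv.apply_symm_apply]⟩
  · rintro ⟨w, hw⟩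
    exact ⟨w, by rw [ins_apply, hw, LinearEquiv.symm_apply_apply]⟩

theorem ins_pten (i : J) (c : Fin k → F) (z : {j // j ≠ i} → Fin k → F) :
    ins i c (pten z) = pten (fun j => if hj : j = i then c else z ⟨j, hj⟩) := by
  apply (push i).injective
  rw [ins_apply, LinearEquiv.apply_symm_apply, push_pten, dif_pos rfl]
  congr 1
  exact congrArg pten (funext fun j => by rw [dif_neg j.2])

theorem rk_ins {i l : J} (h : l ≠ i) (c d φ : Fin k → F) (w : Rest i k → F) :
    rk l d φ (ins i c w) = ins i c (rk (⟨l, h⟩ : {j // j ≠ i}) d φ w) :=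
  LinearMap.congr_fun (f := (rk l d φ).comp (ins i c)) (g := (ins i c).comp (rk (⟨l, h⟩ : {j // j ≠ i}) d φ))
    (eq_of_pten fun z => by
      simp only [LinearMap.comp_apply, ins_pten, rk_pten, dif_neg h]
      refine congrArg pten (funext fun j => ?_)
      by_cases hj : j = i
      · subst hj
        rw [dif_pos rfl, Function.update_of_ne h.symm, dif_pos rfl]
      · rw [dif_neg hj]
        by_cases hjl : j = l
        · subst hjl; simp
        · rw [Function.update_of_ne hjl, dif_neg hj,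
            Function.update_of_ne (fun e => hjl (congrArg Subtype.val e))]) w

theorem card_rest_same (i l : J) (hk : 0 < k) : Fintype.card (Rest i k) = Fintype.card (Rest l k) :=
  Nat.eq_of_mul_eq_mul_right hk ((card_rest i).trans (card_rest l).symm)

theorem inf_eq_ins {i l : J} (h : l ≠ i) {c e : Fin k → F} (hc : c ≠ 0) (he : e ≠ 0) :
    Ln i c ⊓ Ln l e = (Ln (⟨l, h⟩ : {j // j ≠ i}) e).map (ins i c) := by
  ext x
  rw [Submodule.mem_inf, ← range_ins, Submodule.mem_map, mem_Ln_iff he he]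
  constructor
  · rintro ⟨⟨w, rfl⟩, hw⟩
    refine ⟨w, (mem_Ln_iff he he).2 fun φ hφ => ins_injective i hc ?_, rfl⟩
    rw [← rk_ins h, hw φ hφ, map_zero]
  · rintro ⟨w, hw, rfl⟩
    exact ⟨LinearMap.mem_range_self _ w, fun φ hφ => by rw [rk_ins h, (mem_Ln_iff he he).1 hw φ hφ, map_zero]⟩

theorem finrank_inf_Ln {i l : J} (h : l ≠ i) {c e : Fin k → F} (hc : c ≠ 0) (he : e ≠ 0) :
    Module.finrank F ↥(Ln i c ⊓ Ln l e) * k = Fintype.card (Rest i k) := by
  rw [inf_eq_ins h hc he, (Submodule.equivMapOfInjective _ (ins_injective i hc) _).finrank_eq.symm,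
    finrank_Ln _ he, card_rest, Fintype.card_fun, Fintype.card_fin]

theorem finrank_inf_perp (hs : SF σ ε f) {i l : J} (h : l ≠ i) {c e : Fin k → F} (hc : c ≠ 0) (he : e ≠ 0) :
    Module.finrank F ↥(Ln i c ⊓ (Bt_sf (J := J) hs).perp (Ln l e)) * k + Fintype.card (Rest i k) =
      Fintype.card (Rest i k) * k := by
  set l' : {j // j ≠ i} := ⟨l, h⟩
  set N := rk l' e (frow f e) with hN
  have e1 : Ln i c ⊓ (Bt_sf (J := J) hs).perp (Ln l e) = (LinearMap.ker N).map (ins i c) := by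
    have hiff : ∀ x, x ∈ (Bt_sf (J := J) hs).perp (Ln l e) ↔ rk l e (frow f e) x = 0 := fun x => by
      rw [mem_perp_Ln hs, rk_apply, LinearEquiv.map_eq_zero_iff]
      exact ⟨fun h => by rw [h, ten_zero_left], fun h => by_contra fun hne => ten_ne_zero hne he h⟩
    ext x
    rw [Submodule.mem_inf, hiff, ← range_ins, Submodule.mem_map]
    constructor
    · rintro ⟨⟨w, rfl⟩, hw⟩
      exact ⟨w, ins_injective i hc (by rw [← rk_ins h, hw, map_zero]), rfl⟩
    · rintro ⟨w, hw, rfl⟩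
      exact ⟨LinearMap.mem_range_self _ w, by rw [rk_ins h, show N w = 0 from hw, map_zero]⟩
  rw [e1, (Submodule.equivMapOfInjective _ (ins_injective i hc) _).finrank_eq.symm]
  have hfr : frow f e ≠ 0 := fun e0 => he (hs.nondeg e fun y => hs.comm.1 (by
    rw [← hs.frow_dot e y, e0, zero_dotProduct]))
  obtain ⟨θ, hθ⟩ := exists_dot_one hfr
  have hr : LinearMap.range N = Ln l' e := by
    refine le_antisymm ?_ fun x hx => ?_
    · rintro _ ⟨x, rfl⟩
      rw [mem_Ln, hN, rk_apply, LinearEquiv.apply_symm_apply]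
      exact ten_mem_line _ _
    · obtain ⟨u, hu⟩ := mem_line.1 (mem_Ln.1 hx)
      refine ⟨(push l').symm (ten u θ), (push l').injective ?_⟩
      rw [hN, rk_apply, LinearEquiv.apply_symm_apply, LinearEquiv.apply_symm_apply, ctr_ten, ← hu,
        dotProduct_comm, hθ, one_smul]
  have h1 := LinearMap.finrank_range_add_finrank_ker N
  rw [hr, finrank_Ln _ he, Module.finrank_fintype_fun_eq_card] at h1
  have h2 : Fintype.card (Rest l' k) * k = Fintype.card (Rest i k) := by
    rw [card_rest, Fintype.card_fun, Fintype.card_fin]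
  have h3 := congrArg (· * k) h1
  simp only [add_mul] at h3
  linarith [h3, h2]

/-- Members fixing the orthogonal of an isotropic line and moving into the line are roots. -/
def ScalarRad (h : SF σ ε f) (M : Subgroup (GL (J → Fin k) F)) : Prop :=
  ∀ (i : J) (c : Fin k → F), c ≠ 0 → f c c = 0 → ∀ g ∈ M,
    (∀ x ∈ (Bt_sf (J := J) h).perp (Ln i c), mv g x = x) → (∀ x, mv g x - x ∈ Ln i c) →
      ∃ a : F, ∀ x, mv g x = x + a • rootN f 1 i c x

/-- Members fixing an isotropic line and moving its orthogonal into it act there as shears of that factor. -/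
def MiddleScalar (h : SF σ ε f) (M : Subgroup (GL (J → Fin k) F)) : Prop :=
  ∀ (i : J) (c : Fin k → F), c ≠ 0 → f c c = 0 → ∀ g ∈ M, (∀ x ∈ Ln i c, mv g x = x) →
    (∀ x ∈ (Bt_sf (J := J) h).perp (Ln i c), mv g x - x ∈ Ln i c) →
      ∃ φ : Fin k → F, φ ⬝ᵥ c = 0 ∧ ∀ x ∈ (Bt_sf (J := J) h).perp (Ln i c), mv g x = x + rk i c φ x

variable {M : Subgroup (GL (J → Fin k) F)}

theorem root_eq (h : SF σ ε f) (hS : ScalarRad h M) {i : J} {c : Fin k → F} (hc0 : c ≠ 0) (hc : f c c = 0)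
    {N : ((J → Fin k) → F) →ₗ[F] (J → Fin k) → F} (R : Rt (Bt_sf h) M (Ln i c) N) :
    ∃ a : F, ∀ x, N x = a • rootN f 1 i c x := by
  obtain ⟨t, ht, htx⟩ := R.mem 1 (map_one σ)
  simp only [one_smul] at htx
  obtain ⟨a, ha⟩ := hS i c hc0 hc t ht (fun x hx => by rw [htx, R.eq_zero_iff.2 hx, add_zero])
    (fun x => by rw [htx, add_sub_cancel_left]; exact R.apply_mem x)
  exact ⟨a, fun x => add_left_cancel ((htx x).symm.trans (ha x))⟩

theorem root_stab (h : SF σ ε f) (hS : ScalarRad h M) {i l : J} {c e : Fin k → F} (hc0 : c ≠ 0) (hc : f c c = 0)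
    (he : e ≠ 0) (hmeet : Ln i c ⊓ Ln l e ≠ ⊥) {N : ((J → Fin k) → F) →ₗ[F] (J → Fin k) → F}
    (R : Rt (Bt_sf h) M (Ln i c) N) {x : (J → Fin k) → F} (hx : x ∈ Ln l e) : N x ∈ Ln l e := by
  rcases eq_or_ne l i with rfl | hne
  · obtain ⟨y, hy, hy0⟩ := Submodule.exists_mem_ne_zero_of_ne_bot hmeet
    rw [← Ln_eq_of_meet hy0 hy.1 hy.2] at hx ⊢
    rw [R.apply_self hx]
    exact zero_mem _
  obtain ⟨a, ha⟩ := root_eq h hS hc0 hc R
  rw [ha, rootN_eq_rk]
  refine Submodule.smul_mem _ _ ((mem_Ln_iff he he).2 fun φ hφ => ?_)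
  rw [rk_comm hne, (mem_Ln_iff he he).1 hx φ hφ, map_zero]

/-- The incidence part of the hypotheses on the family of isotropic lines. -/
theorem family_of (hf : UForm σ ε f) (hk : 2 ≤ k) (hk4 : (∀ c : F, σ c = c → c = 0 ∨ c = 1) → 4 ≤ k)
    (hM : FacSU f M) (hsim : ∀ g ∈ M, Sim (Bt (J := J) σ f) g) (hS : ScalarRad hf.toSF M)
    (hstab : ∀ g ∈ M, ∀ S T, IsoLn f S → IsoLn f T → ∀ N, Rt (Bt_sf hf.toSF) M S N →
      (∀ x ∈ T.map (mvLin g), N x ∈ T.map (mvLin g)) → IsoLn f (T.map (mvLin g))) :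
    Family (Bt_sf hf.toSF) M (IsoLn f) where
  sim := hsim
  rt := by
    rintro S ⟨i, c, hc0, hc, rfl⟩
    obtain ⟨s, hs0, hs⟩ := hf.exists_par
    exact ⟨_, Rt_rootN hf.toSF hM hc0 hc hs0 hs⟩
  dim := by
    rintro S T ⟨i, c, hc0, -, rfl⟩ ⟨l, e, he, -, rfl⟩
    rw [finrank_Ln _ hc0, finrank_Ln _ he, card_rest_same i l (by omega)]
  rel := by
    rintro S T ⟨i, c, hc0, hc, rfl⟩ ⟨l, e, he, -, rfl⟩ hmeet N R x hx
    exact root_stab hf.toSF hS hc0 hc he hmeet R hx
  uniq := by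
    rintro S T T' ⟨i, c, hc0, -, rfl⟩ ⟨l, e, he, -, rfl⟩ ⟨l', e', he', -, rfl⟩ hne hne' hmeet heq
    have hT : ∀ {l e}, Ln i c ≠ Ln l e → Ln i c ⊓ Ln l e ≠ ⊥ → l ≠ i := by
      rintro l e hne hmeet rfl
      obtain ⟨y, hy, hy0⟩ := Submodule.exists_mem_ne_zero_of_ne_bot hmeet
      exact hne (Ln_eq_of_meet hy0 hy.1 hy.2)
    have hl := hT hne hmeet
    have hl' := hT hne' (heq ▸ hmeet)
    rw [inf_eq_ins hl hc0 he, inf_eq_ins hl' hc0 he'] at heq
    have h1 := Submodule.map_injective_of_injective (ins_injective i hc0) heq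
    obtain rfl : l = l' := congrArg Subtype.val (Ln_type_unique hk he he' h1)
    obtain ⟨y, hy, hy0⟩ := Submodule.exists_mem_ne_zero_of_ne_bot hmeet
    have hy' : y ∈ Ln i c ⊓ Ln l e' := by
      rw [inf_eq_ins hl' hc0 he', ← h1, ← inf_eq_ins hl hc0 he]; exact hy
    exact Ln_eq_of_meet hy0 hy.2 hy'.2
  small := by
    rintro h2 S T ⟨i, c, hc0, -, rfl⟩ ⟨l, e, he, -, rfl⟩ hne hmeet
    have hli : l ≠ i := by
      rintro rfl
      obtain ⟨y, hy, hy0⟩ := Submodule.exists_mem_ne_zero_of_ne_bot hmeet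
      exact hne (Ln_eq_of_meet hy0 hy.1 hy.2)
    have h1 := finrank_inf_Ln hli hc0 he
    have h3 := finrank_inf_perp hf.toSF hli hc0 he
    have h4 : 4 ≤ k := hk4 h2
    have hpos : 0 < Fintype.card (Rest i k) := Fintype.card_pos_iff.2 ⟨fun _ => ⟨0, by omega⟩⟩
    by_contra hcon
    have h5 : Module.finrank F ↥(Ln i c ⊓ (Bt_sf (J := J) hf.toSF).perp (Ln l e)) * k ≤
        2 * Fintype.card (Rest i k) := by
      rw [← h1, ← mul_assoc]
      exact Nat.mul_le_mul_right k (not_lt.1 hcon)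
    have h6 : 4 * Fintype.card (Rest i k) ≤ Fintype.card (Rest i k) * k := by
      rw [mul_comm 4]; exact Nat.mul_le_mul_left _ h4
    omega
  stab := hstab

/-- For k ≥ 3 two different meeting lines share less than half. -/
theorem half_meet (hk : 3 ≤ k) : ∀ S T : Submodule F ((J → Fin k) → F), IsoLn f S → IsoLn f T → S ≠ T →
    S ⊓ T ≠ ⊥ → 2 * Module.finrank F ↥(S ⊓ T) < Module.finrank F ↥S := by
  rintro S T ⟨i, c, hc0, -, rfl⟩ ⟨l, e, he, -, rfl⟩ hne hmeet
  have hli : l ≠ i := by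
    rintro rfl
    obtain ⟨y, hy, hy0⟩ := Submodule.exists_mem_ne_zero_of_ne_bot hmeet
    exact hne (Ln_eq_of_meet hy0 hy.1 hy.2)
  have h1 := finrank_inf_Ln hli hc0 he
  rw [finrank_Ln _ hc0, ← h1]
  have hpos : 0 < Fintype.card (Rest i k) := Fintype.card_pos_iff.2 ⟨fun _ => ⟨0, by omega⟩⟩
  rw [← h1] at hpos
  rw [mul_comm 2]
  exact Nat.mul_lt_mul_of_pos_left (by omega) (Nat.pos_of_mul_pos_right hpos)

end Cfsg.Agent.FormWreath
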