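/-
Contractions of one slot, members acting on one slot, and the diagonal members of a hyperbolic pair.
-/
import Cfsg.Agent.Lib.FormWreath.Incidence

set_option autoImplicit false
set_option linter.unusedSectionVars false

namespace Cfsg.Agent.FormWreath

open scoped Matrix
open Matrix Cfsg.Agent.Transvec Cfsg.Agent.TensorMax Cfsg.Agent.WreathMax

variable {F : Type*} [Field F] {k : ℕ} {σ : F ≃+* F} {ε : F} {f : (Fin k → F) → (Fin k → F) → F}
variable {J : Type} [Fintype J] [DecidableEq J]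

/-- Contraction of the slot i. -/
abbrev cr (i : J) (φ : Fin k → F) : ((J → Fin k) → F) →ₗ[F] Rest i k → F :=
  (ctr φ).comp (push i).toLinearMap

theorem cr_ins (i : J) (c φ : Fin k → F) (w : Rest i k → F) : cr i φ (ins i c w) = (φ ⬝ᵥ c) • w := by
  show ctr φ (push i ((push i).symm (ten w c))) = _
  rw [LinearEquiv.apply_symm_apply, ctr_ten]

theorem rk_eq (i : J) (c φ : Fin k → F) (x : (J → Fin k) → F) : rk i c φ x = ins i c (cr i φ x) := rfl

theorem rootN_eq (s : F) (i : J) (c : Fin k → F) (x : (J → Fin k) → F) :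
    rootN f s i c x = ins i c (s • cr i (frow f c) x) := rfl

theorem ins_add_vec (i : J) (c d : Fin k → F) (w : Rest i k → F) :
    ins i (c + d) w = ins i c w + ins i d w := by
  simp only [ins_apply, ten_add_right, map_add]

theorem ins_smul_vec (i : J) (a : F) (c : Fin k → F) (w : Rest i k → F) :
    ins i (a • c) w = a • ins i c w := by
  simp only [ins_apply, ten_smul_right, map_smul]

theorem ins_sub_vec (i : J) (c d : Fin k → F) (w : Rest i k → F) :
    ins i (c - d) w = ins i c w - ins i d w := by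
  rw [sub_eq_add_neg, ← neg_one_smul F d, ins_add_vec, ins_smul_vec, neg_one_smul, ← sub_eq_add_neg]

theorem ins_mem (i : J) (c : Fin k → F) (w : Rest i k → F) : ins i c w ∈ Ln i c :=
  range_ins i c ▸ LinearMap.mem_range_self _ w

theorem mem_Ln_ins {i : J} {c : Fin k → F} {x : (J → Fin k) → F} (hx : x ∈ Ln i c) :
    ∃ w, ins i c w = x := by
  rwa [← range_ins, LinearMap.mem_range] at hx

theorem cr_Ln {i : J} {c φ : Fin k → F} (hφ : φ ⬝ᵥ c = 0) {x : (J → Fin k) → F} (hx : x ∈ Ln i c) :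
    cr i φ x = 0 := by
  obtain ⟨w, rfl⟩ := mem_Ln_ins hx
  rw [cr_ins, hφ, zero_smul]

theorem mem_Ln_of_cr {i : J} {c : Fin k → F} (hc : c ≠ 0) {x : (J → Fin k) → F}
    (h : ∀ φ : Fin k → F, φ ⬝ᵥ c = 0 → cr i φ x = 0) : x ∈ Ln i c :=
  mem_Ln.2 (mem_line_of_ctr hc h)

theorem mem_perp_cr (h : SF σ ε f) {i : J} {c : Fin k → F} {x : (J → Fin k) → F} :
    x ∈ (Bt_sf (J := J) h).perp (Ln i c) ↔ cr i (frow f c) x = 0 := mem_perp_Ln h

theorem Bt_ins (h : SF σ ε f) (i : J) (x : (J → Fin k) → F) (w : Rest i k → F) (v : Fin k → F) :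
    Bt σ f x (ins i v w) = Bt σ f (cr i (frow f v) x) w := Bt_split h i x w v

theorem SF.frow_add (h : SF σ ε f) (c d : Fin k → F) : frow f (c + d) = frow f c + frow f d :=
  funext fun a => h.add_right _ c d

theorem SF.frow_smul (h : SF σ ε f) (a : F) (c : Fin k → F) : frow f (a • c) = σ a • frow f c :=
  funext fun b => h.smul_right a _ c

theorem SF.frow_surj (h : SF σ ε f) (hσ : ∀ a, σ a = a) (φ : Fin k → F) : ∃ c, frow f c = φ := by
  let L : (Fin k → F) →ₗ[F] Fin k → F :=
    { toFun := frow f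
      map_add' := h.frow_add
      map_smul' := fun a c => by rw [h.frow_smul, hσ]; rfl }
  have hinj : Function.Injective L := by
    rw [← LinearMap.ker_eq_bot, LinearMap.ker_eq_bot']
    intro c hc
    refine h.nondeg c fun y => h.comm.1 ?_
    rw [← h.frow_dot c y, show frow f c = 0 from hc, zero_dotProduct]
  exact LinearMap.surjective_of_injective hinj φ

/-- A member of one slot. -/
theorem mv_fac_ins (i : J) (T : GL (Fin k) F) (v : Fin k → F) (w : Rest i k → F) :
    mv (fac i T) (ins i v w) = ins i (mv T v) w := by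
  apply (push i).injective
  rw [← mv_tg, tg_fac, ins_apply, ins_apply, LinearEquiv.apply_symm_apply, LinearEquiv.apply_symm_apply,
    mv_kronGL, mv_one]

/-- Maps agreeing on every slot vector agree. -/
theorem ext_ins {V : Type*} [AddCommGroup V] [Module F V] (i : J) {L L' : ((J → Fin k) → F) →ₗ[F] V}
    (H : ∀ v w, L (ins i v w) = L' (ins i v w)) : L = L' := by
  have e : L.comp (push i).symm.toLinearMap = L'.comp (push i).symm.toLinearMap :=
    ext_ten fun w v => H v w
  refine LinearMap.ext fun x => ?_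
  have := LinearMap.congr_fun e (push i x)
  simpa using this

/-- Members agreeing on every slot vector agree. -/
theorem ext_ins_mv (i : J) {g g' : GL (J → Fin k) F}
    (H : ∀ v w, mv g (ins i v w) = mv g' (ins i v w)) : g = g' := by
  have e : mvLin g = mvLin g' := ext_ins i fun v w => H v w
  exact ext_mv fun x => LinearMap.congr_fun e x

theorem cr_fac (i : J) (T : GL (Fin k) F) {φ φ' : Fin k → F} (hT : ∀ v, φ ⬝ᵥ mv T v = φ' ⬝ᵥ v)
    (x : (J → Fin k) → F) : cr i φ (mv (fac i T) x) = cr i φ' x := by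
  have e : (cr i φ).comp (mvLin (fac i T)) = cr i φ' := ext_ins i fun v w => by
    show cr i φ (mv (fac i T) (ins i v w)) = _
    rw [mv_fac_ins, cr_ins, cr_ins, hT]
  exact LinearMap.congr_fun e x

/-- The element x ↦ x + s N x of a root is a member of one slot. -/
theorem eq_fac_rootT (h : SF σ ε f) {i : J} {c : Fin k → F} (hc : f c c = 0) {s : F}
    {g : GL (J → Fin k) F} (hg : ∀ x, mv g x = x + s • rootN f 1 i c x) : g = fac i (rootT h c hc s) :=
  ext_ins_mv i fun v w => by
    rw [hg, mv_fac_ins, mv_rootT, ins_add_vec, ins_smul_vec, rootN_eq, one_smul, cr_ins, h.frow_dot,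
      map_smul, smul_smul]

/-- The range of a member of one slot, when it is no larger than a line, is a line of that slot. -/
theorem range_fac {i : J} (T : GL (Fin k) F) {S : Submodule F ((J → Fin k) → F)}
    (hS : ∀ x, mv (fac i T) x - x ∈ S) (hdim : Module.finrank F ↥S = Fintype.card (Rest i k))
    (hT : T ≠ 1) : ∃ e, e ≠ 0 ∧ S = Ln i e := by
  obtain ⟨v, hv⟩ : ∃ v, mv T v - v ≠ 0 := by
    by_contra hcon
    push Not at hcon
    exact hT (ext_mv fun v => by rw [mv_one, sub_eq_zero.1 (hcon v)])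
  refine ⟨_, hv, (Submodule.eq_of_le_of_finrank_le ?_ (by rw [hdim, finrank_Ln i hv])).symm⟩
  intro x hx
  obtain ⟨w, rfl⟩ := mem_Ln_ins hx
  have h1 := hS (ins i v w)
  rwa [mv_fac_ins, ← ins_sub_vec] at h1

/-- A member of one slot scaling c by a and a partner by its inverse. -/
theorem exists_torus (h : SF σ ε f) (hσ : ∀ a, σ a = a) (hε : ε = -1) {c d : Fin k → F} (hc : f c c = 0)
    (hd : f d d = 0) (hdc : f d c = 1) {M : Subgroup (GL (J → Fin k) F)} (hM : FacSU f M) (i : J) {a : F}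
    (ha : a ≠ 0) :
    ∃ T : GL (Fin k) F, fac i T ∈ M ∧ (∀ x y, f (mv T x) (mv T y) = f x y) ∧ mv T c = a • c ∧
      mv T d = a⁻¹ • d ∧ ∀ v, f v c = 0 → f v d = 0 → mv T v = v := by
  have hs : ∀ s : F, σ s = -(ε * s) := fun s => by rw [hσ, hε, neg_one_mul, neg_neg]
  have hmem : ∀ {e : Fin k → F} (he : f e e = 0) (s : F), fac i (rootT h e he s) ∈ M := fun he s =>
    hM i _ (rootT_mem h _ he (hs s)).1 (rootT_mem h _ he (hs s)).2
  have hcd : f c d = -1 := by rw [h.symm, hdc, map_one, hε, mul_one]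
  have tc : ∀ r, mv (rootT h c hc r) c = c ∧ mv (rootT h c hc r) d = d + r • c ∧
      mv (rootT h d hd r) c = c + (-r) • d ∧ mv (rootT h d hd r) d = d := fun r => by
    refine ⟨?_, ?_, ?_, ?_⟩ <;> rw [mv_rootT]
    · rw [hc, mul_zero, zero_smul, add_zero]
    · rw [hdc, mul_one]
    · rw [hcd, mul_neg_one]
    · rw [hd, mul_zero, zero_smul, add_zero]
  set W : F → GL (Fin k) F := fun r => rootT h c hc r * rootT h d hd r⁻¹ * rootT h c hc r with hW
  have hWc : ∀ r, r ≠ 0 → mv (W r) c = (-r⁻¹) • d := fun r hr => by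
    have e : (-r⁻¹) * r = -1 := by rw [neg_mul, inv_mul_cancel₀ hr]
    simp only [hW, mv_mul, (tc r).1, (tc r⁻¹).2.2.1, mv_add, mv_smul, (tc r).2.1, smul_add, smul_smul, e,
      neg_one_smul]
    abel
  have hWd : ∀ r, r ≠ 0 → mv (W r) d = r • c := fun r hr => by
    simp only [hW, mv_mul]
    rw [(tc r).2.1, mv_add, mv_smul, (tc r⁻¹).2.2.1, (tc r⁻¹).2.2.2]
    rw [smul_add, smul_smul, mul_neg, mul_inv_cancel₀ hr, neg_one_smul,
      show d + (r • c + -d) = r • c by abel, mv_smul, (tc r).1]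
  have hW0 : ∀ r v, f v c = 0 → f v d = 0 → mv (W r) v = v := fun r v h1 h2 => by
    simp only [hW, mv_mul, mv_rootT, h1, h2, mul_zero, zero_smul, add_zero]
  have hWi : ∀ r x y, f (mv (W r) x) (mv (W r) y) = f x y := fun r x y => by
    simp only [hW, mv_mul]
    rw [(rootT_mem h c hc (hs r)).1, (rootT_mem h d hd (hs _)).1, (rootT_mem h c hc (hs r)).1]
  refine ⟨W a * W (-1), ?_, fun x y => ?_, ?_, ?_, fun v h1 h2 => ?_⟩
  · simp only [hW, fac_mul]
    exact M.mul_mem (M.mul_mem (M.mul_mem (hmem hc _) (hmem hd _)) (hmem hc _))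
      (M.mul_mem (M.mul_mem (hmem hc _) (hmem hd _)) (hmem hc _))
  · rw [mv_mul (W a), mv_mul (W a), hWi, hWi]
  · rw [mv_mul, hWc _ (neg_ne_zero.2 one_ne_zero), mv_smul, hWd a ha, smul_smul]
    simp
  · rw [mv_mul, hWd _ (neg_ne_zero.2 one_ne_zero), mv_smul, hWc a ha, smul_smul]
    simp
  · rw [mv_mul, hW0 _ v h1 h2, hW0 a v h1 h2]

end Cfsg.Agent.FormWreath
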