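/-
With scalar radicals and middles a member sending a line to a line of the same slot sends every line of that
slot to a line.
-/
import Cfsg.Agent.Lib.FormWreath.Slot

set_option autoImplicit false
set_option linter.unusedSectionVars false

namespace Cfsg.Agent.FormWreath

open scoped Matrix
open Matrix Cfsg.Agent.Transvec Cfsg.Agent.TensorMax Cfsg.Agent.WreathMax

variable {F : Type*} [Field F] {k : ℕ} {f : (Fin k → F) → (Fin k → F) → F}
variable {J : Type} [Fintype J] [DecidableEq J] {M : Subgroup (GL (J → Fin k) F)}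

local notation "σ₁" => RingEquiv.refl F

/-- The hypotheses: similitudes of a tensor power of an alternating form, containing the isometries of every
slot, with scalar radicals and middles. -/
structure Rig (f : (Fin k → F) → (Fin k → F) → F) (M : Subgroup (GL (J → Fin k) F)) : Prop where
  hf : SF σ₁ (-1) f
  alt : ∀ v, f v v = 0
  hk : 2 ≤ k
  hq : k = 2 → ∃ a : F, a ≠ 0 ∧ a * a ≠ 1
  sim : ∀ g ∈ M, Sim (Bt (J := J) σ₁ f) g
  hM : FacSU f M
  rad : ScalarRad hf M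
  mid : ∀ (i : J) (c : Fin k → F), c ≠ 0 → ∀ g ∈ M,
    (∀ x y, Bt σ₁ f (mv g x) (mv g y) = Bt σ₁ f x y) → (∀ x ∈ Ln i c, mv g x = x) →
    (∀ x ∈ (Bt_sf (J := J) hf).perp (Ln i c), mv g x - x ∈ Ln i c) →
      ∃ φ : Fin k → F, φ ⬝ᵥ c = 0 ∧ ∀ x ∈ (Bt_sf (J := J) hf).perp (Ln i c), mv g x = x + rk i c φ x

namespace Rig

variable (C : Rig f M)
include C

theorem hB : SF σ₁ ((-1 : F) ^ Fintype.card J) (Bt (J := J) σ₁ f) := Bt_sf C.hf

theorem partner {c : Fin k → F} (hc : c ≠ 0) : ∃ d, f d c = 1 := by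
  obtain ⟨y, hy⟩ : ∃ y, f y c ≠ 0 := by
    by_contra hcon
    push Not at hcon
    exact hc (C.hf.nondeg c fun y => C.hf.comm.1 (hcon y))
  exact ⟨(f y c)⁻¹ • y, by rw [C.hf.smul_left, inv_mul_cancel₀ hy]⟩

theorem root {i : J} {c : Fin k → F} (hc : c ≠ 0) : Rt (Bt_sf C.hf) M (Ln i c) (rootN f 1 i c) :=
  Rt_rootN C.hf C.hM hc (C.alt c) one_ne_zero (by simp)

theorem root_mem (i : J) (c : Fin k → F) (r : F) :
    ∃ t ∈ M, ∀ x, mv t x = x + r • ins i c (cr i (frow f c) x) := by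
  by_cases hc : c = 0
  · refine ⟨1, M.one_mem, fun x => ?_⟩
    rw [mv_one, hc, ← zero_smul F (0 : Fin k → F), ins_smul_vec, zero_smul, smul_zero, add_zero]
  obtain ⟨t, ht, htx⟩ := (C.root hc).mem r (RingEquiv.refl_apply F r)
  exact ⟨t, ht, fun x => by rw [htx, rootN_eq, one_smul]⟩

theorem isom_conj {g t : GL (J → Fin k) F} (hg : g ∈ M)
    (ht : ∀ x y, Bt σ₁ f (mv t x) (mv t y) = Bt σ₁ f x y) (x y : (J → Fin k) → F) :
    Bt σ₁ f (mv (g * t * g⁻¹) x) (mv (g * t * g⁻¹) y) = Bt σ₁ f x y := by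
  obtain ⟨μ, -, hμ⟩ := C.sim g hg
  rw [mv_mul, mv_mul, mv_mul, mv_mul, hμ, ht, ← hμ, mv_mv_inv, mv_mv_inv]

/-- Roots are isometries of one slot. -/
theorem root_fac (i : J) (c : Fin k → F) (r : F) :
    fac i (rootT C.hf c (C.alt c) r) ∈ M ∧
      (∀ x, mv (fac i (rootT C.hf c (C.alt c) r)) x = x + r • ins i c (cr i (frow f c) x)) ∧
      ∀ x y, Bt σ₁ f (mv (fac i (rootT C.hf c (C.alt c) r)) x) (mv (fac i (rootT C.hf c (C.alt c) r)) y) =
        Bt σ₁ f x y := by
  obtain ⟨t, ht, htx⟩ := C.root_mem i c r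
  have e : t = fac i (rootT C.hf c (C.alt c) r) :=
    eq_fac_rootT C.hf (C.alt c) fun x => by rw [htx, rootN_eq, one_smul]
  subst e
  refine ⟨ht, htx, fun x y => ?_⟩
  rw [htx, htx, C.hB.add_left, C.hB.add_right, C.hB.add_right, C.hB.smul_left, C.hB.smul_left,
    C.hB.smul_right, C.hB.smul_right]
  by_cases hc : c = 0
  · simp [hc, ins_apply, ten_zero_right, C.hB.zero_left, C.hB.zero_right]
  have R := C.root (i := i) hc
  have h1 := R.skew x y
  have h2 : Bt σ₁ f (ins i c (cr i (frow f c) x)) (ins i c (cr i (frow f c) y)) = 0 :=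
    R.iso (ins_mem i c _) _ (ins_mem i c _)
  simp only [rootN_eq, one_smul] at h1
  rw [h2]
  simp only [RingEquiv.refl_apply]
  linear_combination r * h1

/-- An isometry fixing the orthogonal of a line is a member of that slot. -/
theorem fac_of_fix {i : J} {c : Fin k → F} (hc : c ≠ 0) {g : GL (J → Fin k) F} (hg : g ∈ M)
    (hiso : ∀ x y, Bt σ₁ f (mv g x) (mv g y) = Bt σ₁ f x y)
    (hfix : ∀ x, cr i (frow f c) x = 0 → mv g x = x) : ∃ s, g = fac i (rootT C.hf c (C.alt c) s) := by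
  have hp : ∀ x ∈ (Bt_sf (J := J) C.hf).perp (Ln i c), mv g x = x := fun x hx =>
    hfix x ((mem_perp_cr C.hf).1 hx)
  have hdisp : ∀ x, mv g x - x ∈ Ln i c := fun x => by
    rw [← C.hB.perp_perp (Ln i c), C.hB.mem_perp]
    intro y hy
    have e := hiso x y
    rw [hp y hy] at e
    rw [C.hB.sub_left, e, sub_self]
  obtain ⟨s, hs⟩ := C.rad i c hc (C.alt c) g hg hp hdisp
  exact ⟨s, eq_fac_rootT C.hf (C.alt c) hs⟩

/-- An isometry fixing a line and trivial on its middle is a member of that slot. -/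
theorem fac_of_mid {i : J} {c : Fin k → F} (hc : c ≠ 0) {g : GL (J → Fin k) F} (hg : g ∈ M)
    (hiso : ∀ x y, Bt σ₁ f (mv g x) (mv g y) = Bt σ₁ f x y) (hfix : ∀ w, mv g (ins i c w) = ins i c w)
    (hmid : ∀ x, cr i (frow f c) x = 0 → mv g x - x ∈ Ln i c) : ∃ T, g = fac i T := by
  obtain ⟨φ, hφ, hφx⟩ := C.mid i c hc g hg hiso
    (fun x hx => by obtain ⟨w, rfl⟩ := mem_Ln_ins hx; exact hfix w)
    (fun x hx => hmid x ((mem_perp_cr C.hf).1 hx))
  obtain ⟨z, hz⟩ := C.hf.frow_surj (RingEquiv.refl_apply F) φ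
  have hcz : f c z = 0 := by rw [← C.hf.frow_dot, hz, hφ]
  have hzc : f z c = 0 := C.hf.comm.1 hcz
  obtain ⟨h1, h1x, h1i⟩ := C.root_fac i (z + c) 1
  obtain ⟨h2, h2x, h2i⟩ := C.root_fac i z (-1)
  set E := fac i (rootT C.hf (z + c) (C.alt _) 1) * fac i (rootT C.hf z (C.alt _) (-1)) with hE
  have hEm : E ∈ M := M.mul_mem h1 h2
  have hEx : ∀ x, cr i (frow f c) x = 0 → mv E x = x + ins i c (cr i φ x) := fun x hx => by
    have e1 : cr i (frow f (z + c)) x = cr i φ x := by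
      rw [C.hf.frow_add, hz]
      show ctr (φ + frow f c) (push i x) = _
      rw [ctr_add_vec, LinearMap.add_apply]
      show cr i φ x + cr i (frow f c) x = _
      rw [hx, add_zero]
    rw [hE, mv_mul, h2x, h1x, map_add, map_smul, cr_ins, C.hf.frow_dot, C.hf.add_right, C.alt, hzc, add_zero,
      zero_smul, smul_zero, add_zero, e1, hz, ins_add_vec]
    module
  have hEi : ∀ x y, Bt σ₁ f (mv E⁻¹ x) (mv E⁻¹ y) = Bt σ₁ f x y := fun x y => by
    conv_rhs => rw [← mv_mv_inv E x, ← mv_mv_inv E y]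
    rw [hE, mv_mul _ _ (mv _ x), mv_mul _ _ (mv _ y), h1i, h2i]
  obtain ⟨s, hs⟩ := C.fac_of_fix hc (M.mul_mem (M.inv_mem hEm) hg)
    (fun x y => by rw [mv_mul, mv_mul, hEi, hiso]) (fun x hx => by
      rw [mv_mul, hφx x ((mem_perp_cr C.hf).2 hx), rk_eq, ← hEx x hx, mv_inv_mv])
  refine ⟨rootT C.hf (z + c) (C.alt _) 1 * rootT C.hf z (C.alt _) (-1) * rootT C.hf c (C.alt c) s, ?_⟩
  rw [fac_mul, fac_mul, ← hE, ← hs, mul_inv_cancel_left]

/-- The action on a line mapped to a line. -/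
theorem coords {g : GL (J → Fin k) F} (hg : g ∈ M) {i : J} {c c' : Fin k → F} (hc : c ≠ 0) (hc' : c' ≠ 0)
    (hmap : (Ln i c).map (mvLin g) = Ln i c') :
    ∃ (B : (Rest i k → F) →ₗ[F] Rest i k → F) (a μ : F), a ≠ 0 ∧ μ ≠ 0 ∧ Function.Bijective B ∧
      (∀ w, mv g (ins i c w) = ins i c' (B w)) ∧
      (∀ y, B (cr i (frow f c) y) = a • cr i (frow f c') (mv g y)) ∧
      (∀ x y, Bt σ₁ f (mv g x) (mv g y) = μ * Bt σ₁ f x y) ∧
      ∀ u w, Bt σ₁ f (B u) (B w) = a * μ * Bt σ₁ f u w := by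
  obtain ⟨θ, hθ⟩ := exists_dot_one hc'
  set B : (Rest i k → F) →ₗ[F] Rest i k → F := (cr i θ).comp ((mvLin g).comp (ins i c)) with hBdef
  have hB : ∀ w, mv g (ins i c w) = ins i c' (B w) := fun w => by
    obtain ⟨u, hu⟩ := mem_Ln_ins (hmap ▸ (mem_map_gl.2 ⟨_, ins_mem i c w, rfl⟩ :
      mv g (ins i c w) ∈ (Ln i c).map (mvLin g)))
    have : B w = u := by
      show cr i θ (mv g (ins i c w)) = u
      rw [← hu, cr_ins, hθ, one_smul]
    rw [this, hu]
  have hBinj : Function.Injective B := fun u w e =>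
    ins_injective i hc (mv_inj g (by rw [hB, hB, e]))
  have hBsurj : Function.Surjective B := LinearMap.surjective_of_injective hBinj
  obtain ⟨μ, hμ0, hμ⟩ := C.sim g hg
  have R' := (C.root (i := i) hc).conj hg (C.sim g hg)
  rw [hmap] at R'
  obtain ⟨a, ha⟩ := root_eq C.hf C.rad hc' (C.alt c') R'
  have hkey : ∀ y, B (cr i (frow f c) y) = a • cr i (frow f c') (mv g y) := fun y => by
    have e := ha (mv g y)
    change mv g (rootN f 1 i c (mv g⁻¹ (mv g y))) = _ at e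
    rw [mv_inv_mv, rootN_eq, one_smul, hB, rootN_eq, one_smul, ← map_smul] at e
    exact ins_injective i hc' e
  obtain ⟨d, hd⟩ := C.partner hc
  have hcd : ∀ u, cr i (frow f c) (ins i d u) = u := fun u => by rw [cr_ins, C.hf.frow_dot, hd, one_smul]
  have ha0 : a ≠ 0 := fun h0 => by
    have hne : Nonempty (Rest (J := J) i k) := ⟨fun _ => ⟨0, by have := C.hk; omega⟩⟩
    obtain ⟨r⟩ := hne
    have := hkey (ins i d (Pi.single r 1))
    rw [hcd, h0, zero_smul, ← map_zero B] at this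
    exact Pi.single_ne_zero_iff.2 one_ne_zero (hBinj this)
  refine ⟨B, a, μ, ha0, hμ0, ⟨hBinj, hBsurj⟩, hB, hkey, hμ, fun u w => ?_⟩
  have e := hμ (ins i d u) (ins i c w)
  rw [hB, Bt_ins C.hf, Bt_ins C.hf, hcd] at e
  have e2 : B u = a • cr i (frow f c') (mv g (ins i d u)) := by rw [← hkey, hcd]
  rw [e2, (Bt_sf C.hf).smul_left, e, mul_assoc]

/-- A line orthogonal to one sent to a line of the same slot is sent to a line of that slot. -/
theorem line_image {g : GL (J → Fin k) F} (hg : g ∈ M) {i : J} {c c' : Fin k → F} (hc : c ≠ 0) (hc' : c' ≠ 0)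
    (hmap : (Ln i c).map (mvLin g) = Ln i c') {v : Fin k → F} (hv0 : v ≠ 0) (hv : f v c = 0) :
    ∃ e, e ≠ 0 ∧ (Ln i v).map (mvLin g) = Ln i e := by
  classical
  by_cases hvc : v ∈ Submodule.span F {c}
  · obtain ⟨r, rfl⟩ := Submodule.mem_span_singleton.1 hvc
    refine ⟨c', hc', ?_⟩
    rw [← hmap]
    congr 1
    obtain ⟨y, hy, hy0⟩ : ∃ y ∈ Ln i c, y ≠ 0 := by
      obtain ⟨s⟩ : Nonempty (Rest (J := J) i k) := ⟨fun _ => ⟨0, by have := C.hk; omega⟩⟩
      exact ⟨_, ins_mem i c (Pi.single s 1), fun h => Pi.single_ne_zero_iff.2 one_ne_zero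
        (ins_injective i hc (h.trans (map_zero _).symm))⟩
    obtain ⟨w, rfl⟩ := mem_Ln_ins hy
    refine Ln_eq_of_meet hy0 ?_ hy
    have hr : r ≠ 0 := (smul_ne_zero_iff.1 hv0).1
    rw [show ins i c w = ins i (r • c) (r⁻¹ • w) by
      rw [ins_smul_vec, map_smul, smul_smul, mul_inv_cancel₀ hr, one_smul]]
    exact ins_mem _ _ _
  obtain ⟨B, a, μ, ha, hμ0, hBbij, hB, hkey, hμ, hBt⟩ := C.coords hg hc hc' hmap
  have hB' : ∀ w, mv g⁻¹ (ins i c' (B w)) = ins i c w := fun w => by rw [← hB, mv_inv_mv]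
  have hperp : ∀ y, cr i (frow f c) y = 0 ↔ cr i (frow f c') (mv g y) = 0 := fun y => by
    constructor
    · intro h
      have := hkey y
      rw [h, map_zero, eq_comm, smul_eq_zero] at this
      exact this.resolve_left ha
    · intro h
      exact hBbij.1 (by rw [hkey, h, smul_zero, map_zero])
  -- the middle of g
  have hmid : ∀ z, f z c' = 0 → ∃ φ : Fin k → F, ∀ y, cr i (frow f c) y = 0 →
      cr i (frow f z) (mv g y) = B (cr i φ y) := by
    intro z hz
    obtain ⟨h1, h1x, h1i⟩ := C.root_fac i (z + c') 1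
    obtain ⟨h2, h2x, h2i⟩ := C.root_fac i z (-1)
    set E := fac i (rootT C.hf (z + c') (C.alt _) 1) * fac i (rootT C.hf z (C.alt _) (-1)) with hE
    have hEm : E ∈ M := M.mul_mem h1 h2
    have hEx : ∀ x, cr i (frow f c') x = 0 → mv E x = x + ins i c' (cr i (frow f z) x) := fun x hx => by
      have e1 : cr i (frow f (z + c')) x = cr i (frow f z) x := by
        rw [C.hf.frow_add]
        show ctr (frow f z + frow f c') (push i x) = _
        rw [ctr_add_vec, LinearMap.add_apply]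
        show cr i (frow f z) x + cr i (frow f c') x = _
        rw [hx, add_zero]
      rw [hE, mv_mul, h2x, h1x, map_add, map_smul, cr_ins, C.hf.frow_dot, C.hf.add_right, C.alt, hz, add_zero,
        zero_smul, smul_zero, add_zero, e1, ins_add_vec]
      module
    have hconj : ∀ y, cr i (frow f c) y = 0 →
        ∃ w, B w = cr i (frow f z) (mv g y) ∧ mv (g⁻¹ * E * g) y = y + ins i c w := fun y hy => by
      obtain ⟨w, hw⟩ := hBbij.2 (cr i (frow f z) (mv g y))
      refine ⟨w, hw, ?_⟩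
      rw [mv_mul, mv_mul, hEx _ ((hperp y).1 hy), mv_add, mv_inv_mv, ← hw, hB']
    have hEi : ∀ x y, Bt σ₁ f (mv E x) (mv E y) = Bt σ₁ f x y := fun x y => by
      rw [hE, mv_mul _ _ x, mv_mul _ _ y, h1i, h2i]
    obtain ⟨φ, -, hφ⟩ := C.mid i c hc (g⁻¹ * E * g)
      (M.mul_mem (M.mul_mem (M.inv_mem hg) hEm) hg)
      (fun x y => by
        have := C.isom_conj (M.inv_mem hg) hEi x y
        rwa [inv_inv] at this)
      (fun x hx => by
        obtain ⟨w, rfl⟩ := mem_Ln_ins hx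
        rw [mv_mul, mv_mul, hB, hEx _ (by rw [cr_ins, C.hf.frow_dot, C.alt, zero_smul]), cr_ins,
          C.hf.frow_dot, C.hf.comm.1 hz, zero_smul, map_zero, add_zero, hB'])
      (fun x hx => by
        obtain ⟨w, -, hw⟩ := hconj x ((mem_perp_cr C.hf).1 hx)
        rw [hw, add_sub_cancel_left]
        exact ins_mem i c w)
    refine ⟨φ, fun y hy => ?_⟩
    obtain ⟨w, hw, hwy⟩ := hconj y hy
    have e := hφ y ((mem_perp_cr C.hf).2 hy)
    rw [hwy, add_right_inj, rk_eq] at e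
    rw [← hw, ins_injective i hc e]
  -- the image of v in the middle
  obtain ⟨s⟩ : Nonempty (Rest (J := J) i k) := ⟨fun _ => ⟨0, by have := C.hk; omega⟩⟩
  set w₀ : Rest i k → F := Pi.single s 1
  have hw₀ : w₀ ≠ 0 := Pi.single_ne_zero_iff.2 one_ne_zero
  obtain ⟨ξ, hξ⟩ := exists_dot_one (c := B w₀) fun h => hw₀ (hBbij.1 (h.trans (map_zero B).symm))
  have hvperp : ∀ w, cr i (frow f c) (ins i v w) = 0 := fun w => by
    rw [cr_ins, C.hf.frow_dot, hv, zero_smul]
  set v₁ : Fin k → F := ctrL ξ (push i (mv g (ins i v w₀))) with hv₁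
  have hdot : ∀ φ : Fin k → F, φ ⬝ᵥ v₁ = ξ ⬝ᵥ cr i φ (mv g (ins i v w₀)) := fun φ => dot_ctrL φ ξ _
  have hv₁c : f v₁ c' = 0 := by
    rw [← C.hf.frow_dot, hdot, (hperp _).1 (hvperp w₀), dotProduct_zero]
  have hD : ∀ w, mv g (ins i v w) - ins i v₁ (B w) ∈ Ln i c' := fun w => by
    refine mem_Ln_of_cr hc' fun φ hφ => ?_
    obtain ⟨z, rfl⟩ := C.hf.frow_surj (RingEquiv.refl_apply F) φ
    have hz : f z c' = 0 := C.hf.comm.1 (by rw [← C.hf.frow_dot]; exact hφ)
    obtain ⟨ψ, hψ⟩ := hmid z hz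
    have e : frow f z ⬝ᵥ v₁ = ψ ⬝ᵥ v := by
      rw [hdot, hψ _ (hvperp w₀), cr_ins, map_smul, dotProduct_smul, hξ, smul_eq_mul, mul_one]
    rw [map_sub, hψ _ (hvperp w), cr_ins, cr_ins, e, map_smul, sub_self]
  have hv₁' : v₁ ∉ Submodule.span F {c'} := fun hm => by
    obtain ⟨r, hr⟩ := Submodule.mem_span_singleton.1 hm
    have h1 := Submodule.add_mem _ (hD w₀)
      (show ins i v₁ (B w₀) ∈ Ln i c' by
        rw [← hr, ins_smul_vec]
        exact Submodule.smul_mem _ _ (ins_mem _ _ _))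
    rw [sub_add_cancel, ← hmap, mem_map_gl] at h1
    obtain ⟨y, hy, e⟩ := h1
    obtain ⟨w, rfl⟩ := mem_Ln_ins hy
    have e' := mv_inj g e
    obtain ⟨θ, hθc, hθv⟩ := exists_dot (W := Submodule.span F {c}) hvc
    have := congrArg (cr i θ) e'
    rw [cr_ins, cr_ins, hθv, hθc c (Submodule.mem_span_singleton_self c), zero_smul, one_smul] at this
    exact hw₀ this.symm
  -- contraction by the image
  have hcr : ∀ y, cr i (frow f c) y = 0 → cr i (frow f v₁) (mv g y) = a⁻¹ • B (cr i (frow f v) y) := by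
    intro y hy
    rw [← sub_eq_zero]
    refine (Bt_sf C.hf).nondeg _ fun u => ?_
    obtain ⟨w, rfl⟩ := hBbij.2 u
    obtain ⟨D, hDL, hDe⟩ : ∃ D ∈ Ln i c', mv g (ins i v w) = ins i v₁ (B w) + D :=
      ⟨_, hD w, by abel⟩
    obtain ⟨d, rfl⟩ := mem_Ln_ins hDL
    have e := hμ y (ins i v w)
    rw [hDe, C.hB.add_right, Bt_ins C.hf, Bt_ins C.hf, Bt_ins C.hf, (hperp y).1 hy, (Bt_sf C.hf).zero_left,
      add_zero] at e
    rw [(Bt_sf C.hf).sub_left, (Bt_sf C.hf).smul_left, hBt, e]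
    field_simp
    ring
  -- the conjugate of the root of v
  obtain ⟨ht, htx, hti⟩ := C.root_fac i v 1
  set t := fac i (rootT C.hf v (C.alt v) 1) with htdef
  obtain ⟨hh, hhx, hhi⟩ := C.root_fac i v₁ (-a)
  set h₀ := fac i (rootT C.hf v₁ (C.alt v₁) (-a)) with hh₀
  set k₁ := g * t * g⁻¹ with hk₁
  have hk₁x : ∀ x, mv k₁ x = x + mv g (ins i v (cr i (frow f v) (mv g⁻¹ x))) := fun x => by
    rw [hk₁, mv_mul, mv_mul, htx, one_smul, mv_add, mv_mv_inv]
  have hcv : frow f v ⬝ᵥ c = 0 := by rw [C.hf.frow_dot]; exact C.hf.comm.1 hv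
  obtain ⟨T, hT⟩ := C.fac_of_mid hc' (g := h₀ * k₁) (M.mul_mem hh (M.mul_mem (M.mul_mem hg ht) (M.inv_mem hg)))
    (fun x y => by rw [mv_mul h₀, mv_mul h₀, hhi, hk₁, C.isom_conj hg hti])
    (fun w => by
      obtain ⟨u, rfl⟩ := hBbij.2 w
      rw [mv_mul h₀, hk₁x, hB', cr_ins, hcv, zero_smul, map_zero, mv_zero, add_zero, hhx, cr_ins,
        C.hf.frow_dot, C.hf.comm.1 hv₁c, zero_smul, map_zero, smul_zero, add_zero])
    (fun x hx => by
      set y := mv g⁻¹ x
      have hgy : mv g y = x := mv_mv_inv g x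
      have hy : cr i (frow f c) y = 0 := (hperp y).2 (by rw [hgy]; exact hx)
      have e := hcr y hy
      rw [hgy] at e
      obtain ⟨D, hDL, hDe⟩ : ∃ D ∈ Ln i c', mv g (ins i v (cr i (frow f v) y)) =
          ins i v₁ (B (cr i (frow f v) y)) + D := ⟨_, hD _, by abel⟩
      have hBy : B (cr i (frow f v) y) = a • cr i (frow f v₁) x := by
        rw [e, smul_smul, mul_inv_cancel₀ ha, one_smul]
      rw [mv_mul h₀, hk₁x, hhx, hDe, hBy]
      have hDz := cr_Ln (φ := frow f v₁) (by rw [C.hf.frow_dot]; exact C.hf.comm.1 hv₁c) hDL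
      simp only [map_add, cr_ins, C.hf.frow_dot, C.alt, zero_smul, map_zero, smul_zero, hDz, add_zero, map_smul]
      convert hDL using 1
      module)
  have hk₁f : k₁ = fac i ((rootT C.hf v₁ (C.alt v₁) (-a))⁻¹ * T) := by
    rw [fac_mul, ← fac_inv, ← hh₀, ← hT, inv_mul_cancel_left]
  refine range_fac ((rootT C.hf v₁ (C.alt v₁) (-a))⁻¹ * T) (fun x => ?_)
    (by rw [finrank_map_gl, finrank_Ln i hv0]) fun h1 => ?_
  · rw [← hk₁f, hk₁x, add_sub_cancel_left]
    exact mem_map_gl.2 ⟨_, ins_mem i v _, rfl⟩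
  · rw [h1, fac_one] at hk₁f
    obtain ⟨d, hd⟩ := C.partner hv0
    have e := hk₁x (mv g (ins i d w₀))
    rw [hk₁f, mv_one, mv_inv_mv, cr_ins, C.hf.frow_dot, hd, one_smul, left_eq_add] at e
    exact hw₀ (ins_injective i hv0 (mv_inj g (e.trans (by rw [map_zero, mv_zero]))))

/-- Slot members of isometries of the form are isometries. -/
theorem fac_isom (i : J) {T : GL (Fin k) F} (hT : ∀ x y, f (mv T x) (mv T y) = f x y) (x y : (J → Fin k) → F) :
    Bt σ₁ f (mv (fac i T) x) (mv (fac i T) y) = Bt σ₁ f x y := by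
  have e : (C.hB.formL (mv (fac i T) x)).comp (mvLin (fac i T)) = C.hB.formL x := ext_ins i fun v w => by
    show Bt σ₁ f (mv (fac i T) (ins i v w)) (mv (fac i T) x) = Bt σ₁ f (ins i v w) x
    have e2 : cr i (frow f (mv T v)) (mv (fac i T) x) = cr i (frow f v) x :=
      cr_fac i T (fun u => by rw [C.hf.frow_dot, C.hf.frow_dot, hT]) x
    rw [C.hB.symm, mv_fac_ins, Bt_ins C.hf, e2, ← Bt_ins C.hf, ← C.hB.symm]
  rw [C.hB.symm, C.hB.symm x y]
  exact congrArg (fun z => _ * RingEquiv.refl F z) (LinearMap.congr_fun e y)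

theorem span_of_two (hk2 : k = 2) {c z : Fin k → F} (hc : c ≠ 0) (hz : f z c = 0) :
    z ∈ Submodule.span F {c} := by
  obtain ⟨d, hd⟩ := C.partner hc
  have hli : LinearIndependent F ![c, d] := by
    rw [LinearIndependent.pair_iff]
    intro r r' h
    have := congrArg (fun y => f y c) h
    simp only [C.hf.add_left, C.hf.smul_left, C.alt, hd, mul_zero, mul_one, zero_add, C.hf.zero_left] at this
    rw [this, zero_smul, add_zero] at h
    exact ⟨(smul_eq_zero.1 h).resolve_right hc, this⟩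
  have hsp := hli.span_eq_top_of_card_eq_finrank' (by simp [hk2])
  have hzm : z ∈ Submodule.span F (Set.range ![c, d]) := hsp ▸ Submodule.mem_top
  rw [Matrix.range_cons, Matrix.range_cons, Matrix.range_empty, Set.union_empty, Set.singleton_union] at hzm
  obtain ⟨r, r', rfl⟩ := Submodule.mem_span_pair.1 hzm
  rw [C.hf.add_left, C.hf.smul_left, C.hf.smul_left, C.alt, hd, mul_zero, mul_one, zero_add] at hz
  rw [hz, zero_smul, add_zero]
  exact Submodule.smul_mem _ _ (Submodule.mem_span_singleton_self c)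

/-- In rank one the torus of a pair moves the opposite line to a line of the slot. -/
theorem line_torus (hk2 : k = 2) {g : GL (J → Fin k) F} (hg : g ∈ M) {i : J} {c c' : Fin k → F} (hc : c ≠ 0)
    (hc' : c' ≠ 0) (hmap : (Ln i c).map (mvLin g) = Ln i c') {d : Fin k → F} (hd : f d c = 1) :
    ∃ e, e ≠ 0 ∧ (Ln i d).map (mvLin g) = Ln i e := by
  obtain ⟨a, ha, ha2⟩ := C.hq hk2
  have hd0 : d ≠ 0 := fun h => by rw [h, C.hf.zero_left] at hd; exact zero_ne_one hd
  obtain ⟨B, -, -, -, -, hBbij, hB, -, -, -⟩ := C.coords hg hc hc' hmap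
  obtain ⟨d', hd'⟩ := C.partner hc'
  obtain ⟨T, hTM, hTi, hTc, hTd, -⟩ :=
    exists_torus C.hf (fun _ => rfl) rfl (C.alt c) (C.alt d) hd C.hM i ha
  obtain ⟨T', hTM', hTi', hTc', hTd', -⟩ :=
    exists_torus C.hf (fun _ => rfl) rfl (C.alt c') (C.alt d') hd' C.hM i ha
  set k₁ := g * fac i T * g⁻¹ with hk₁
  have hk₁c : ∀ u, mv k₁ (ins i c' u) = a • ins i c' u := fun u => by
    obtain ⟨w, rfl⟩ := hBbij.2 u
    rw [hk₁, mv_mul, mv_mul, ← hB, mv_inv_mv, mv_fac_ins, hTc, ins_smul_vec, mv_smul]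
  have hinv : ∀ x y, Bt σ₁ f (mv (fac i T')⁻¹ x) (mv (fac i T')⁻¹ y) = Bt σ₁ f x y := fun x y => by
    conv_rhs => rw [← mv_mv_inv (fac i T') x, ← mv_mv_inv (fac i T') y, C.fac_isom i hTi']
  obtain ⟨s, hs⟩ := C.fac_of_fix hc' (g := (fac i T')⁻¹ * k₁)
    (M.mul_mem (M.inv_mem hTM') (M.mul_mem (M.mul_mem hg hTM) (M.inv_mem hg)))
    (fun x y => by rw [mv_mul _ k₁, mv_mul _ k₁, hinv, hk₁, C.isom_conj hg (C.fac_isom i hTi)])
    (fun x hx => by
      obtain ⟨u, rfl⟩ := mem_Ln_ins (mem_Ln_of_cr hc' fun φ hφ => by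
        obtain ⟨z, rfl⟩ := C.hf.frow_surj (fun _ => rfl) φ
        rw [C.hf.frow_dot] at hφ
        obtain ⟨r, rfl⟩ := Submodule.mem_span_singleton.1 (C.span_of_two hk2 hc' (C.hf.comm.1 hφ))
        rw [C.hf.frow_smul]
        show ctr (_ • frow f c') (push i x) = 0
        rw [ctr_smul_vec, LinearMap.smul_apply]
        show _ • cr i (frow f c') x = 0
        rw [hx, smul_zero])
      rw [mv_mul, hk₁c, show a • ins i c' u = mv (fac i T') (ins i c' u) by
        rw [mv_fac_ins, hTc', ins_smul_vec], mv_inv_mv])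
  set T'' := T' * rootT C.hf c' (C.alt c') s with hT''
  have hk₁f : k₁ = fac i T'' := by rw [fac_mul, ← hs, mul_inv_cancel_left]
  have ha' : a⁻¹ - a ≠ 0 := fun h => ha2 (by
    rw [sub_eq_zero] at h
    nth_rewrite 2 [← h]
    exact mul_inv_cancel₀ ha)
  have hcd' : f c' d' = -1 := by rw [C.hf.symm, hd']; simp
  have hc''T : mv T'' c' = a • c' := by
    rw [hT'', mv_mul, mv_rootT, C.alt, mul_zero, zero_smul, add_zero, hTc']
  have hd''T : mv T'' d' = a⁻¹ • d' + (s * a) • c' := by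
    rw [hT'', mv_mul, mv_rootT, hd', mul_one, mv_add, mv_smul, hTd', hTc', smul_smul]
  set e := d' + (s * a / (a⁻¹ - a)) • c' with he
  have he0 : e ≠ 0 := fun h => by
    have := congrArg (fun y => f y c') h
    rw [he] at this
    simp [C.hf.add_left, C.hf.smul_left, C.alt, hd', C.hf.zero_left] at this
  refine ⟨e, he0, Submodule.eq_of_le_of_finrank_le (fun x hx => ?_)
    (by rw [finrank_map_gl, finrank_Ln i he0, finrank_Ln i hd0])⟩
  obtain ⟨y, hy, rfl⟩ := mem_map_gl.1 hx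
  obtain ⟨w, rfl⟩ := mem_Ln_ins hy
  refine mem_Ln_of_cr he0 fun φ hφ => ?_
  have hφT : ∀ v, φ ⬝ᵥ mv T'' v = (a • φ) ⬝ᵥ v := fun v => by
    have hz : f (v - f v c' • d') c' = 0 := by
      rw [C.hf.sub_left, C.hf.smul_left, hd', mul_one, sub_self]
    obtain ⟨r, hr⟩ := Submodule.mem_span_singleton.1 (C.span_of_two hk2 hc' hz)
    have hv : v = r • c' + f v c' • d' := by rw [hr, sub_add_cancel]
    rw [he, dotProduct_add, dotProduct_smul, smul_eq_mul] at hφ
    have h2 : φ ⬝ᵥ d' = -(s * a / (a⁻¹ - a)) * (φ ⬝ᵥ c') := by linear_combination hφ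
    rw [hv, mv_add, mv_smul, mv_smul, hc''T, hd''T]
    simp only [smul_dotProduct, dotProduct_add, dotProduct_smul, smul_eq_mul, h2]
    have hγ : (s * a / (a⁻¹ - a)) * (a⁻¹ - a) = s * a := div_mul_cancel₀ _ ha'
    linear_combination (φ ⬝ᵥ c') * (f v c') * (-hγ)
  have e1 : mv k₁ (mv g (ins i d w)) = a⁻¹ • mv g (ins i d w) := by
    rw [hk₁, mv_mul, mv_mul, mv_inv_mv, mv_fac_ins, hTd, ins_smul_vec, mv_smul]
  have e2 : cr i φ (mv k₁ (mv g (ins i d w))) = a • cr i φ (mv g (ins i d w)) := by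
    rw [hk₁f, cr_fac i T'' hφT]
    show ctr (a • φ) (push i _) = _
    rw [ctr_smul_vec, LinearMap.smul_apply]
    rfl
  rw [e1, map_smul, ← sub_eq_zero, ← sub_smul] at e2
  exact (smul_eq_zero.1 e2).resolve_left ha'

/-- A member sending one line to a line of the same slot permutes the lines of that slot. -/
theorem lines_of_stab {g : GL (J → Fin k) F} (hg : g ∈ M) {i : J} {c c' : Fin k → F} (hc : c ≠ 0) (hc' : c' ≠ 0)
    (hmap : (Ln i c).map (mvLin g) = Ln i c') {v : Fin k → F} (hv0 : v ≠ 0) :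
    ∃ e, e ≠ 0 ∧ (Ln i v).map (mvLin g) = Ln i e := by
  classical
  by_cases hk2 : k = 2
  · by_cases hvc : f v c = 0
    · exact C.line_image hg hc hc' hmap hv0 hvc
    obtain ⟨e, he, hm⟩ := C.line_torus hk2 hg hc hc' hmap (d := (f v c)⁻¹ • v)
      (by rw [C.hf.smul_left, inv_mul_cancel₀ hvc])
    refine ⟨e, he, ?_⟩
    rw [← hm, ← range_ins, ← range_ins]
    congr 1
    refine le_antisymm ?_ ?_ <;> rintro _ ⟨w, rfl⟩
    · exact ⟨(f v c) • w, by rw [ins_smul_vec, map_smul, smul_smul, inv_mul_cancel₀ hvc, one_smul]⟩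
    · exact ⟨(f v c)⁻¹ • w, by rw [ins_smul_vec, map_smul]⟩
  obtain ⟨z, hz, hz0⟩ : ∃ z ∈ C.hf.perp (Submodule.span F {c, v}), z ≠ 0 := by
    apply Submodule.exists_mem_ne_zero_of_ne_bot
    intro hb
    have h1 := C.hf.finrank_perp (Submodule.span F {c, v})
    rw [hb, finrank_bot, zero_add, Module.finrank_fintype_fun_eq_card, Fintype.card_fin] at h1
    have h2 := finrank_span_le_card (R := F) ({c, v} : Set (Fin k → F))
    have h3 : ({c, v} : Set (Fin k → F)).toFinset.card ≤ 2 := by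
      rw [Set.toFinset_insert, Set.toFinset_singleton]; exact Finset.card_le_two
    have := C.hk
    omega
  have hzc : f z c = 0 := hz c (Submodule.subset_span (Set.mem_insert _ _))
  have hzv : f z v = 0 := hz v (Submodule.subset_span (Set.mem_insert_of_mem _ rfl))
  obtain ⟨e, he, hm⟩ := C.line_image hg hc hc' hmap hz0 hzc
  exact C.line_image hg hz0 he hm hv0 (C.hf.comm.1 hzv)

/-- A member sending one line to a line of the same slot is a Kronecker product there. -/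
theorem kron_of_stab {g : GL (J → Fin k) F} (hg : g ∈ M) {i : J} {c c' : Fin k → F} (hc : c ≠ 0) (hc' : c' ≠ 0)
    (hmap : (Ln i c).map (mvLin g) = Ln i c') : IsKron (tg i k F g) := by
  haveI : Nonempty (Fin k) := ⟨⟨0, by have := C.hk; omega⟩⟩
  refine isKron_of_lines fun v hv => ?_
  obtain ⟨e, he, hm⟩ := C.lines_of_stab hg hc hc' hmap hv
  refine ⟨e, he, ?_⟩
  rw [← map_push_Ln, ← map_push_Ln, ← map_push_map, hm]

end Rig

end Cfsg.Agent.FormWreath
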