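/-
Scalar radicals and middles pass to the group of left parts in the splitting at a slot.
-/
import Cfsg.Agent.Lib.FormWreath.Stab
import Cfsg.Agent.Lib.WreathMax.Main

set_option autoImplicit false
set_option linter.unusedSectionVars false

namespace Cfsg.Agent.FormWreath

open scoped Matrix
open Matrix Cfsg.Agent.Transvec Cfsg.Agent.TensorMax Cfsg.Agent.WreathMax

variable {F : Type*} [Field F] {k : ℕ} {f : (Fin k → F) → (Fin k → F) → F}
variable {J : Type} [Fintype J] [DecidableEq J] {M : Subgroup (GL (J → Fin k) F)}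

local notation "σ₁" => RingEquiv.refl F

/-- A member of the left part of the splitting at i. -/
noncomputable def up (i : J) (B : GL (Rest i k) F) : GL (J → Fin k) F := (tg i k F).symm (kronGL B 1)

theorem mv_symm_kron_ins (i : J) (B : GL (Rest i k) F) (A : GL (Fin k) F) (v : Fin k → F) (w : Rest i k → F) :
    mv ((tg i k F).symm (kronGL B A)) (ins i v w) = ins i (mv A v) (mv B w) := by
  apply (push i).injective
  rw [← mv_tg, MulEquiv.apply_symm_apply, ins_apply, ins_apply, LinearEquiv.apply_symm_apply,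
    LinearEquiv.apply_symm_apply, mv_kronGL]

theorem mv_up_ins (i : J) (B : GL (Rest i k) F) (v : Fin k → F) (w : Rest i k → F) :
    mv (up i B) (ins i v w) = ins i v (mv B w) := by
  rw [up, mv_symm_kron_ins, mv_one]

theorem cr_up (i : J) (B : GL (Rest i k) F) (φ : Fin k → F) (x : (J → Fin k) → F) :
    cr i φ (mv (up i B) x) = mv B (cr i φ x) := by
  have e : (cr i φ).comp (mvLin (up i B)) = (mvLin B).comp (cr i φ) := ext_ins i fun v w => by
    show cr i φ (mv (up i B) (ins i v w)) = mv B (cr i φ (ins i v w))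
    rw [mv_up_ins, cr_ins, cr_ins, mv_smul]
  exact LinearMap.congr_fun e x

theorem eq_of_cr (i : J) {x y : (J → Fin k) → F} (h : ∀ φ, cr i φ x = cr i φ y) : x = y := by
  apply (push i).injective
  rw [← sub_eq_zero, ← map_sub]
  refine eq_zero_of_ctr fun φ => ?_
  show cr i φ (x - y) = 0
  rw [map_sub, h, sub_self]

theorem cr_rk {i l : J} (h : l ≠ i) (c ψ φ : Fin k → F) (x : (J → Fin k) → F) :
    cr i φ (rk l c ψ x) = rk (⟨l, h⟩ : {j // j ≠ i}) c ψ (cr i φ x) := by
  have e : (cr i φ).comp (rk l c ψ) = (rk (⟨l, h⟩ : {j // j ≠ i}) c ψ).comp (cr i φ) :=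
    ext_ins i fun v w => by
      show cr i φ (rk l c ψ (ins i v w)) = rk (⟨l, h⟩ : {j // j ≠ i}) c ψ (cr i φ (ins i v w))
      rw [rk_ins h, cr_ins, cr_ins, map_smul]
  exact LinearMap.congr_fun e x

theorem mem_perp_rk {ε : F} (hs : SF σ₁ ε f) {i : J} {c : Fin k → F} (hc : c ≠ 0) {x : (J → Fin k) → F} :
    x ∈ (Bt_sf (J := J) hs).perp (Ln i c) ↔ rk i c (frow f c) x = 0 := by
  rw [mem_perp_cr hs, rk_eq]
  exact ⟨fun h => by rw [h, map_zero], fun h => ins_injective i hc (h.trans (map_zero _).symm)⟩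

namespace Rig

variable (C : Rig f M)
include C

theorem Bt_ins_ins (i : J) (v v' : Fin k → F) (w w' : Rest i k → F) :
    Bt σ₁ f (ins i v w) (ins i v' w') = f v v' * Bt σ₁ f w w' := by
  rw [Bt_ins C.hf, cr_ins, (Bt_sf C.hf).smul_left, C.hf.frow_dot]

theorem exists_pairing (i : J) : ∃ w w' : Rest i k → F, Bt σ₁ f w w' = 1 := by
  obtain ⟨r⟩ : Nonempty (Rest (J := J) i k) := ⟨fun _ => ⟨0, by have := C.hk; omega⟩⟩
  obtain ⟨y, hy⟩ : ∃ y, Bt σ₁ f (Pi.single r 1 : Rest i k → F) y ≠ 0 := by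
    by_contra hcon
    push Not at hcon
    exact Pi.single_ne_zero_iff.2 one_ne_zero ((Bt_sf C.hf).nondeg _ hcon)
  exact ⟨_, (Bt σ₁ f (Pi.single r 1 : Rest i k → F) y)⁻¹ • y, by
    rw [(Bt_sf C.hf).smul_right, RingEquiv.refl_apply, inv_mul_cancel₀ hy]⟩

theorem exists_pair_two : ∃ v v' : Fin k → F, f v v' = 1 := by
  obtain ⟨d, hd⟩ := C.partner (c := (Pi.single ⟨0, by have := C.hk; omega⟩ 1 : Fin k → F))
    (Pi.single_ne_zero_iff.2 one_ne_zero)
  exact ⟨_, _, hd⟩

theorem left_sim (i : J) {B : GL (Rest i k) F} (hB : B ∈ leftGroup M i) :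
    Sim (Bt σ₁ f) B := by
  obtain ⟨A, g, hg, e⟩ := hB
  have hg' : g = (tg i k F).symm (kronGL B A) := by
    rw [MulEquiv.eq_symm_apply]; exact e
  obtain ⟨μ, hμ0, hμ⟩ := C.sim g hg
  obtain ⟨v, v', hv⟩ := C.exists_pair_two
  have key : ∀ w w', f (mv A v) (mv A v') * Bt σ₁ f (mv B w) (mv B w') = μ * Bt σ₁ f w w' := fun w w' => by
    have := hμ (ins i v w) (ins i v' w')
    rwa [hg', mv_symm_kron_ins, mv_symm_kron_ins, C.Bt_ins_ins, C.Bt_ins_ins, hv, one_mul] at this
  obtain ⟨w, w', hw⟩ := C.exists_pairing i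
  have hne : f (mv A v) (mv A v') ≠ 0 := fun h0 => by
    have := key w w'
    rw [h0, zero_mul, hw, mul_one] at this
    exact hμ0 this.symm
  refine ⟨μ / f (mv A v) (mv A v'), div_ne_zero hμ0 hne, fun x y => ?_⟩
  rw [div_mul_eq_mul_div, eq_div_iff hne, mul_comm, key]

theorem facSU_left (i : J) : FacSU f (leftGroup M i) := fun j A h1 h2 =>
  ⟨1, by rw [← tg_fac_other]; exact Subgroup.mem_map_of_mem _ (C.hM _ A h1 h2)⟩

theorem up_isom (i : J) {B : GL (Rest i k) F}
    (hiso : ∀ x y, Bt σ₁ f (mv B x) (mv B y) = Bt σ₁ f x y) (x y : (J → Fin k) → F) :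
    Bt σ₁ f (mv (up i B) x) (mv (up i B) y) = Bt σ₁ f x y := by
  have e : (C.hB.formL (mv (up i B) x)).comp (mvLin (up i B)) = C.hB.formL x := ext_ins i fun v w => by
    show Bt σ₁ f (mv (up i B) (ins i v w)) (mv (up i B) x) = Bt σ₁ f (ins i v w) x
    rw [C.hB.symm, mv_up_ins, Bt_ins C.hf, cr_up, hiso, ← Bt_ins C.hf, ← C.hB.symm]
  rw [C.hB.symm, C.hB.symm x y]
  exact congrArg (fun z => _ * RingEquiv.refl F z) (LinearMap.congr_fun e y)

/-- A unipotent left part of a member is a member. -/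
theorem up_mem [Finite F] (i : J) {B : GL (Rest i k) F} (hB : B ∈ leftGroup M i)
    (hiso : ∀ x y, Bt σ₁ f (mv B x) (mv B y) = Bt σ₁ f x y)
    (hnil : ((B : Matrix (Rest i k) (Rest i k) F) - 1) ^ 3 = 0) : up i B ∈ M := by
  classical
  obtain ⟨p, hp⟩ := CharP.exists F
  haveI : Fact p.Prime := ⟨CharP.char_is_prime F p⟩
  haveI : Nonempty (Rest (J := J) i k) := ⟨fun _ => ⟨0, by have := C.hk; omega⟩⟩
  haveI : Nonempty (Fin k) := ⟨⟨0, by have := C.hk; omega⟩⟩
  have hB2 : B ^ p ^ 2 = 1 := by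
    have h1 : ((B : Matrix (Rest i k) (Rest i k) F) - 1) ^ p ^ 2 = 0 :=
      pow_eq_zero_of_le (by
        have := (Fact.out : p.Prime).two_le
        nlinarith) hnil
    rw [sub_pow_char_pow_of_commute p 2 (Commute.one_right _), one_pow, sub_eq_zero] at h1
    exact Units.ext (by rw [Units.val_pow_eq_pow_val, h1, Units.val_one])
  obtain ⟨A, g, hg, e⟩ := hB
  have hg' : g = (tg i k F).symm (kronGL B A) := by
    rw [MulEquiv.eq_symm_apply]; exact e
  obtain ⟨a, m, hpm, ham⟩ := Nat.exists_eq_pow_mul_and_not_dvd (orderOf_pos A).ne' p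
    (Fact.out : p.Prime).ne_one
  have hcop : Nat.Coprime m (p ^ 2) :=
    Nat.Coprime.pow_right 2 (((Fact.out : p.Prime).coprime_iff_not_dvd.2 hpm).symm)
  obtain ⟨l, -, hl⟩ := Nat.exists_mul_mod_eq_one_of_coprime hcop (by
    have := (Fact.out : p.Prime).two_le
    nlinarith)
  set A' := A ^ (m * l) with hA'
  have hA'p : A' ^ p ^ a = 1 := by
    rw [hA', ← pow_mul, show m * l * p ^ a = p ^ a * m * l by ring, ← ham, pow_mul, pow_orderOf_eq_one,
      one_pow]
  have hBpow : B ^ (m * l) = B := by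
    rw [← Nat.div_add_mod (m * l) (p ^ 2), hl, pow_succ, pow_mul, hB2, one_pow, one_mul]
  have hkp : ∀ n : ℕ, (kronGL B A) ^ n = kronGL (B ^ n) (A ^ n) := fun n => by
    induction n with
    | zero => simp [kronGL_one]
    | succ n ih => rw [pow_succ, ih, kronGL_mul, ← pow_succ, ← pow_succ]
  have hh : (tg i k F).symm (kronGL B A') ∈ M := by
    have := M.pow_mem hg (m * l)
    rwa [hg', ← map_pow, hkp, hBpow, ← hA'] at this
  obtain ⟨μ, hμ0, hμ⟩ := C.sim _ hh
  obtain ⟨w, w', hw⟩ := C.exists_pairing i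
  have hA'sim : ∀ v v', f (mv A' v) (mv A' v') = μ * f v v' := fun v v' => by
    have := hμ (ins i v w) (ins i v' w')
    rwa [mv_symm_kron_ins, mv_symm_kron_ins, C.Bt_ins_ins, C.Bt_ins_ins, hiso, hw, mul_one, mul_one] at this
  have hone : ∀ x : F, x ^ p ^ a = 1 → x = 1 := fun x hx => by
    rw [← sub_eq_zero]
    refine eq_zero_of_pow_eq_zero (n := p ^ a) ?_
    rw [sub_pow_char_pow, hx, one_pow, sub_self]
  have hμpow : ∀ n : ℕ, ∀ v v', f (mv (A' ^ n) v) (mv (A' ^ n) v') = μ ^ n * f v v' := fun n => by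
    induction n with
    | zero => intro v v'; simp [mv_one]
    | succ n ih => intro v v'; rw [pow_succ', mv_mul, mv_mul, hA'sim, ih, pow_succ', mul_assoc]
  have hμ1 : μ = 1 := hone μ (by
    obtain ⟨v, v', hv⟩ := C.exists_pair_two
    have := hμpow (p ^ a) v v'
    rw [hA'p, mv_one, mv_one, hv, mul_one] at this
    exact this.symm)
  have hdet : A' ∈ Geo.specialLinear (Fin k) F := by
    show Matrix.GeneralLinearGroup.det A' = 1
    refine Units.ext (hone _ ?_)
    rw [← Units.val_pow_eq_pow_val, ← map_pow, hA'p, map_one, Units.val_one]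
  have hfac := C.hM i A' (fun x y => by rw [hA'sim, hμ1, one_mul]) hdet
  have e2 : (tg i k F).symm (kronGL B A') * (fac i A')⁻¹ = up i B := by
    rw [up, fac, ← map_inv, ← map_mul, kronGL_inv, kronGL_mul, inv_one, mul_one, mul_inv_cancel]
  rw [← e2]
  exact M.mul_mem hh (M.inv_mem hfac)

/-- The left group satisfies the hypotheses. -/
theorem left [Finite F] (i : J) : Rig f (leftGroup M i) where
  hf := C.hf
  alt := C.alt
  hk := C.hk
  hq := C.hq
  sim B hB := C.left_sim i hB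
  hM := C.facSU_left i
  rad := by
    rintro ⟨l, hl⟩ c hc - B hB hfix hmove
    obtain ⟨μ, -, hμ⟩ := C.left_sim i hB
    set l' : {j // j ≠ i} := ⟨l, hl⟩
    obtain ⟨d, hd⟩ := C.partner hc
    have hnil : ∀ x, mv B (mv B x - x) = mv B x - x := fun x => by
      refine hfix _ fun y hy => ?_
      obtain ⟨u, hu⟩ := mem_Ln_ins (hmove x)
      obtain ⟨u', rfl⟩ := mem_Ln_ins hy
      rw [← hu, Bt_ins C.hf, cr_ins, C.hf.frow_dot, C.alt, zero_smul, (Bt_sf C.hf).zero_left]
    have hμ1 : μ = 1 := by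
      obtain ⟨r⟩ : Nonempty (Rest (J := {j // j ≠ i}) l' k) := ⟨fun _ => ⟨0, by have := C.hk; omega⟩⟩
      obtain ⟨u', hu'⟩ : ∃ u', Bt σ₁ f (Pi.single r 1 : Rest l' k → F) u' ≠ 0 := by
        by_contra hcon
        push Not at hcon
        exact Pi.single_ne_zero_iff.2 one_ne_zero ((Bt_sf C.hf).nondeg _ hcon)
      set x := ins l' d (Pi.single r 1 : Rest l' k → F) with hxdef
      set y := ins l' c u' with hy
      have hxy : Bt σ₁ f x y ≠ 0 := by
        rw [hxdef, hy, Bt_ins C.hf, cr_ins, C.hf.frow_dot, hd, one_smul]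
        exact hu'
      have hyp : ∀ z ∈ Ln l' c, Bt σ₁ f z y = 0 := fun z hz => by
        rw [hy, Bt_ins C.hf, cr_Ln (by rw [C.hf.frow_dot, C.alt]) hz, (Bt_sf C.hf).zero_left]
      have hyfix : mv B y = y := hfix y fun z hz => (Bt_sf C.hf).comm.1 (hyp z hz)
      have e := hμ x y
      rw [hyfix, show mv B x = x + (mv B x - x) by abel, (Bt_sf C.hf).add_left, hyp _ (hmove x), add_zero] at e
      exact mul_right_cancel₀ hxy (by rw [one_mul]; exact e.symm)
    have hg := C.up_mem i hB (fun x y => by rw [hμ, hμ1, one_mul]) (by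
      refine Matrix.ext_of_mulVec_single fun j => ?_
      have e2 : ∀ x, ((B : Matrix _ _ F) - 1) *ᵥ x = mv B x - x := fun x => by
        rw [Matrix.sub_mulVec, Matrix.one_mulVec]
      rw [pow_succ, pow_two, Matrix.zero_mulVec, mul_assoc, ← Matrix.mulVec_mulVec, ← Matrix.mulVec_mulVec,
        e2, e2, e2]
      simp only [mv_sub, hnil, sub_self, mv_zero])
    have hperp : ∀ x ∈ (Bt_sf (J := J) C.hf).perp (Ln l c), mv (up i B) x = x := fun x hx => by
      refine eq_of_cr i fun φ => ?_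
      rw [cr_up]
      refine hfix _ ((mem_perp_rk C.hf hc).2 ?_)
      rw [← cr_rk hl, (mem_perp_rk C.hf hc).1 hx, map_zero]
    have hinto : ∀ x, mv (up i B) x - x ∈ Ln l c := fun x => (mem_Ln_iff hc hc).2 fun ψ hψ => by
      refine eq_of_cr i fun φ => ?_
      rw [map_zero, cr_rk hl, map_sub, cr_up]
      exact (mem_Ln_iff hc hc).1 (hmove _) ψ hψ
    obtain ⟨a, ha⟩ := C.rad l c hc (C.alt c) (up i B) hg hperp hinto
    obtain ⟨v, v', hv⟩ := C.exists_pair_two
    refine ⟨a, fun w => ?_⟩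
    have e := congrArg (cr i (frow f v')) (ha (ins i v w))
    rw [cr_up, map_add, map_smul, rootN_eq_rk, one_smul, cr_rk hl, cr_ins, C.hf.frow_dot, hv, one_smul] at e
    rw [e, rootN_eq_rk, one_smul]
  mid := by
    rintro ⟨l, hl⟩ c hc B hB hiso hfix hmid
    set l' : {j // j ≠ i} := ⟨l, hl⟩
    have hdisp : ∀ x, mv B x - x ∈ (Bt_sf (J := {j // j ≠ i}) C.hf).perp (Ln l' c) := fun x z hz => by
      have e := hiso x z
      rw [hfix z hz] at e
      rw [(Bt_sf C.hf).sub_left, e, sub_self]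
    have hg := C.up_mem i hB hiso (by
      refine Matrix.ext_of_mulVec_single fun j => ?_
      have e2 : ∀ x, ((B : Matrix _ _ F) - 1) *ᵥ x = mv B x - x := fun x => by
        rw [Matrix.sub_mulVec, Matrix.one_mulVec]
      rw [pow_succ, pow_two, Matrix.zero_mulVec, mul_assoc, ← Matrix.mulVec_mulVec, ← Matrix.mulVec_mulVec,
        e2, e2, e2, hfix _ (hmid _ (hdisp _)), sub_self])
    have hperp : ∀ x ∈ (Bt_sf (J := J) C.hf).perp (Ln l c), ∀ φ,
        cr i φ x ∈ (Bt_sf (J := {j // j ≠ i}) C.hf).perp (Ln l' c) := fun x hx φ => by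
      rw [mem_perp_rk C.hf hc, ← cr_rk hl, (mem_perp_rk C.hf hc).1 hx, map_zero]
    obtain ⟨ψ, hψ, hψx⟩ := C.mid l c hc (up i B) hg (C.up_isom i hiso)
      (fun x hx => eq_of_cr i fun φ => by
        rw [cr_up]
        refine hfix _ ((mem_Ln_iff hc hc).2 fun ψ hψ => ?_)
        rw [← cr_rk hl, (mem_Ln_iff hc hc).1 hx ψ hψ, map_zero])
      (fun x hx => (mem_Ln_iff hc hc).2 fun ψ hψ => by
        refine eq_of_cr i fun φ => ?_
        rw [map_zero, cr_rk hl, map_sub, cr_up]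
        exact (mem_Ln_iff hc hc).1 (hmid _ (hperp x hx φ)) ψ hψ)
    refine ⟨ψ, hψ, fun w hw => ?_⟩
    obtain ⟨v, v', hv⟩ := C.exists_pair_two
    have hin : ins i v w ∈ (Bt_sf (J := J) C.hf).perp (Ln l c) := by
      rw [mem_perp_rk C.hf hc, rk_ins hl, (mem_perp_rk C.hf hc).1 hw, map_zero]
    have e := congrArg (cr i (frow f v')) (hψx _ hin)
    rwa [cr_up, map_add, cr_rk hl, cr_ins, C.hf.frow_dot, hv, one_smul] at e

end Rig

end Cfsg.Agent.FormWreath
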