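/-
Monomial members: images of lines, and quadratic members moving as little as a root.
-/
import Cfsg.Agent.Lib.FormWreath.Left
import Cfsg.Agent.Lib.TensorMax.SRoot

set_option autoImplicit false
set_option linter.unusedSectionVars false

namespace Cfsg.Agent.FormWreath

open scoped Matrix
open Matrix Cfsg.Agent.Transvec Cfsg.Agent.TensorMax Cfsg.Agent.WreathMax

variable {F : Type*} [Field F] {k : ℕ} {f : (Fin k → F) → (Fin k → F) → F}
variable {J : Type} [Fintype J] [DecidableEq J] {M : Subgroup (GL (J → Fin k) F)}

local notation "σ₁" => RingEquiv.refl F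

/-- A vector outside two proper subspaces. -/
theorem exists_avoid_two {V : Type*} [AddCommGroup V] [Module F V] {U W : Submodule F V} (hU : U ≠ ⊤) (hW : W ≠ ⊤) :
    ∃ x, x ∉ U ∧ x ∉ W := by
  obtain ⟨a, -, ha⟩ := SetLike.exists_of_lt hU.lt_top
  obtain ⟨b, -, hb⟩ := SetLike.exists_of_lt hW.lt_top
  by_cases haW : a ∈ W
  · by_cases hbU : b ∈ U
    · refine ⟨a + b, fun h => ha ?_, fun h => hb ?_⟩
      · have := U.sub_mem h hbU
        rwa [add_sub_cancel_right] at this
      · have := W.sub_mem h haW
        rwa [add_sub_cancel_left] at this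
    · exact ⟨b, hbU, hb⟩
  · exact ⟨a, ha, haW⟩

theorem span_ne_top (hk : 2 ≤ k) (c : Fin k → F) : Submodule.span F {c} ≠ ⊤ := by
  intro h
  have h1 := finrank_span_le_card (R := F) ({c} : Set (Fin k → F))
  rw [h, finrank_top, Module.finrank_fintype_fun_eq_card, Fintype.card_fin] at h1
  simp at h1
  omega

theorem cr_pten (i : J) (φ : Fin k → F) (x : J → Fin k → F) :
    cr i φ (pten x) = (φ ⬝ᵥ x i) • pten fun j : {j // j ≠ i} => x j := by
  show ctr φ (push i (pten x)) = _
  rw [push_pten, ctr_ten]

/-- Proportional pure tensors are proportional in every slot. -/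
theorem parallel_of_pten {x y : J → Fin k → F} (hx : ∀ j, x j ≠ 0) (hy : ∀ j, y j ≠ 0) {a : F}
    (h : pten x = a • pten y) (r : J) : x r ∈ Submodule.span F {y r} := by
  by_contra hn
  obtain ⟨φ, hφ, hφx⟩ := exists_dot (W := Submodule.span F {y r}) hn
  have := congrArg (cr r φ) h
  rw [map_smul, cr_pten, cr_pten, hφx, hφ _ (Submodule.mem_span_singleton_self _), one_smul, zero_smul,
    smul_zero] at this
  exact pten_ne_zero (fun j : {j // j ≠ r} => hx j) this

/-- Three pure tensors in a linear relation: two of them differ in at most one slot. -/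
theorem parallel_of_rel {P Q R : J → Fin k → F} (hP : ∀ j, P j ≠ 0) (hQ : ∀ j, Q j ≠ 0) {b : F} (hb : b ≠ 0)
    (h : pten R + pten P = b • pten Q) {q r : J} (hr : r ≠ q) (hq : P q ∉ Submodule.span F {Q q}) :
    P r ∈ Submodule.span F {Q r} := by
  obtain ⟨φ, hφ, hφP⟩ := exists_dot (W := Submodule.span F {Q q}) hq
  have hq' : Q q ∉ Submodule.span F {P q} := fun hm => hq (by
    obtain ⟨t, ht⟩ := Submodule.mem_span_singleton.1 hm
    refine Submodule.mem_span_singleton.2 ⟨t⁻¹, ?_⟩
    rw [← ht, smul_smul, inv_mul_cancel₀ (fun h0 => hQ q (by rw [← ht, h0, zero_smul])), one_smul])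
  obtain ⟨ψ, hψ, hψQ⟩ := exists_dot (W := Submodule.span F {P q}) hq'
  have e1 := congrArg (cr q φ) h
  rw [map_add, map_smul, cr_pten, cr_pten, cr_pten, hφP, hφ _ (Submodule.mem_span_singleton_self _), one_smul,
    zero_smul, smul_zero] at e1
  have e2 := congrArg (cr q ψ) h
  rw [map_add, map_smul, cr_pten, cr_pten, cr_pten, hψQ, hψ _ (Submodule.mem_span_singleton_self _), one_smul,
    zero_smul, add_zero] at e2
  set P' := pten fun j : {j // j ≠ q} => P j
  set Q' := pten fun j : {j // j ≠ q} => Q j
  set R' := pten fun j : {j // j ≠ q} => R j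
  have e3 : P' = -((φ ⬝ᵥ R q) • R') := eq_neg_of_add_eq_zero_right e1
  have hR0 : ψ ⬝ᵥ R q ≠ 0 := fun h0 => by
    rw [h0, zero_smul, eq_comm, smul_eq_zero] at e2
    exact e2.elim hb (pten_ne_zero fun j : {j // j ≠ q} => hQ j)
  have e4 : R' = ((ψ ⬝ᵥ R q)⁻¹ * b) • Q' := by
    rw [mul_smul, ← e2, smul_smul, inv_mul_cancel₀ hR0, one_smul]
  rw [e4, smul_smul, ← neg_smul] at e3
  exact parallel_of_pten (fun j : {j // j ≠ q} => hP j) (fun j => hQ j) e3 ⟨r, hr⟩

/-- A monomial member sends lines to lines. -/
theorem monoOf_map_Ln (hk : 0 < k) {σ : Equiv.Perm J} {g : GL (J → Fin k) F} {A : J → GL (Fin k) F}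
    (hA : ∀ x, mv g (pten x) = pten fun j => mv (A j) (x (σ j))) (i : J) {v : Fin k → F} (hv : v ≠ 0) :
    (Ln i v).map (mvLin g) = Ln (σ⁻¹ i) (mv (A (σ⁻¹ i)) v) := by
  have hv' : mv (A (σ⁻¹ i)) v ≠ 0 := fun h => hv (mv_inj _ (h.trans (mv_zero _).symm))
  refine Submodule.eq_of_le_of_finrank_le (fun x hx => ?_) (by
    rw [finrank_map_gl, finrank_Ln _ hv, finrank_Ln _ hv', card_rest_same _ i hk])
  obtain ⟨y, hy, rfl⟩ := mem_map_gl.1 hx
  obtain ⟨w, rfl⟩ := mem_Ln_ins hy
  refine mem_Ln_of_cr hv' fun φ hφ => ?_
  have e : (cr (σ⁻¹ i) φ).comp ((mvLin g).comp (ins i v)) = 0 := eq_of_pten fun z => by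
    show cr (σ⁻¹ i) φ (mv g (ins i v (pten z))) = 0
    rw [ins_pten, hA, cr_pten]
    simp only [Equiv.Perm.coe_inv, Equiv.apply_symm_apply, dite_true]
    rw [show φ ⬝ᵥ mv (A (σ.symm i)) v = 0 from hφ, zero_smul]
  exact LinearMap.congr_fun e w

theorem mono_map_line (hk : 0 < k) {g : GL (J → Fin k) F} (hg : Mono g) (i : J) {v : Fin k → F} (hv : v ≠ 0) :
    ∃ l e, e ≠ 0 ∧ (Ln i v).map (mvLin g) = Ln l e := by
  obtain ⟨σ, A, hA⟩ := hg
  exact ⟨_, _, fun h => hv (mv_inj _ (h.trans (mv_zero _).symm)), monoOf_map_Ln hk hA i hv⟩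

variable [Finite F]

/-- A quadratic monomial member moving as little as a root is a member of one slot. -/
theorem quad_mono (hk : 2 ≤ k) (hbig : (2 : F) = 0 → 6 ≤ k) {h : GL (J → Fin k) F} (hmono : Mono h)
    (h1 : h ≠ 1) (hquad : ∀ x, mv h (mv h x - x) = mv h x - x) {S : Submodule F ((J → Fin k) → F)}
    (hS : ∀ x, mv h x - x ∈ S) (hdim : ∀ i : J, Module.finrank F ↥S = Fintype.card (Rest i k)) :
    ∃ (j : J) (e : Fin k → F), e ≠ 0 ∧ S = Ln j e := by
  classical
  obtain ⟨σ, A, hA⟩ := hmono
  have hA2 : ∀ x, mv h (mv h (pten x)) = pten fun j => mv (A j) (mv (A (σ j)) (x (σ (σ j)))) := fun x => by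
    rw [hA, hA]
  have hne : ∀ (x : J → Fin k → F), (∀ j, x j ≠ 0) → ∀ j, mv (A j) (x (σ j)) ≠ 0 := fun x hx j e =>
    hx (σ j) (mv_inj _ (e.trans (mv_zero _).symm))
  -- in odd characteristic no pure tensor moves in two slots
  have hodd : (2 : F) ≠ 0 → ∀ (x : J → Fin k → F), (∀ j, x j ≠ 0) → ∀ q r, r ≠ q →
      x q ∉ Submodule.span F {mv (A q) (x (σ q))} → x r ∈ Submodule.span F {mv (A r) (x (σ r))} := by
    intro h2 x hx q r hr hq
    refine parallel_of_rel (R := fun j => mv (A j) (mv (A (σ j)) (x (σ (σ j))))) hx (hne x hx) h2 ?_ hr hq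
    have := hquad (pten x)
    rw [mv_sub, hA2, hA] at this
    rw [two_smul]
    linear_combination (norm := module) this
  have hσ : ∀ q, σ q = q := by
    by_contra hcon
    push Not at hcon
    obtain ⟨q, hq⟩ := hcon
    set r := σ q with hr
    have hrr : σ r ≠ r := fun e => hq (σ.injective e)
    by_cases h2 : (2 : F) = 0
    · -- a quarter of the space moves
      have hk6 := hbig h2
      set m := k / 2 with hm
      let p : (J → Fin k) → Prop := fun a => (a q : ℕ) < m ∧ m ≤ (a r : ℕ)
      let ext : ({a // p a} → F) →ₗ[F] (J → Fin k) → F :=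
        { toFun := fun c a => if ha : p a then c ⟨a, ha⟩ else 0
          map_add' := fun c c' => funext fun a => by simp only [Pi.add_apply]; split <;> simp
          map_smul' := fun t c => funext fun a => by
            simp only [Pi.smul_apply, RingHom.id_apply]; split <;> simp }
      let P := fun a : J → Fin k => (LinearMap.proj a : ((J → Fin k) → F) →ₗ[F] F)
      set g := fac r (A q)⁻¹ with hg
      have hsingle : ∀ b : {a // p a}, ext (Pi.single b 1) =
          pten fun j => (Pi.single ((b : J → Fin k) j) (1 : F) : Fin k → F) := fun b => by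
        have e : pten (fun j => (Pi.single ((b : J → Fin k) j) (1 : F) : Fin k → F)) =
            Pi.single (b : J → Fin k) 1 := by
          funext a
          unfold pten
          by_cases ha : a = b
          · subst ha; simp
          · obtain ⟨j, hj⟩ := Function.ne_iff.1 ha
            rw [Pi.single_eq_of_ne ha]
            exact Finset.prod_eq_zero (Finset.mem_univ j) (Pi.single_eq_of_ne hj _)
        rw [e]
        funext a
        show (if ha : p a then (Pi.single b (1 : F) : {a // p a} → F) ⟨a, ha⟩ else 0) = _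
        by_cases ha : p a
        · rw [dif_pos ha]
          by_cases hab : a = b
          · subst hab; simp
          · rw [Pi.single_eq_of_ne hab, Pi.single_eq_of_ne (fun e => hab (congrArg Subtype.val e))]
        · rw [dif_neg ha, Pi.single_eq_of_ne]
          exact fun e => ha (e ▸ b.2)
      have hlow : ∀ a : J → Fin k, m ≤ (a q : ℕ) →
          (P a).comp ((mvLin g).comp ext) = 0 := fun a ha => LinearMap.pi_ext' fun b => LinearMap.ext_ring (by
        show mv g (ext (Pi.single b 1)) a = 0
        rw [hsingle, hg, mv_fac]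
        refine Finset.prod_eq_zero (Finset.mem_univ q) ?_
        rw [Function.update_of_ne (Ne.symm hq), Pi.single_eq_of_ne]
        intro e
        have := b.2.1
        rw [← e] at this
        omega)
      have hhigh : ∀ a : J → Fin k, (a q : ℕ) < m →
          (P a).comp ((mvLin h).comp ((mvLin g).comp ext)) = 0 := fun a ha =>
        LinearMap.pi_ext' fun b => LinearMap.ext_ring (by
          show mv h (mv g (ext (Pi.single b 1))) a = 0
          rw [hsingle, hg, mv_fac, hA]
          refine Finset.prod_eq_zero (Finset.mem_univ q) ?_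
          simp only [← hr, Function.update_self, mv_mv_inv]
          rw [Pi.single_eq_of_ne]
          intro e
          have := b.2.2
          rw [← e] at this
          omega)
      let Φ : ({a // p a} → F) →ₗ[F] S :=
        LinearMap.codRestrict S (((mvLin h) - LinearMap.id).comp ((mvLin g).comp ext)) fun c => hS _
      have hΦ : Function.Injective Φ := by
        rw [← LinearMap.ker_eq_bot, LinearMap.ker_eq_bot']
        intro c hc
        have e : mv h (mv g (ext c)) - mv g (ext c) = 0 := congrArg Subtype.val hc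
        have h0 : mv g (ext c) = 0 := funext fun a => by
          by_cases ha : (a q : ℕ) < m
          · have e1 : mv h (mv g (ext c)) a = 0 := LinearMap.congr_fun (hhigh a ha) c
            rw [← sub_eq_zero.1 e]
            exact e1
          · exact LinearMap.congr_fun (hlow a (not_lt.1 ha)) c
        have h00 : ext c = 0 := mv_inj g (h0.trans (mv_zero g).symm)
        funext b
        have e2 : ext c (b : J → Fin k) = 0 := by rw [h00]; rfl
        change (if ha : p b then c ⟨b, ha⟩ else 0) = 0 at e2
        rwa [dif_pos b.2] at e2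
      have hle := LinearMap.finrank_le_finrank_of_injective hΦ
      rw [Module.finrank_fintype_fun_eq_card, hdim q] at hle
      let s : J → Finset (Fin k) := fun j =>
        if j = q then Finset.univ.filter fun x => (x : ℕ) < m
        else if j = r then Finset.univ.filter fun x => m ≤ (x : ℕ) else Finset.univ
      have hcard : Fintype.card {a // p a} = ∏ j, (s j).card := by
        rw [← Fintype.card_piFinset, Fintype.card_subtype]
        congr 1
        ext a
        simp only [Finset.mem_filter, Finset.mem_univ, true_and, Fintype.mem_piFinset, s, p]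
        constructor
        · rintro ⟨ha, hb⟩ j
          rcases eq_or_ne j q with rfl | h1
          · simpa using ha
          rcases eq_or_ne j r with rfl | h2
          · rw [if_neg h1, if_pos rfl]
            simpa using hb
          · rw [if_neg h1, if_neg h2]
            exact Finset.mem_univ _
        · intro ha
          have h1 := ha q
          have h2 := ha r
          simp only [if_pos rfl] at h1
          rw [if_neg hq, if_pos rfl] at h2
          simp at h1 h2
          exact ⟨h1, h2⟩
      have hq1 : (s q).card = m := by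
        simp only [s, if_pos rfl]
        exact Fin.card_filter_val_lt.trans (min_eq_right (by omega))
      have hr1 : (s r).card = k - m := by
        simp only [s, if_neg hq, ↓reduceIte]
        have := Finset.card_filter_add_card_filter_not (s := (Finset.univ : Finset (Fin k)))
          (fun x => (x : ℕ) < m)
        simp only [not_lt, Finset.card_univ, Fintype.card_fin, Fin.card_filter_val_lt] at this
        omega
      have hprod : (∏ j, (s j).card) * (k * k) = m * (k - m) * k ^ Fintype.card J := by
        have hrm : r ∈ (Finset.univ : Finset J).erase q := Finset.mem_erase.2 ⟨hq, Finset.mem_univ r⟩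
        rw [← Finset.mul_prod_erase Finset.univ _ (Finset.mem_univ q), ← Finset.mul_prod_erase _ _ hrm, hq1, hr1,
          Finset.prod_congr rfl (fun j hj => show (s j).card = k by
            simp only [s, if_neg (Finset.ne_of_mem_erase (Finset.mem_of_mem_erase hj)),
              if_neg (Finset.ne_of_mem_erase hj), Finset.card_univ, Fintype.card_fin]),
          Finset.prod_const]
        have h1 := Finset.card_erase_add_one (Finset.mem_univ q)
        have h2 := Finset.card_erase_add_one hrm
        rw [Finset.card_univ] at h1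
        rw [← h1, ← h2]
        ring
      rw [hcard] at hle
      have hN := card_rest (m := k) q
      have h3 : 3 ≤ m := by omega
      have h4 : 2 * (k - m) ≥ k := by omega
      have h5 : k < m * (k - m) := by nlinarith
      have h6 : 0 < k ^ Fintype.card J := pow_pos (by omega) _
      nlinarith [Nat.mul_le_mul_right (k * k) hle]
    · -- three pure tensors
      obtain ⟨u, hu⟩ : ∃ u : Fin k → F, u ≠ 0 := ⟨Pi.single ⟨0, by omega⟩ 1, Pi.single_ne_zero_iff.2 one_ne_zero⟩
      set U : Submodule F (Fin k → F) := (Submodule.span F {u}).comap (mvLin (A q))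
      have hU : U ≠ ⊤ := fun e => span_ne_top hk u (eq_top_iff.2 fun x _ => by
        have := (e ▸ Submodule.mem_top : mv (A q)⁻¹ x ∈ U)
        change mv (A q) (mv (A q)⁻¹ x) ∈ Submodule.span F {u} at this
        rwa [mv_mv_inv] at this)
      obtain ⟨v, hv1, hv2⟩ := exists_avoid_two (span_ne_top hk (mv (A r) u)) hU
      have hv0 : v ≠ 0 := fun e => hv1 (e ▸ zero_mem _)
      set x : J → Fin k → F := Function.update (fun _ => u) r v with hxdef
      have hx : ∀ j, x j ≠ 0 := fun j => by
        rcases eq_or_ne j r with rfl | hj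
        · simp [x, hv0]
        · simp [x, hj, hu]
      have hxr : x r = v := Function.update_self ..
      have hxq : x q = u := Function.update_of_ne (Ne.symm hq) ..
      have hxsr : x (σ r) = u := Function.update_of_ne hrr ..
      refine hv1 ?_
      have := hodd h2 x hx q r hq (by
        rw [← hr, hxr, hxq]
        intro hm
        obtain ⟨t, ht⟩ := Submodule.mem_span_singleton.1 hm
        refine hv2 (show mv (A q) v ∈ Submodule.span F {u} from Submodule.mem_span_singleton.2 ⟨t⁻¹, ?_⟩)
        rw [← ht, smul_smul, inv_mul_cancel₀ (fun h0 => hu (by rw [← ht, h0, zero_smul])), one_smul])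
      rwa [hxr, hxsr] at this
  -- the slots that move a direction
  set Moves : J → Prop := fun j => ∃ v, mv (A j) v ∉ Submodule.span F {v} with hMoves
  have hone : ∀ q r, Moves q → Moves r → r = q := by
    intro q r ⟨v, hv⟩ ⟨w, hw⟩
    by_contra hr
    have hv0 : v ≠ 0 := fun e => hv (by rw [e, mv_zero]; exact zero_mem _)
    have hw0 : w ≠ 0 := fun e => hw (by rw [e, mv_zero]; exact zero_mem _)
    by_cases h2 : (2 : F) = 0
    · have hk6 := hbig h2
      set L := Ln q v with hL
      have hAv : mv (A q) v ≠ 0 := fun e => hv0 (mv_inj _ (e.trans (mv_zero _).symm))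
      have hhL : L.map (mvLin h) = Ln q (mv (A q) v) := by
        have := monoOf_map_Ln (by omega) hA q hv0
        rwa [show σ⁻¹ q = q from by rw [Equiv.Perm.inv_eq_iff_eq, hσ]] at this
      have hdis : ∀ y ∈ L, y ∈ Ln q (mv (A q) v) → y = 0 := fun y hy hy' => by
        by_contra hy0
        have e := Ln_eq_of_meet hy0 hy hy'
        have h3 : mv (A q) v ∈ Submodule.span F {v} := by
          by_contra hn
          obtain ⟨φ, hφ, hφA⟩ := exists_dot (W := Submodule.span F {v}) hn
          obtain ⟨s⟩ : Nonempty (Rest (J := J) q k) := ⟨fun _ => ⟨0, by omega⟩⟩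
          have := cr_Ln (i := q) (hφ v (Submodule.mem_span_singleton_self v))
            (e ▸ ins_mem q (mv (A q) v) (Pi.single s 1))
          rw [cr_ins, hφA, one_smul] at this
          exact Pi.single_ne_zero_iff.2 one_ne_zero this
        exact hv h3
      let Φ : L →ₗ[F] S := LinearMap.codRestrict S (((mvLin h) - LinearMap.id).comp L.subtype) fun c => hS _
      have hΦ : Function.Injective Φ := by
        rw [← LinearMap.ker_eq_bot, LinearMap.ker_eq_bot']
        intro c hc
        have e : mv h (c : (J → Fin k) → F) - c = 0 := congrArg Subtype.val hc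
        exact Subtype.ext (hdis _ c.2 (hhL ▸ mem_map_gl.2 ⟨_, c.2, sub_eq_zero.1 e⟩))
      have hsurj : Function.Surjective Φ := (LinearMap.injective_iff_surjective_of_finrank_eq_finrank
        (by rw [hdim q, finrank_Ln q hv0])).1 hΦ
      obtain ⟨v', hv'⟩ : ∃ v', v' ∉ Submodule.span F ({v, mv (A q) v} : Set (Fin k → F)) := by
        by_contra hcon
        push Not at hcon
        have h1 := Cfsg.Agent.TensorMax.S.finrank_span_le_two (F := F) v (mv (A q) v)
        rw [Submodule.eq_top_iff'.2 hcon, finrank_top, Module.finrank_fintype_fun_eq_card, Fintype.card_fin] at h1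
        omega
      obtain ⟨φ, hφ, hφv⟩ := exists_dot hv'
      set z : J → Fin k → F := Function.update (Function.update (fun _ => w) q v') r w with hz
      have hzq : z q = v' := by simp [z, Ne.symm hr]
      have hzr : z r = w := Function.update_self ..
      have hv'0 : v' ≠ 0 := fun e => hv' (e ▸ zero_mem _)
      have hz0 : ∀ j, z j ≠ 0 := fun j => by
        rcases eq_or_ne j r with rfl | hj
        · rw [hzr]; exact hw0
        · rcases eq_or_ne j q with rfl | hjq
          · rw [hzq]; exact hv'0
          · simp [z, hj, hjq, hw0]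
      obtain ⟨y, hy⟩ := hsurj ⟨_, hS (pten z)⟩
      have e : mv h (y : (J → Fin k) → F) - y = mv h (pten z) - pten z := congrArg Subtype.val hy
      have e1 := congrArg (cr q φ) e
      rw [map_sub, map_sub, cr_Ln (hφ v (Submodule.subset_span (Set.mem_insert _ _))) y.2,
        cr_Ln (hφ _ (Submodule.subset_span (Set.mem_insert_of_mem _ rfl)))
          (hhL ▸ mem_map_gl.2 ⟨_, y.2, rfl⟩ : mv h (y : (J → Fin k) → F) ∈ Ln q (mv (A q) v)),
        sub_zero, hA, cr_pten, cr_pten, hσ, hzq, hφv, one_smul, eq_comm, sub_eq_zero] at e1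
      have := parallel_of_pten (fun j : {j // j ≠ q} => hz0 j)
        (fun j => hne z hz0 j) e1.symm ⟨r, hr⟩
      simp only [hσ, hzr] at this
      obtain ⟨t, ht⟩ := Submodule.mem_span_singleton.1 this
      refine hw (Submodule.mem_span_singleton.2 ⟨t⁻¹, ?_⟩)
      conv_lhs => rw [← ht]
      rw [smul_smul, inv_mul_cancel₀ (fun h0 => hw0 (by rw [← ht, h0, zero_smul])), one_smul]
    · set x : J → Fin k → F := Function.update (fun _ => w) q v with hxdef
      have hxq : x q = v := Function.update_self ..
      have hxr : x r = w := Function.update_of_ne hr ..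
      have hx : ∀ j, x j ≠ 0 := fun j => by
        rcases eq_or_ne j q with rfl | hj
        · rw [hxq]; exact hv0
        · simp [x, hj, hw0]
      have key : ∀ (a b : Fin k → F), a ≠ 0 → a ∈ Submodule.span F {b} → b ∈ Submodule.span F {a} := by
        intro a b ha hm
        obtain ⟨t, ht⟩ := Submodule.mem_span_singleton.1 hm
        refine Submodule.mem_span_singleton.2 ⟨t⁻¹, ?_⟩
        rw [← ht, smul_smul, inv_mul_cancel₀ (fun h0 => ha (by rw [← ht, h0, zero_smul])), one_smul]
      have := hodd h2 x hx q r hr (by rw [hσ, hxq]; exact fun hm => hv (key _ _ hv0 hm))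
      rw [hσ, hxr] at this
      exact hw (key _ _ hw0 this)
  have hscal : ∀ j, ¬Moves j → ∃ l : F, ∀ u, mv (A j) u = l • u := fun j hj => by
    simp only [hMoves, not_exists, not_not] at hj
    obtain ⟨l, hl⟩ := Cfsg.Agent.TensorMax.S.scalar_of_eigen (Y := mvLin (A j)) fun u => hj u
    exact ⟨l, hl⟩
  -- the one moving slot
  obtain ⟨q, hq⟩ : ∃ q, ∀ j, j ≠ q → ¬Moves j := by
    by_cases hex : ∃ q, Moves q
    · obtain ⟨q, hq⟩ := hex
      exact ⟨q, fun j hj hm => hj (hone q j hq hm)⟩
    · obtain ⟨q⟩ : Nonempty J := by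
        by_contra hJ
        haveI := not_nonempty_iff.1 hJ
        apply h1
        refine ext_pten fun x => ?_
        rw [hA, mv_one]
        exact congrArg pten (funext fun j => isEmptyElim j)
      exact ⟨q, fun j _ hm => hex ⟨j, hm⟩⟩
  choose l hl using fun j : {j // j ≠ q} => hscal j (hq j j.2)
  set c : F := ∏ j : {j // j ≠ q}, l j with hc
  have hh : ∀ v w, mv h (ins q v w) = ins q (c • mv (A q) v) w := fun v w => by
    have e : (mvLin h).comp (ins q v) = ins q (c • mv (A q) v) := eq_of_pten fun z => by
      show mv h (ins q v (pten z)) = _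
      rw [ins_pten, hA]
      apply (push q).injective
      rw [ins_apply, LinearEquiv.apply_symm_apply, push_pten, hσ, dif_pos rfl]
      rw [show (fun j : {j // j ≠ q} => mv (A (j : J))
          (if hj : σ (j : J) = q then v else z ⟨σ (j : J), hj⟩)) = fun j => l j • z j from funext fun j => by
        simp only [hσ, dif_neg j.2]
        exact hl j _]
      rw [show pten (fun j => l j • z j) = c • pten z from funext fun a => by
        simp only [pten, Pi.smul_apply, smul_eq_mul, hc, Finset.prod_mul_distrib]]
      rw [ten_smul_left, ← ten_smul_right]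
    exact LinearMap.congr_fun e w
  obtain ⟨T, hT⟩ : ∃ T : GL (Fin k) F, ∀ v, mv T v = c • mv (A q) v := by
    have hc0 : c ≠ 0 := Finset.prod_ne_zero_iff.2 fun j _ h0 => by
      have := hl j (Pi.single ⟨0, by omega⟩ 1)
      rw [h0, zero_smul] at this
      exact Pi.single_ne_zero_iff.2 one_ne_zero (mv_inj _ (this.trans (mv_zero _).symm))
    obtain ⟨Z, hZ⟩ := exists_scalarGL (m := k) c hc0
    exact ⟨Z * A q, fun v => by rw [mv_mul, hZ]⟩
  have hfac : h = fac q T := ext_ins_mv q fun v w => by rw [hh, mv_fac_ins, hT]
  have hS' : ∀ x, mv (fac q T) x - x ∈ S := fun x => hfac ▸ hS x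
  obtain ⟨e, he, hSe⟩ := range_fac T hS' (hdim q) fun e => h1 (by rw [hfac, e, fac_one])
  exact ⟨q, e, he, hSe⟩

end Cfsg.Agent.FormWreath
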