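/-
A member sending one line to a line is monomial; the family of lines satisfies the hypotheses of the meet
argument.
-/
import Cfsg.Agent.Lib.FormWreath.Rigid

set_option autoImplicit false
set_option linter.unusedSectionVars false

namespace Cfsg.Agent.FormWreath

open scoped Matrix
open Matrix Cfsg.Agent.Transvec Cfsg.Agent.TensorMax Cfsg.Agent.WreathMax

variable {F : Type*} [Field F] [Finite F] {k : ℕ} {f : (Fin k → F) → (Fin k → F) → F}
variable {J : Type} [Fintype J] [DecidableEq J] {M : Subgroup (GL (J → Fin k) F)}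

local notation "σ₁" => RingEquiv.refl F

/-- The hypotheses with permutations of the slots. -/
structure Mon (f : (Fin k → F) → (Fin k → F) → F) (M : Subgroup (GL (J → Fin k) F)) : Prop extends Rig f M where
  perm : k = 2 ∨ 3 ≤ Fintype.card J → ∀ π : Equiv.Perm J, ∃ w ∈ M, MonoOf π w
  big : (2 : F) = 0 → 6 ≤ k

/-- All left parts are monomial. -/
def LeftMono (M : Subgroup (GL (J → Fin k) F)) : Prop := ∀ i : J, ∀ B ∈ leftGroup M i, Mono B

namespace Mon

variable (C : Mon f M)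
include C

theorem uform : UForm σ₁ (-1) f := ⟨C.hf, Or.inl ⟨fun _ => rfl, rfl, C.alt⟩⟩

theorem mono_of_stab (ih : LeftMono M) {g : GL (J → Fin k) F} (hg : g ∈ M) {i : J} {c c' : Fin k → F}
    (hc : c ≠ 0) (hc' : c' ≠ 0) (hmap : (Ln i c).map (mvLin g) = Ln i c') : Mono g := by
  obtain ⟨B, A, hBA⟩ := C.kron_of_stab hg hc hc' hmap
  have e := eq_kronGL hBA
  exact mono_of_left e (ih i B ⟨A, e ▸ Subgroup.mem_map_of_mem _ hg⟩)

/-- A member stabilising a line and acting as a scalar on one slot vector is a member of that slot. -/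
theorem fac_of_scalar {i : J} {c : Fin k → F} (hc : c ≠ 0) {d : GL (J → Fin k) F} (hd : d ∈ M)
    (hdS : (Ln i c).map (mvLin d) = Ln i c) {v θ : Fin k → F} {r : F} (hr : r ≠ 0)
    (h : ∀ w, cr i θ (mv d (ins i v w)) = r • w) :
    ∃ (T : GL (Fin k) F) (t : F), d = fac i T ∧ mv T c = t • c := by
  haveI : Nonempty (Rest (J := J) i k) := ⟨fun _ => ⟨0, by have := C.hk; omega⟩⟩
  obtain ⟨B, A, hBA⟩ := C.kron_of_stab hd hc hc hdS
  have e : d = (tg i k F).symm (kronGL B A) := by
    rw [MulEquiv.eq_symm_apply]; exact eq_kronGL hBA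
  have hB : ∀ w, (θ ⬝ᵥ mv A v) • mv B w = r • w := fun w => by
    rw [← h w, e, mv_symm_kron_ins, cr_ins]
  obtain ⟨s⟩ := ‹Nonempty (Rest (J := J) i k)›
  have hne : θ ⬝ᵥ mv A v ≠ 0 := fun h0 => by
    have := hB (Pi.single s 1)
    rw [h0, zero_smul, eq_comm, smul_eq_zero] at this
    exact this.elim hr (Pi.single_ne_zero_iff.2 one_ne_zero)
  obtain ⟨Z, hZ⟩ := exists_scalarGL (m := k) (r / (θ ⬝ᵥ mv A v)) (div_ne_zero hr hne)
  have hfac : d = fac i (Z * A) := ext_ins_mv i fun x w => by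
    have hw : mv B w = (r / (θ ⬝ᵥ mv A v)) • w := by
      rw [div_eq_inv_mul, mul_smul, ← hB w, smul_smul, inv_mul_cancel₀ hne, one_smul]
    rw [e, mv_symm_kron_ins, mv_fac_ins, mv_mul, hZ, hw, map_smul, ins_smul_vec]
  refine ⟨Z * A, ?_⟩
  have hmem : mv (Z * A) c ∈ Submodule.span F {c} := by
    by_contra hn
    obtain ⟨φ, hφ, hφT⟩ := exists_dot (W := Submodule.span F {c}) hn
    have h1 := cr_Ln (i := i) (hφ c (Submodule.mem_span_singleton_self c))
      (hdS.le (mem_map_gl.2 ⟨_, ins_mem i c (Pi.single s 1), rfl⟩))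
    rw [hfac, mv_fac_ins, cr_ins, hφT, one_smul] at h1
    exact Pi.single_ne_zero_iff.2 one_ne_zero h1
  obtain ⟨t, ht⟩ := Submodule.mem_span_singleton.1 hmem
  exact ⟨t, hfac, ht.symm⟩

/-- A member sending a line of the slot j to one of the slot i does the same to the orthogonal lines. -/
theorem cross_step {g : GL (J → Fin k) F} (hg : g ∈ M) {i j : J} {c c' : Fin k → F} (hc : c ≠ 0) (hc' : c' ≠ 0)
    (hmap : (Ln j c).map (mvLin g) = Ln i c') {v : Fin k → F} (hv0 : v ≠ 0) (hv : f v c = 0) :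
    ∃ e, e ≠ 0 ∧ (Ln j v).map (mvLin g) = Ln i e := by
  have hk : 0 < k := by have := C.hk; omega
  obtain ⟨hx, hxx, -⟩ := C.root_fac j v 1
  set x := fac j (rootT C.hf v (C.alt v) 1) with hxdef
  set h := g * x * g⁻¹ with hh
  have hhM : h ∈ M := M.mul_mem (M.mul_mem hg hx) (M.inv_mem hg)
  have hfix : ∀ y ∈ Ln i c', mv h y = y := fun y hy => by
    rw [← hmap] at hy
    obtain ⟨z, hz, rfl⟩ := mem_map_gl.1 hy
    obtain ⟨w, rfl⟩ := mem_Ln_ins hz
    rw [hh, mv_mul, mv_mul, mv_inv_mv, hxx, cr_ins, C.hf.frow_dot, C.hf.comm.1 hv, zero_smul, map_zero,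
      smul_zero, add_zero]
  obtain ⟨θ, hθ⟩ := exists_dot_one hc'
  have hmapS : (Ln i c').map (mvLin h) = Ln i c' := by
    refine Submodule.eq_of_le_of_finrank_le (fun y hy => ?_) (by rw [finrank_map_gl])
    obtain ⟨z, hz, rfl⟩ := mem_map_gl.1 hy
    rw [hfix z hz]; exact hz
  obtain ⟨T, t, hT, -⟩ := C.fac_of_scalar hc' hhM hmapS (v := c') (θ := θ) one_ne_zero fun w => by
    rw [hfix _ (ins_mem i c' w), cr_ins, hθ]
  refine range_fac T (fun y => ?_) (by rw [finrank_map_gl, finrank_Ln j hv0, card_rest_same j i hk]) fun h1 => ?_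
  · rw [← hT, hh, mv_mul, mv_mul, hxx, mv_add, mv_mv_inv, add_sub_cancel_left, one_smul]
    exact mem_map_gl.2 ⟨_, ins_mem j v _, rfl⟩
  · rw [h1, fac_one] at hT
    have hx1 : x = 1 := by
      have := congrArg (fun u => g⁻¹ * u * g) hT
      simpa [hh, mul_assoc] using this
    obtain ⟨d, hd⟩ := C.partner hv0
    obtain ⟨w, hw⟩ : ∃ w : Rest j k → F, w ≠ 0 :=
      ⟨Pi.single (fun _ => ⟨0, hk⟩) 1, Pi.single_ne_zero_iff.2 one_ne_zero⟩
    have e := hxx (ins j d w)
    rw [hx1, mv_one, cr_ins, C.hf.frow_dot, hd, one_smul, one_smul, left_eq_add] at e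
    exact hw (ins_injective j hv0 (e.trans (map_zero _).symm))

/-- A member sending a line of the slot j to one of the slot i does the same to all lines of j. -/
theorem cross_lines {g : GL (J → Fin k) F} (hg : g ∈ M) (hk2 : k ≠ 2) {i j : J} {c c' : Fin k → F} (hc : c ≠ 0)
    (hc' : c' ≠ 0) (hmap : (Ln j c).map (mvLin g) = Ln i c') {v : Fin k → F} (hv0 : v ≠ 0) :
    ∃ e, e ≠ 0 ∧ (Ln j v).map (mvLin g) = Ln i e := by
  classical
  obtain ⟨z, hz, hz0⟩ : ∃ z ∈ C.hf.perp (Submodule.span F {c, v}), z ≠ 0 := by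
    apply Submodule.exists_mem_ne_zero_of_ne_bot
    intro hb
    have h1 := C.hf.finrank_perp (Submodule.span F {c, v})
    rw [hb, finrank_bot, zero_add, Module.finrank_fintype_fun_eq_card, Fintype.card_fin] at h1
    have h2 := finrank_span_le_card (R := F) ({c, v} : Set (Fin k → F))
    have h3 : ({c, v} : Set (Fin k → F)).toFinset.card ≤ 2 := by
      rw [Set.toFinset_insert, Set.toFinset_singleton]; exact Finset.card_le_two
    have := C.hk
    omega
  obtain ⟨e, he, hm⟩ :=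
    C.cross_step hg hc hc' hmap hz0 (hz c (Submodule.subset_span (Set.mem_insert _ _)))
  exact C.cross_step hg hz0 he hm hv0
    (C.hf.comm.1 (hz v (Submodule.subset_span (Set.mem_insert_of_mem _ rfl))))

/-- With two slots a member exchanging the lines of the slots is monomial. -/
theorem mono_of_cross {g : GL (J → Fin k) F} (hg : g ∈ M) (hk2 : k ≠ 2) {i j : J} (hij : j ≠ i)
    (hall : ∀ q, q = i ∨ q = j) {c c' : Fin k → F} (hc : c ≠ 0) (hc' : c' ≠ 0)
    (hmap : (Ln j c).map (mvLin g) = Ln i c') : Mono g := by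
  classical
  haveI : Nonempty J := ⟨i⟩
  have hk : 2 ≤ k := C.hk
  haveI : Subsingleton {q // q ≠ i} := ⟨fun p q => Subtype.ext (((hall p.1).resolve_left p.2).trans
    ((hall q.1).resolve_left q.2).symm)⟩
  haveI : Nonempty {q // q ≠ i} := ⟨⟨j, hij⟩⟩
  have hfwd : ∀ v, v ≠ 0 → ∃ e, e ≠ 0 ∧ (Ln j v).map (mvLin g) = Ln i e := fun v hv =>
    C.cross_lines hg hk2 hc hc' hmap hv
  have hbwd : ∀ e, e ≠ 0 → ∃ v, v ≠ 0 ∧ (Ln i e).map (mvLin g⁻¹) = Ln j v := fun e he =>
    C.cross_lines (M.inv_mem hg) hk2 hc' hc (by rw [← hmap, map_gl_inv]) he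
  -- a vector of the rest is a tensor
  have hrest : ∀ u : Rest i k → F, ∃ a : Fin k → F, pten (fun _ : {q // q ≠ i} => a) = u := fun u => by
    refine ⟨fun a => u fun _ => a, funext fun b => ?_⟩
    haveI : Unique {q // q ≠ i} := uniqueOfSubsingleton ⟨j, hij⟩
    rw [pten, Fintype.prod_unique]
    exact congrArg u (funext fun q => by rw [Subsingleton.elim q default])
  refine mono_of_lines hk fun q v hv => ?_
  rcases hall q with rfl | rfl
  swap
  · obtain ⟨e, he, h⟩ := hfwd v hv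
    exact ⟨i, e, he, h⟩
  obtain ⟨w₀, hw₀⟩ : ∃ w : Rest q k → F, w ≠ 0 :=
    ⟨Pi.single (fun _ => ⟨0, by omega⟩) 1, Pi.single_ne_zero_iff.2 one_ne_zero⟩
  have himg : ∀ w, ∃ e u, mv g (ins q v w) = ins q e u := fun w => by
    obtain ⟨a, rfl⟩ := hrest w
    by_cases ha : a = 0
    · refine ⟨0, 0, ?_⟩
      have : pten (fun _ : {p // p ≠ q} => a) = 0 := funext fun b =>
        Finset.prod_eq_zero (Finset.mem_univ (Classical.arbitrary _)) (by rw [ha]; rfl)
      rw [this, map_zero, map_zero, mv_zero]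
    obtain ⟨e, he, h⟩ := hfwd a ha
    have hmem : ins q v (pten fun _ : {p // p ≠ q} => a) ∈ Ln j a := by
      rw [ins_pten]
      have := pten_mem_Ln j (fun p => if hp : p = q then v else a)
      rwa [dif_neg hij] at this
    obtain ⟨u, hu⟩ := mem_Ln_ins (h.le (mem_map_gl.2 ⟨_, hmem, rfl⟩))
    exact ⟨e, u, hu.symm⟩
  obtain ⟨e₀, u₀, he₀⟩ := himg w₀
  have hne₀ : mv g (ins q v w₀) ≠ 0 := fun h => hw₀
    (ins_injective q hv ((mv_inj g (h.trans (mv_zero g).symm)).trans (map_zero _).symm))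
  have he₀0 : e₀ ≠ 0 := fun h => hne₀ (by rw [he₀, h, ← zero_smul F (0 : Fin k → F), ins_smul_vec, zero_smul])
  have hu₀0 : u₀ ≠ 0 := fun h => hne₀ (by rw [he₀, h, map_zero])
  have hprop : ∀ w, ∃ e, mv g (ins q v w) = ins q e u₀ := by
    intro w
    obtain ⟨e, u, he⟩ := himg w
    by_cases hm : e ∈ Submodule.span F {e₀}
    · -- then w is a multiple of w₀
      obtain ⟨r, hr⟩ := Submodule.mem_span_singleton.1 hm
      obtain ⟨v', hv', hb⟩ := hbwd e₀ he₀0
      obtain ⟨a₀, ha₀⟩ := hrest w₀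
      obtain ⟨a, ha⟩ := hrest w
      have hin : ∀ {z}, mv g z ∈ Ln q e₀ → z ∈ Ln j v' := fun {z} hz => by
        rw [← hb, ← mv_inv_mv g z]
        exact mem_map_gl.2 ⟨_, hz, rfl⟩
      have h0 := hin (he₀ ▸ ins_mem q e₀ u₀)
      have h1 : ins q v w ∈ Ln j v' := hin (by
        rw [he, ← hr, ins_smul_vec]; exact Submodule.smul_mem _ _ (ins_mem _ _ _))
      have hsp : ∀ {b : Fin k → F}, ins q v (pten fun _ : {p // p ≠ q} => b) ∈ Ln j v' →
          b ∈ Submodule.span F {v'} := by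
        intro b hb'
        by_contra hn
        obtain ⟨φ, hφ, hφb⟩ := exists_dot (W := Submodule.span F {v'}) hn
        have := cr_Ln (hφ v' (Submodule.mem_span_singleton_self v')) hb'
        rw [ins_pten] at this
        change ctr φ (push j (pten fun p => if hp : p = q then v else b)) = 0 at this
        rw [push_pten, ctr_ten, dif_neg hij, hφb, one_smul] at this
        exact pten_ne_zero (fun p => by
          rw [dif_pos ((hall p.1).resolve_right p.2)]; exact hv) this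
      obtain ⟨r₀, hr₀⟩ := Submodule.mem_span_singleton.1 (hsp (ha₀ ▸ h0))
      obtain ⟨r₁, hr₁⟩ := Submodule.mem_span_singleton.1 (hsp (ha ▸ h1))
      have hw : ∀ (s : F) (b : Fin k → F),
          pten (fun _ : {p // p ≠ q} => s • b) = s • pten (fun _ : {p // p ≠ q} => b) := fun s b => by
        haveI : Unique {p // p ≠ q} := uniqueOfSubsingleton ⟨j, hij⟩
        funext y
        simp [pten, Fintype.prod_unique]
      have hr₀0 : r₀ ≠ 0 := fun h => hw₀ (by rw [← ha₀, ← hr₀, h, hw, zero_smul])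
      refine ⟨(r₁ / r₀) • e₀, ?_⟩
      have : w = (r₁ / r₀) • w₀ := by
        rw [← ha, ← ha₀, ← hr₀, ← hr₁, hw, hw, smul_smul, div_mul_cancel₀ _ hr₀0]
      rw [this, map_smul, mv_smul, he₀, ins_smul_vec]
    · -- independent images have proportional second parts
      have hd : e₀ ∉ Submodule.span F {e} ∨ u = 0 ∨ e = 0 := by
        refine or_iff_not_imp_right.2 fun h hmem => hm ?_
        rw [not_or] at h
        obtain ⟨r, hr⟩ := Submodule.mem_span_singleton.1 hmem
        have hr0 : r ≠ 0 := fun h' => he₀0 (by rw [← hr, h', zero_smul])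
        exact Submodule.mem_span_singleton.2 ⟨r⁻¹, by rw [← hr, smul_smul, inv_mul_cancel₀ hr0, one_smul]⟩
      rcases hd with hd | hd | hd
      · obtain ⟨e', u', he'⟩ := himg (w₀ + w)
        rw [map_add, mv_add, he₀, he] at he'
        obtain ⟨θ, hθ, hθ₀⟩ := exists_dot hd
        obtain ⟨η, hη, hηe⟩ := exists_dot hm
        have p1 := congrArg (cr q θ) he'
        have p2 := congrArg (cr q η) he'
        simp only [map_add, cr_ins, hθ₀, hηe, hθ e (Submodule.mem_span_singleton_self e),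
          hη e₀ (Submodule.mem_span_singleton_self e₀), one_smul, zero_smul, add_zero, zero_add] at p1 p2
        have hne : θ ⬝ᵥ e' ≠ 0 := fun h => hu₀0 (by rw [p1, h, zero_smul])
        refine ⟨((η ⬝ᵥ e') / (θ ⬝ᵥ e')) • e, ?_⟩
        have : u = ((η ⬝ᵥ e') / (θ ⬝ᵥ e')) • u₀ := by rw [p1, p2, smul_smul, div_mul_cancel₀ _ hne]
        rw [he, this, map_smul, ins_smul_vec]
      · exact ⟨0, by rw [he, hd, map_zero, ← zero_smul F (0 : Fin k → F), ins_smul_vec, zero_smul]⟩
      · exact absurd (hd ▸ zero_mem _ : e ∈ Submodule.span F {e₀}) hm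
  obtain ⟨a, ha⟩ := hrest u₀
  have ha0 : a ≠ 0 := fun h => hu₀0 (by
    rw [← ha]
    exact funext fun b => Finset.prod_eq_zero (Finset.mem_univ (Classical.arbitrary _)) (by rw [h]; rfl))
  refine ⟨j, a, ha0, Submodule.eq_of_le_of_finrank_le (fun y hy => ?_) ?_⟩
  · obtain ⟨z, hz, rfl⟩ := mem_map_gl.1 hy
    obtain ⟨w, rfl⟩ := mem_Ln_ins hz
    obtain ⟨e, he⟩ := hprop w
    rw [he, ← ha, ins_pten]
    have := pten_mem_Ln j (fun p => if hp : p = q then e else a)
    rwa [dif_neg hij] at this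
  · rw [finrank_map_gl, finrank_Ln q hv, finrank_Ln j ha0, card_rest_same j q (by omega)]

/-- A member sending one line to a line is monomial. -/
theorem mono_of_line (ih : LeftMono M) {g : GL (J → Fin k) F} (hg : g ∈ M) {i j : J} {c c' : Fin k → F}
    (hc : c ≠ 0) (hc' : c' ≠ 0) (hmap : (Ln j c).map (mvLin g) = Ln i c') : Mono g := by
  have hk : 0 < k := by have := C.hk; omega
  by_cases hij : j = i
  · subst hij; exact C.mono_of_stab ih hg hc hc' hmap
  by_cases hp : k = 2 ∨ 3 ≤ Fintype.card J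
  swap
  · rw [not_or, not_le] at hp
    refine C.mono_of_cross hg hp.1 hij (fun q => ?_) hc hc' hmap
    by_contra hcon
    rw [not_or] at hcon
    have h1 := Finset.card_le_univ ({q, i, j} : Finset J)
    rw [Finset.card_eq_three.2 ⟨q, i, j, hcon.1, hcon.2, Ne.symm hij, rfl⟩] at h1
    omega
  obtain ⟨w, hw, hwm⟩ := C.perm hp (Equiv.swap i j)
  obtain ⟨A, hA⟩ := hwm
  have hji : (Equiv.swap i j)⁻¹ i = j := by rw [Equiv.swap_inv, Equiv.swap_apply_left]
  have hc0 : mv (A j)⁻¹ c ≠ 0 := fun h => hc (mv_inj _ (h.trans (mv_zero _).symm))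
  have hgw : (Ln i (mv (A j)⁻¹ c)).map (mvLin (g * w)) = Ln i c' := by
    rw [← map_gl_mul, monoOf_map_Ln hk hA i hc0, hji, mv_mv_inv, hmap]
  obtain ⟨τ, hτ⟩ := C.mono_of_stab ih (M.mul_mem hg hw) hc0 hc' hgw
  have hw' : MonoOf (Equiv.swap i j) w := ⟨A, hA⟩
  have e : g = g * w * w⁻¹ := by rw [mul_inv_cancel_right]
  rw [e]
  exact ⟨_, MonoOf.mul (σ := τ) hτ hw'.inv⟩

/-- A root preserving an image of a line forces it to be a line. -/
theorem stab_line (ih : LeftMono M) {g : GL (J → Fin k) F} (hg : g ∈ M)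
    {S T : Submodule F ((J → Fin k) → F)} (hS : IsoLn f S) (hT : IsoLn f T)
    {N : ((J → Fin k) → F) →ₗ[F] (J → Fin k) → F} (R : Rt (Bt_sf C.hf) M S N)
    (hN : ∀ x ∈ T.map (mvLin g), N x ∈ T.map (mvLin g)) : IsoLn f (T.map (mvLin g)) := by
  obtain ⟨i, c, hc, -, rfl⟩ := hS
  obtain ⟨l, e, he, -, rfl⟩ := hT
  have hk : 0 < k := by have := C.hk; omega
  obtain ⟨t, ht, htx⟩ := R.mem 1 (map_one _)
  simp only [one_smul] at htx
  set h' := g⁻¹ * t * g with hh'
  have hh'x : ∀ x, mv h' x = x + mv g⁻¹ (N (mv g x)) := fun x => by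
    rw [hh', mv_mul, mv_mul, htx, mv_add, mv_inv_mv]
  have hh'M : h' ∈ M := M.mul_mem (M.mul_mem (M.inv_mem hg) ht) hg
  have hmap : (Ln l e).map (mvLin h') = Ln l e := by
    refine Submodule.eq_of_le_of_finrank_le (fun x hx => ?_) (by rw [finrank_map_gl])
    obtain ⟨y, hy, rfl⟩ := mem_map_gl.1 hx
    obtain ⟨z, hz, hze⟩ := mem_map_gl.1 (hN _ (mem_map_gl.2 ⟨y, hy, rfl⟩))
    rw [hh'x, ← hze, mv_inv_mv]
    exact add_mem hy hz
  have hmono := C.mono_of_stab ih hh'M he he hmap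
  set S' := (Ln i c).map (mvLin g⁻¹) with hS'
  have hrk : ∀ j : J, Module.finrank F ↥S' = Fintype.card (Rest j k) := fun j => by
    rw [hS', finrank_map_gl, finrank_Ln i hc, card_rest_same i j hk]
  have hne : h' ≠ 1 := fun h1 => by
    obtain ⟨s⟩ : Nonempty (Rest (J := J) i k) := ⟨fun _ => ⟨0, hk⟩⟩
    obtain ⟨x, hx⟩ : ins i c (Pi.single s 1) ∈ LinearMap.range N := R.range.symm ▸ ins_mem i c _
    have e2 := hh'x (mv g⁻¹ x)
    rw [h1, mv_one, mv_mv_inv, hx, left_eq_add] at e2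
    exact Pi.single_ne_zero_iff.2 one_ne_zero
      (ins_injective i hc ((mv_inj _ (e2.trans (mv_zero _).symm)).trans (map_zero _).symm))
  obtain ⟨j, e', he', hSe⟩ := quad_mono C.hk C.big hmono hne
    (fun x => by
      have e1 : mv h' x - x = mv g⁻¹ (N (mv g x)) := by rw [hh'x, add_sub_cancel_left]
      rw [e1, hh'x, mv_mv_inv, R.sq, mv_zero, add_zero])
    (S := S') (fun x => by
      rw [hh'x, add_sub_cancel_left]
      exact mem_map_gl.2 ⟨_, R.apply_mem _, rfl⟩) hrk
  have hline : (Ln j e').map (mvLin g) = Ln i c := by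
    rw [← hSe, hS', map_gl_mul, mul_inv_cancel, map_gl_one]
  obtain ⟨l', e'', he'', hm⟩ := mono_map_line hk (C.mono_of_line ih hg he' hc hline) l he
  exact ⟨l', e'', he'', C.alt _, hm⟩

theorem family (ih : LeftMono M) : Family (Bt_sf C.hf) M (IsoLn f) :=
  family_of C.uform C.hk (fun h2 => le_trans (by norm_num) (C.big (by
    rcases h2 2 rfl with h | h
    · exact h
    · exact absurd h (by
        intro h'
        exact one_ne_zero (show (1 : F) = 0 by linear_combination h')))))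
    C.hM C.sim C.rad (fun g hg S T hS hT N R hN => C.stab_line ih hg hS hT R hN)

/-- The left parts satisfy the hypotheses. -/
theorem left' [Nonempty J] (i : J) : Mon f (leftGroup M i) := by
  classical
  refine { toRig := C.toRig.left i, perm := fun hp π => ?_, big := C.big }
  have hk : 0 < k := by have := C.hk; omega
  have hp' : k = 2 ∨ 3 ≤ Fintype.card J := hp.imp_right fun h => le_trans h (Fintype.card_subtype_le _)
  obtain ⟨w, hw, A, hA⟩ := C.perm hp' (Equiv.Perm.ofSubtype π)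
  have hπi : Equiv.Perm.ofSubtype π i = i := Equiv.Perm.ofSubtype_apply_of_not_mem π (by simp)
  set v₀ : Fin k → F := Pi.single ⟨0, hk⟩ 1
  have hv₀ : v₀ ≠ 0 := Pi.single_ne_zero_iff.2 one_ne_zero
  have hAv : mv (A i) v₀ ≠ 0 := fun h => hv₀ (mv_inj _ (h.trans (mv_zero _).symm))
  obtain ⟨φ, hφ⟩ := exists_dot_one hAv
  set B0 : (Rest i k → F) →ₗ[F] Rest i k → F := (cr i φ).comp ((mvLin w).comp (ins i v₀))
  have hB0 : ∀ z : {j // j ≠ i} → Fin k → F, B0 (pten z) = pten fun j : {j // j ≠ i} => mv (A j) (z (π j)) := by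
    intro z
    show cr i φ (mv w (ins i v₀ (pten z))) = _
    rw [ins_pten, hA, cr_pten, hπi, dif_pos rfl, hφ, one_smul]
    exact congrArg pten (funext fun j => by
      rw [Equiv.Perm.ofSubtype_apply_coe, dif_neg (π j).2])
  have hw' : ∀ v (u : Rest i k → F), mv w (ins i v u) = ins i (mv (A i) v) (B0 u) := fun v u => by
    have e : (mvLin w).comp (ins i v) = (ins i (mv (A i) v)).comp B0 := eq_of_pten fun z => by
      show mv w (ins i v (pten z)) = ins i (mv (A i) v) (B0 (pten z))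
      rw [hB0, ins_pten, ins_pten, hA]
      refine congrArg pten (funext fun j => ?_)
      by_cases hj : j = i
      · subst hj; rw [hπi, dif_pos rfl, dif_pos rfl]
      · rw [dif_neg hj, show Equiv.Perm.ofSubtype π j = ((π ⟨j, hj⟩ : {j // j ≠ i}) : J) from
          Equiv.Perm.ofSubtype_apply_coe π ⟨j, hj⟩, dif_neg (π ⟨j, hj⟩).2]
    exact LinearMap.congr_fun e u
  have hinj : Function.Injective B0 := fun u u' h => ins_injective i hv₀ (mv_inj w (by rw [hw', hw', h]))
  have hdet : IsUnit (LinearMap.toMatrix' B0) := by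
    rw [← Matrix.mulVec_injective_iff_isUnit]
    intro u u' h
    exact hinj (by simpa [LinearMap.toMatrix'_mulVec] using h)
  obtain ⟨B, hB⟩ := hdet
  have hBv : ∀ u, mv B u = B0 u := fun u => by
    show (B : Matrix (Rest i k) (Rest i k) F) *ᵥ u = _
    rw [hB, LinearMap.toMatrix'_mulVec]
  refine ⟨B, ⟨A i, w, hw, ?_⟩, fun j => A j, fun z => by rw [hBv, hB0]⟩
  show tg i k F w = kronGL B (A i)
  rw [← MulEquiv.eq_symm_apply]
  exact ext_ins_mv i fun v u => by rw [hw', mv_symm_kron_ins, hBv]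

end Mon

end Cfsg.Agent.FormWreath
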