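/-
Two opposite root groups over a finite commutative algebra, one twisted by a generator: if members with a
non-unit lower entry are upper triangular with scalar squares, the twist is a scalar.
-/
import Cfsg.Agent.Lib.RootClass.DicksonAlpha
import Cfsg.Agent.Lib.SubfieldMax.Dickson3

set_option autoImplicit false

namespace Cfsg.Agent.FormWreath

open Matrix PStable

/-- The twist is a scalar. -/
theorem twist_scalar {k E : Type*} [Field k] [CommRing E] [Algebra k E] [Finite E] [Nontrivial E]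
    (h2 : (2 : k) ≠ 0) {A : E} (hA : IsUnit A) (hgen : Algebra.adjoin k ({A} : Set E) = ⊤)
    (G : Subgroup (Matrix.SpecialLinearGroup (Fin 2) E))
    (hu : ∀ c : k, ∃ g ∈ G, (g : Matrix (Fin 2) (Fin 2) E) = !![1, algebraMap k E c; 0, 1])
    (hl : ∀ c : k, ∃ g ∈ G, (g : Matrix (Fin 2) (Fin 2) E) = !![1, 0; algebraMap k E c * A, 1])
    (hB : ∀ g ∈ G, ¬IsUnit ((g : Matrix (Fin 2) (Fin 2) E) 1 0) →
      (g : Matrix (Fin 2) (Fin 2) E) 1 0 = 0 ∧
      (∃ a : k, (g : Matrix (Fin 2) (Fin 2) E) 0 0 * (g : Matrix (Fin 2) (Fin 2) E) 0 0 = algebraMap k E a) ∧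
      (Nat.card k = 3 → ∃ a : k, (g : Matrix (Fin 2) (Fin 2) E) 0 0 = algebraMap k E a)) :
    ∃ β : k, A = algebraMap k E β := by
  classical
  obtain ⟨m, hm⟩ := Ideal.exists_maximal E
  letI : Field (E ⧸ m) := Ideal.Quotient.field m
  set φ : E →ₐ[k] E ⧸ m := Ideal.Quotient.mkₐ k m with hφ
  have hsurj : Function.Surjective φ := Ideal.Quotient.mkₐ_surjective k m
  haveI : Finite (E ⧸ m) := Finite.of_surjective _ hsurj
  haveI : Finite k := Finite.of_injective _ (algebraMap k (E ⧸ m)).injective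
  have hα : φ A ≠ 0 := (hA.map φ).ne_zero
  have hgen' : IntermediateField.adjoin k ({φ A} : Set (E ⧸ m)) = ⊤ := by
    have h1 : Algebra.adjoin k ({φ A} : Set (E ⧸ m)) = ⊤ := by
      have h := congrArg (Subalgebra.map φ) hgen
      rw [AlgHom.map_adjoin, Set.image_singleton, Algebra.map_top, (AlgHom.range_eq_top _).2 hsurj] at h
      exact h
    exact eq_top_iff.2 fun x _ => IntermediateField.algebra_adjoin_le_adjoin k _ (h1 ▸ Algebra.mem_top)
  let ψ : Matrix.SpecialLinearGroup (Fin 2) E →* Matrix.SpecialLinearGroup (Fin 2) (E ⧸ m) :=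
    Matrix.SpecialLinearGroup.map (φ : E →+* E ⧸ m)
  have hle : DicksonAlpha.grp (k := k) (φ A) ≤ G.map ψ := by
    rw [DicksonAlpha.grp, Subgroup.closure_le]
    rintro _ (⟨c, rfl⟩ | ⟨c, rfl⟩)
    · obtain ⟨g, hg, e⟩ := hu c
      refine ⟨g, hg, Subtype.ext ?_⟩
      show (g : Matrix (Fin 2) (Fin 2) E).map φ = _
      rw [e]
      ext a b
      fin_cases a <;> fin_cases b <;> simp [upp_val]
    · obtain ⟨g, hg, e⟩ := hl c
      refine ⟨g, hg, Subtype.ext ?_⟩
      show (g : Matrix (Fin 2) (Fin 2) E).map φ = _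
      rw [e]
      ext a b
      fin_cases a <;> fin_cases b <;> simp [low_val]
  -- upper triangular members of the residue group have scalar squares
  have hres : ∀ γ ∈ G.map ψ, (γ : Matrix (Fin 2) (Fin 2) (E ⧸ m)) 1 0 = 0 →
      (∃ a : k, (γ : Matrix (Fin 2) (Fin 2) (E ⧸ m)) 0 0 * (γ : Matrix (Fin 2) (Fin 2) (E ⧸ m)) 0 0 =
        algebraMap k (E ⧸ m) a) ∧
      (Nat.card k = 3 → ∃ a : k, (γ : Matrix (Fin 2) (Fin 2) (E ⧸ m)) 0 0 = algebraMap k (E ⧸ m) a) := by
    rintro _ ⟨g, hg, rfl⟩ h10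
    have h10' : φ ((g : Matrix (Fin 2) (Fin 2) E) 1 0) = 0 := h10
    obtain ⟨-, ⟨a, ha⟩, h3⟩ := hB g hg fun hunit => (hunit.map φ).ne_zero h10'
    refine ⟨⟨a, ?_⟩, fun hk => ?_⟩
    · show φ _ * φ _ = _
      rw [← map_mul, ha, AlgHom.commutes]
    · obtain ⟨b, hb⟩ := h3 hk
      exact ⟨b, by show φ _ = _; rw [hb, AlgHom.commutes]⟩
  have h2F : algebraMap k (E ⧸ m) 2 ≠ 0 := (map_ne_zero _).2 h2
  -- the residue field is the ground field
  obtain ⟨β, hβ⟩ : ∃ β : k, φ A = algebraMap k (E ⧸ m) β := by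
    rcases DicksonAlpha.finite_case' h2 hgen' hα with htop | ⟨h3, γ, hγ, hγu⟩
    · have hsq : ∀ x : E ⧸ m, ∃ a : k, x * x = algebraMap k (E ⧸ m) a := fun x => by
        by_cases hx : x = 0
        · exact ⟨0, by rw [hx, mul_zero, map_zero]⟩
        let δ : Matrix.SpecialLinearGroup (Fin 2) (E ⧸ m) :=
          ⟨!![x, 0; 0, x⁻¹], by simp [Matrix.det_fin_two, hx]⟩
        obtain ⟨⟨a, ha⟩, -⟩ := hres δ (hle (htop ▸ Subgroup.mem_top _)) rfl
        exact ⟨a, ha⟩
      obtain ⟨a, ha⟩ := hsq (φ A)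
      obtain ⟨b, hb⟩ := hsq (φ A + 1)
      refine ⟨(b - a - 1) / 2, mul_left_cancel₀ h2F ?_⟩
      rw [← map_mul, mul_div_cancel₀ _ h2, map_sub, map_sub, map_one, map_ofNat, ← ha, ← hb]
      ring
    · exfalso
      have e11 := congrArg (fun x : Matrix.SpecialLinearGroup (Fin 2) (E ⧸ m) =>
        (x : Matrix (Fin 2) (Fin 2) (E ⧸ m)) 1 1) hγu
      have e01 := congrArg (fun x : Matrix.SpecialLinearGroup (Fin 2) (E ⧸ m) =>
        (x : Matrix (Fin 2) (Fin 2) (E ⧸ m)) 0 1) hγu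
      simp only [Matrix.SpecialLinearGroup.coe_mul, Matrix.mul_apply, Fin.sum_univ_two, upp_val] at e11 e01
      simp at e11 e01
      obtain ⟨b, hb⟩ := (hres γ (hle hγ) e11).2 h3
      have hd := Matrix.SpecialLinearGroup.det_coe γ
      rw [Matrix.det_fin_two, e11, mul_zero, sub_zero] at hd
      have e : algebraMap k (E ⧸ m) (b * b + 1) = 0 := by
        rw [map_add, map_mul, map_one, ← hb]
        linear_combination (γ : Matrix (Fin 2) (Fin 2) (E ⧸ m)) 0 0 * e01 - hd
      have hb2 : b * b + 1 = 0 := (map_eq_zero _).1 e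
      haveI : Fintype k := Fintype.ofFinite k
      have hb0 : b ≠ 0 := fun h => by simp [h] at hb2
      have hcard : Fintype.card k = 3 := by rw [← Nat.card_eq_fintype_card]; exact h3
      have hp : b ^ 2 = 1 := by
        have := FiniteField.pow_card_sub_one_eq_one b hb0
        rwa [hcard] at this
      exact h2 (by linear_combination hb2 - hp)
  have hβ0 : β ≠ 0 := fun h => hα (by rw [hβ, h, map_zero])
  -- one word
  obtain ⟨g₁, hg₁, e₁⟩ := hu (-1)
  obtain ⟨g₂, hg₂, e₂⟩ := hl β⁻¹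
  set e : E := 1 - algebraMap k E β⁻¹ * A with he
  have hW : ((g₁ * g₂ * g₁ : Matrix.SpecialLinearGroup (Fin 2) E) : Matrix (Fin 2) (Fin 2) E) =
      !![e, -(1 + e); 1 - e, e] := by
    rw [Matrix.SpecialLinearGroup.coe_mul, Matrix.SpecialLinearGroup.coe_mul, e₁, e₂, map_neg, map_one]
    ext a b
    fin_cases a <;> fin_cases b <;> simp [he, Matrix.mul_apply, Fin.sum_univ_two] <;> ring
  have hme : φ e = 0 := by
    rw [he, map_sub, map_one, map_mul, AlgHom.commutes, hβ, ← map_mul, inv_mul_cancel₀ hβ0, map_one, sub_self]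
  have hWW : ((g₁ * g₂ * g₁ * (g₁ * g₂ * g₁) : Matrix.SpecialLinearGroup (Fin 2) E) :
      Matrix (Fin 2) (Fin 2) E) 1 0 = algebraMap k E 2 * (e * (1 - e)) := by
    rw [Matrix.SpecialLinearGroup.coe_mul, hW, map_ofNat]
    simp [Matrix.mul_apply, Fin.sum_univ_two]
    ring
  have hzero := (hB _ (G.mul_mem (G.mul_mem (G.mul_mem hg₁ hg₂) hg₁) (G.mul_mem (G.mul_mem hg₁ hg₂) hg₁))
    (fun hunit => by
      rw [hWW] at hunit
      have := (hunit.map φ).ne_zero
      rw [map_mul, map_mul, hme, zero_mul, mul_zero] at this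
      exact this rfl)).1
  rw [hWW] at hzero
  have h2u : IsUnit (algebraMap k E 2) := (isUnit_iff_ne_zero.2 h2).map _
  have h1e : IsUnit (1 - e) := by
    rw [he, sub_sub_cancel]
    exact ((isUnit_iff_ne_zero.2 (inv_ne_zero hβ0)).map _).mul hA
  have he0 : e = 0 := h1e.mul_left_eq_zero.1 (h2u.mul_right_eq_zero.1 hzero)
  refine ⟨β, ?_⟩
  rw [he, sub_eq_zero] at he0
  calc A = algebraMap k E β * (algebraMap k E β⁻¹ * A) := by
        rw [← mul_assoc, ← map_mul, mul_inv_cancel₀ hβ0, map_one, one_mul]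
    _ = _ := by rw [← he0, mul_one]

/-- The same in a ring: the twist is a scalar. -/
theorem twist_ring {k R : Type*} [Field k] [Ring R] [Algebra k R] [Finite R] [Nontrivial R] (h2 : (2 : k) ≠ 0)
    {A : R} (hA : ∀ x : R, A * x = 0 → x = 0) (T : Set (Matrix (Fin 2) (Fin 2) R))
    (hmul : ∀ a ∈ T, ∀ b ∈ T, a * b ∈ T) (hone : 1 ∈ T)
    (hu : ∀ c : k, !![1, algebraMap k R c; 0, 1] ∈ T)
    (hl : ∀ c : k, !![1, 0; algebraMap k R c * A, 1] ∈ T)
    (hup : ∀ g ∈ T, g 0 0 * g 1 1 = 1 → g 1 0 = 0 →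
      (∃ a : k, g 0 0 * g 0 0 = algebraMap k R a) ∧ (Nat.card k = 3 → ∃ a : k, g 0 0 = algebraMap k R a))
    (hconj : ∀ g ∈ T, ∀ g' ∈ T, g * g' = 1 → (∃ x : R, x ≠ 0 ∧ g 1 0 * x = 0) →
      (g * (!![1, 1; 0, 1] : Matrix (Fin 2) (Fin 2) R) * g' : Matrix (Fin 2) (Fin 2) R) 1 0 = 0) :
    ∃ β : k, A = algebraMap k R β := by
  classical
  letI : CommRing (Algebra.adjoin k ({A} : Set R)) :=
    { (inferInstance : Ring (Algebra.adjoin k ({A} : Set R))) with mul_comm := fun a b => mul_comm' a b }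
  haveI : Finite (Algebra.adjoin k ({A} : Set R)) := Subtype.finite
  haveI : Nontrivial (Algebra.adjoin k ({A} : Set R)) :=
    ⟨⟨0, 1, fun e => zero_ne_one (congrArg Subtype.val e)⟩⟩
  set A' : Algebra.adjoin k ({A} : Set R) := ⟨A, Algebra.self_mem_adjoin_singleton k A⟩ with hA'
  have hunit : ∀ e : Algebra.adjoin k ({A} : Set R), (∀ x : R, (e : R) * x = 0 → x = 0) → IsUnit e := fun e he => by
    have hinj : Function.Injective fun x : Algebra.adjoin k ({A} : Set R) => e * x := fun x y hxy => Subtype.ext (by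
      have := congrArg Subtype.val hxy
      simp only [Subalgebra.coe_mul] at this
      exact sub_eq_zero.1 (he _ (by rw [mul_sub, this, sub_self])))
    obtain ⟨x, hx⟩ := (Finite.injective_iff_surjective.1 hinj) 1
    exact isUnit_iff_exists_inv.2 ⟨x, hx⟩
  have hgen : Algebra.adjoin k ({A'} : Set (Algebra.adjoin k ({A} : Set R))) = ⊤ := by
    refine eq_top_iff.2 fun x _ => ?_
    obtain ⟨x, hx⟩ := x
    clear * - hx hA'
    induction hx using Algebra.adjoin_induction with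
    | mem y hy =>
      obtain rfl : y = A := hy
      exact Algebra.self_mem_adjoin_singleton k A'
    | algebraMap r => exact Subalgebra.algebraMap_mem _ r
    | add y z hy hz h1 h2 => exact Subalgebra.add_mem _ h1 h2
    | mul y z hy hz h1 h2 => exact Subalgebra.mul_mem _ h1 h2
  let v : Matrix (Fin 2) (Fin 2) (Algebra.adjoin k ({A} : Set R)) →+* Matrix (Fin 2) (Fin 2) R :=
    (Algebra.adjoin k ({A} : Set R)).val.toRingHom.mapMatrix
  let G : Subgroup (Matrix.SpecialLinearGroup (Fin 2) (Algebra.adjoin k ({A} : Set R))) :=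
    subgroupOfIdempotent {g | v g.1 ∈ T} ⟨1, show v 1 ∈ T by rw [map_one]; exact hone⟩
      (by
        ext g
        constructor
        · rintro ⟨a, ha, b, hb, rfl⟩
          show v ((a * b : Matrix.SpecialLinearGroup (Fin 2) (Algebra.adjoin k ({A} : Set R))) : Matrix (Fin 2) (Fin 2) _) ∈ T
          rw [Matrix.SpecialLinearGroup.coe_mul, map_mul]
          exact hmul _ ha _ hb
        · intro hg
          exact ⟨g, hg, 1, show v 1 ∈ T by rw [map_one]; exact hone, mul_one g⟩)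
  have hu' : ∀ c : k, ∃ g ∈ G, (g : Matrix (Fin 2) (Fin 2) (Algebra.adjoin k ({A} : Set R))) =
      !![1, algebraMap k _ c; 0, 1] := fun c => by
    refine ⟨⟨!![1, algebraMap k _ c; 0, 1], by simp [Matrix.det_fin_two]⟩, ?_, rfl⟩
    show v _ ∈ T
    convert hu c using 1
    ext a b
    fin_cases a <;> fin_cases b <;> simp [v]
  have hl' : ∀ c : k, ∃ g ∈ G, (g : Matrix (Fin 2) (Fin 2) (Algebra.adjoin k ({A} : Set R))) =
      !![1, 0; algebraMap k _ c * A', 1] := fun c => by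
    refine ⟨⟨!![1, 0; algebraMap k _ c * A', 1], by simp [Matrix.det_fin_two]⟩, ?_, rfl⟩
    show v _ ∈ T
    convert hl c using 1
    ext a b
    fin_cases a <;> fin_cases b <;> simp [v, hA']
  have hB : ∀ g ∈ G, ¬IsUnit ((g : Matrix (Fin 2) (Fin 2) (Algebra.adjoin k ({A} : Set R))) 1 0) →
      (g : Matrix (Fin 2) (Fin 2) (Algebra.adjoin k ({A} : Set R))) 1 0 = 0 ∧
      (∃ a : k, (g : Matrix (Fin 2) (Fin 2) (Algebra.adjoin k ({A} : Set R))) 0 0 *
        (g : Matrix (Fin 2) (Fin 2) (Algebra.adjoin k ({A} : Set R))) 0 0 = algebraMap k _ a) ∧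
      (Nat.card k = 3 → ∃ a : k, (g : Matrix (Fin 2) (Fin 2) (Algebra.adjoin k ({A} : Set R))) 0 0 =
        algebraMap k _ a) := by
    intro g hg h10
    have up : ∀ g' ∈ G, (g' : Matrix (Fin 2) (Fin 2) (Algebra.adjoin k ({A} : Set R))) 1 0 = 0 →
        (∃ a : k, (g' : Matrix (Fin 2) (Fin 2) (Algebra.adjoin k ({A} : Set R))) 0 0 *
          (g' : Matrix (Fin 2) (Fin 2) (Algebra.adjoin k ({A} : Set R))) 0 0 = algebraMap k _ a) ∧
        (Nat.card k = 3 → ∃ a : k, (g' : Matrix (Fin 2) (Fin 2) (Algebra.adjoin k ({A} : Set R))) 0 0 =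
          algebraMap k _ a) := fun g' hg' h0 => by
      have hd := Matrix.SpecialLinearGroup.det_coe g'
      rw [Matrix.det_fin_two, h0, mul_zero, sub_zero] at hd
      obtain ⟨⟨a, ha⟩, h3⟩ := hup (v g'.1) hg' (congrArg Subtype.val hd) (congrArg Subtype.val h0)
      exact ⟨⟨a, Subtype.ext ha⟩, fun hk => (h3 hk).imp fun b hb => Subtype.ext hb⟩
    have hne : ∃ x : R, x ≠ 0 ∧ (v g.1) 1 0 * x = 0 := by
      by_contra hcon
      push Not at hcon
      exact h10 (hunit _ fun x hx => by_contra fun hx0 => hcon x hx0 hx)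
    obtain ⟨u, hum, hue⟩ := hu' 1
    have ht0 : ((g * u * g⁻¹ : Matrix.SpecialLinearGroup (Fin 2) (Algebra.adjoin k ({A} : Set R))) :
        Matrix (Fin 2) (Fin 2) (Algebra.adjoin k ({A} : Set R))) 1 0 = 0 := by
      refine Subtype.ext ?_
      have h1 := hconj (v g.1) hg (v (g⁻¹).1) (G.inv_mem hg) (by
        rw [← map_mul, ← Matrix.SpecialLinearGroup.coe_mul, mul_inv_cancel, Matrix.SpecialLinearGroup.coe_one,
          map_one]) hne
      have hvu : v u.1 = !![1, 1; 0, 1] := by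
        show v (u : Matrix (Fin 2) (Fin 2) (Algebra.adjoin k ({A} : Set R))) = _
        rw [hue]
        ext a b
        fin_cases a <;> fin_cases b <;> simp [v]
      rw [← hvu, ← map_mul, ← map_mul, ← Matrix.SpecialLinearGroup.coe_mul,
        ← Matrix.SpecialLinearGroup.coe_mul] at h1
      exact h1
    obtain ⟨⟨a, ha⟩, -⟩ := up _ (G.mul_mem (G.mul_mem hg hum) (G.inv_mem hg)) ht0
    have hdet := Matrix.SpecialLinearGroup.det_coe g
    rw [Matrix.det_fin_two] at hdet
    rw [Matrix.SpecialLinearGroup.coe_mul, Matrix.SpecialLinearGroup.coe_mul, hue,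
      Matrix.SpecialLinearGroup.coe_inv, Matrix.adjugate_fin_two, map_one] at ht0 ha
    simp [Matrix.mul_apply, Fin.sum_univ_two] at ht0 ha
    set g00 := (g : Matrix (Fin 2) (Fin 2) (Algebra.adjoin k ({A} : Set R))) 0 0
    set g01 := (g : Matrix (Fin 2) (Fin 2) (Algebra.adjoin k ({A} : Set R))) 0 1
    set g10 := (g : Matrix (Fin 2) (Fin 2) (Algebra.adjoin k ({A} : Set R))) 1 0
    set g11 := (g : Matrix (Fin 2) (Fin 2) (Algebra.adjoin k ({A} : Set R))) 1 1
    have hsq : g10 * g10 = 0 := by linear_combination -ht0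
    have e0 : g00 * g11 + -((g00 + g01) * g10) = 1 - g00 * g10 := by linear_combination hdet
    rw [e0] at ha
    have ha1 : a = 1 := by
      have e : algebraMap k (Algebra.adjoin k ({A} : Set R)) ((a - 1) * (a - 1)) = 0 := by
        rw [map_mul, map_sub, map_one, ← ha]
        linear_combination (g00 * g00) * (g00 * g10 - 2) ^ 2 * hsq
      exact sub_eq_zero.1 (mul_self_eq_zero.1 ((map_eq_zero _).1 e))
    rw [ha1, map_one] at ha
    have h2y : algebraMap k (Algebra.adjoin k ({A} : Set R)) 2 * (g00 * g10) = 0 := by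
      rw [map_ofNat]
      linear_combination -ha + (g00 * g00) * hsq
    have hy0 : g00 * g10 = 0 := ((isUnit_iff_ne_zero.2 h2).map _).mul_right_eq_zero.1 h2y
    have hg10 : g10 = 0 := by linear_combination -g10 * hdet + g11 * hy0 - g01 * hsq
    exact ⟨hg10, up g hg hg10⟩
  obtain ⟨β, hβ⟩ := twist_scalar h2 (hunit A' hA) hgen G hu' hl' hB
  exact ⟨β, congrArg Subtype.val hβ⟩

/-- With a scalar twist the exchanging and the diagonal matrices are members. -/
theorem words_mem {k R : Type*} [Field k] [Ring R] [Algebra k R] {A : R} {β : k} (hA : A = algebraMap k R β)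
    (hβ : β ≠ 0) (T : Set (Matrix (Fin 2) (Fin 2) R)) (hmul : ∀ a ∈ T, ∀ b ∈ T, a * b ∈ T)
    (hu : ∀ c : k, !![1, algebraMap k R c; 0, 1] ∈ T)
    (hl : ∀ c : k, !![1, 0; algebraMap k R c * A, 1] ∈ T) :
    (!![0, 1; -1, 0] : Matrix (Fin 2) (Fin 2) R) ∈ T ∧
      ∀ a : k, a ≠ 0 → (!![algebraMap k R a, 0; 0, algebraMap k R a⁻¹] : Matrix (Fin 2) (Fin 2) R) ∈ T := by
  have hW : ∀ a : k, a ≠ 0 →
      (!![0, algebraMap k R a; algebraMap k R (-a⁻¹), 0] : Matrix (Fin 2) (Fin 2) R) ∈ T := fun a ha => by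
    have e : algebraMap k R (-a⁻¹ * β⁻¹) * A = algebraMap k R (-a⁻¹) := by
      rw [hA, ← map_mul, mul_assoc, inv_mul_cancel₀ hβ, mul_one]
    have h1 := hmul _ (hmul _ (hu a) _ (hl (-a⁻¹ * β⁻¹))) _ (hu a)
    rw [e] at h1
    have e' : algebraMap k R a * algebraMap k R (-a⁻¹) = -1 := by
      rw [← map_mul, mul_neg, mul_inv_cancel₀ ha, map_neg, map_one]
    have e'' : algebraMap k R (-a⁻¹) * algebraMap k R a = -1 := by
      rw [← map_mul, neg_mul, inv_mul_cancel₀ ha, map_neg, map_one]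
    convert h1 using 1
    rw [Matrix.mul_fin_two, Matrix.mul_fin_two]
    simp only [one_mul, mul_one, zero_mul, mul_zero, add_zero, zero_add, e', e'', add_neg_cancel, neg_add_cancel,
      neg_mul]
  refine ⟨?_, fun a ha => ?_⟩
  · have := hW 1 one_ne_zero
    simpa using this
  · have := hmul _ (hW a ha) _ (hW (-1) (neg_ne_zero.2 one_ne_zero))
    convert this using 1
    rw [Matrix.mul_fin_two]
    simp

end Cfsg.Agent.FormWreath
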