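/-
Coordinates for a pair of largest meet: members acting on the image and the member modulo their meet.
-/
import Cfsg.Agent.Lib.FormWreath.Meet

set_option autoImplicit false
set_option linter.unusedSectionVars false
set_option maxHeartbeats 200000

namespace Cfsg.Agent.FormWreath

open Matrix Cfsg.Agent.Transvec Cfsg.Agent.TensorMax
open WreathMax (mem_map_gl finrank_map_gl)

variable {ι : Type} [Fintype ι] [DecidableEq ι] {F : Type*} [Field F]
variable {σ : F ≃+* F} {ε : F} {B : (ι → F) → (ι → F) → F}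

/-- The fixed field of σ. -/
def fixedK (σ : F ≃+* F) : Subfield F := (σ : F →+* F).eqLocusField (RingHom.id F)

theorem mem_fixedK {c : F} : c ∈ fixedK σ ↔ σ c = c := Iff.rfl

variable {h : SF σ ε B} {M : Subgroup (GL ι F)} {P : Submodule F (ι → F) → Prop} {m : ℕ}

/-- A complement of the meet inside S, coordinates on S and on Y. -/
theorem exists_coords {Y S : Submodule F (ι → F)} {N' N : (ι → F) →ₗ[F] ι → F}
    (Pr : Pair h M Y S N' N) :
    ∃ (Sc : Submodule F (ι → F)) (ψ : (ι → F) →ₗ[F] Sc) (μ : Sc →ₗ[F] ι → F),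
      Sc ≤ S ∧ (∀ s : Sc, ψ (s : ι → F) = s) ∧ (∀ x ∈ S, x - (ψ x : ι → F) ∈ S ⊓ Y) ∧
      (∀ x ∈ S ⊓ Y, ψ x = 0) ∧ (∀ s, μ s ∈ Y) ∧ (∀ s, ψ (N (μ s)) = s) ∧
      ∀ x ∈ Y, x - μ (ψ (N x)) ∈ S ⊓ Y := by
  set I := S ⊓ Y with hI
  obtain ⟨Q₁, hQ₁⟩ := Submodule.exists_isCompl (I.comap S.subtype)
  set Sc := Q₁.map S.subtype with hSc
  have hScS : Sc ≤ S := Submodule.map_subtype_le S Q₁
  have hsup : I ⊔ Sc = S := by
    have := congrArg (Submodule.map S.subtype) hQ₁.sup_eq_top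
    rwa [Submodule.map_sup, Submodule.map_comap_eq, Submodule.range_subtype, Submodule.map_top,
      Submodule.range_subtype, inf_eq_right.2 (inf_le_left : I ≤ S)] at this
  have hinf : I ⊓ Sc = ⊥ := by
    refine (Submodule.eq_bot_iff _).2 fun x hx => ?_
    obtain ⟨y, hy, rfl⟩ := Submodule.mem_map.1 hx.2
    have : y ∈ (I.comap S.subtype) ⊓ Q₁ := ⟨hx.1, hy⟩
    rw [hQ₁.inf_eq_bot, Submodule.mem_bot] at this
    rw [this]
    rfl
  obtain ⟨C₀, hC₀⟩ := Submodule.exists_isCompl S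
  have hcompl : IsCompl Sc (I ⊔ C₀) := by
    refine ⟨disjoint_iff.2 ((Submodule.eq_bot_iff _).2 fun x hx => ?_), codisjoint_iff.2 ?_⟩
    · obtain ⟨a, ha, b, hb, hab⟩ := Submodule.mem_sup.1 hx.2
      have hbS : b ∈ S ⊓ C₀ := ⟨by
        have := S.sub_mem (hScS hx.1) ha.1
        rwa [← hab, add_sub_cancel_left] at this, hb⟩
      rw [hC₀.inf_eq_bot, Submodule.mem_bot] at hbS
      rw [hbS, add_zero] at hab
      have : x ∈ I ⊓ Sc := ⟨hab ▸ ha, hx.1⟩
      rwa [hinf, Submodule.mem_bot] at this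
    · rw [← sup_assoc, sup_comm Sc I, hsup, hC₀.sup_eq_top]
  set ψ := Submodule.linearProjOfIsCompl Sc (I ⊔ C₀) hcompl with hψ
  have hψs : ∀ s : Sc, ψ (s : ι → F) = s := fun s => Submodule.linearProjOfIsCompl_apply_left hcompl s
  have hψI : ∀ x ∈ I, ψ x = 0 := fun x hx =>
    Submodule.linearProjOfIsCompl_apply_eq_zero_iff hcompl |>.2 (Submodule.mem_sup_left hx)
  have hψS : ∀ x ∈ S, x - (ψ x : ι → F) ∈ I := fun x hx => by
    rw [← hsup] at hx
    obtain ⟨a, ha, b, hb, rfl⟩ := Submodule.mem_sup.1 hx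
    rw [map_add, hψI a ha, zero_add, show ψ b = ⟨b, hb⟩ from hψs ⟨b, hb⟩]
    simpa using ha
  set θ : Y →ₗ[F] Sc := ψ.comp (N.comp Y.subtype) with hθ
  have hker : ∀ x : Y, θ x = 0 ↔ (x : ι → F) ∈ I := fun x => by
    constructor
    · intro hx
      have h1 := hψS _ (Pr.rS.apply_mem (x : ι → F))
      rw [show ψ (N (x : ι → F)) = 0 from hx] at h1
      simp only [ZeroMemClass.coe_zero, sub_zero] at h1
      exact ⟨Pr.injY _ x.2 h1.2, x.2⟩
    · intro hx
      show ψ (N (x : ι → F)) = 0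
      rw [Pr.rS.apply_self hx.1, map_zero]
  have hsurj : LinearMap.range θ = ⊤ := by
    refine Submodule.eq_top_of_finrank_eq ?_
    have h1 := LinearMap.finrank_range_add_finrank_ker θ
    have h2 : Module.finrank F ↥(LinearMap.ker θ) = Module.finrank F ↥I := by
      rw [← Submodule.finrank_map_subtype_eq]
      have : (LinearMap.ker θ).map Y.subtype = I := by
        ext x
        simp only [Submodule.mem_map, LinearMap.mem_ker, Submodule.coe_subtype]
        exact ⟨fun ⟨y, hy, e⟩ => e ▸ (hker y).1 hy, fun hx => ⟨⟨x, hx.2⟩, (hker _).2 hx, rfl⟩⟩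
      rw [this]
    have h3 := Submodule.finrank_sup_add_finrank_inf_eq I Sc
    rw [hsup, hinf, finrank_bot] at h3
    have := Pr.dim
    omega
  obtain ⟨μ₀, hμ₀⟩ := LinearMap.exists_rightInverse_of_surjective θ hsurj
  refine ⟨Sc, ψ, Y.subtype.comp μ₀, hScS, hψs, hψS, hψI, fun s => (μ₀ s).2,
    fun s => LinearMap.congr_fun hμ₀ s, fun x hx => ?_⟩
  have : θ (⟨x, hx⟩ - μ₀ (θ ⟨x, hx⟩)) = 0 := by
    rw [map_sub, sub_eq_zero]
    exact (LinearMap.congr_fun hμ₀ (θ ⟨x, hx⟩)).symm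
  exact (hker _).1 this

/-- A member acts on S and Y modulo their meet by a matrix. -/
def Rel {Sc : Submodule F (ι → F)} (I Z : Submodule F (ι → F)) (μ : Sc →ₗ[F] ι → F) (d : GL ι F)
    (g : Matrix (Fin 2) (Fin 2) (Module.End F Sc)) : Prop :=
  (∀ z ∈ Z, mv d z = z) ∧ ∀ s : Sc,
    mv d (s : ι → F) - ((g 0 0 s : ι → F) + μ (g 1 0 s)) ∈ I ∧
    mv d (μ s) - ((g 0 1 s : ι → F) + μ (g 1 1 s)) ∈ I

theorem Rel.mul {Sc I Z : Submodule F (ι → F)} {μ : Sc →ₗ[F] ι → F} (hIZ : I ≤ Z) {d d' : GL ι F}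
    {g g' : Matrix (Fin 2) (Fin 2) (Module.End F Sc)} (hd : Rel I Z μ d g) (hd' : Rel I Z μ d' g') :
    Rel I Z μ (d * d') (g * g') := by
  refine ⟨fun z hz => by rw [mv_mul, hd'.1 z hz, hd.1 z hz], fun s => ?_⟩
  have step : ∀ (x : ι → F) (a b : Sc), mv d' x - ((a : ι → F) + μ b) ∈ I →
      mv (d * d') x - (((g 0 0 a + g 0 1 b : Sc) : ι → F) + μ (g 1 0 a + g 1 1 b)) ∈ I := by
    intro x a b hx
    have h1 : mv d (mv d' x - ((a : ι → F) + μ b)) = mv d' x - ((a : ι → F) + μ b) := hd.1 _ (hIZ hx)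
    rw [mv_sub, mv_add, ← mv_mul] at h1
    have h2 := I.add_mem hx (I.add_mem (hd.2 a).1 (hd.2 b).2)
    convert h2 using 1
    simp only [map_add, Submodule.coe_add]
    linear_combination (norm := module) h1
  simp only [Matrix.mul_apply, Fin.sum_univ_two, LinearMap.add_apply, Module.End.mul_apply]
  exact ⟨step _ _ _ (hd'.2 s).1, step _ _ _ (hd'.2 s).2⟩

end Cfsg.Agent.FormWreath
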