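/-
Odd characteristic: the two roots of a pair of largest meet generate a group with diagonal members and a member
exchanging the image and the member.
-/
import Cfsg.Agent.Lib.FormWreath.Words
import Cfsg.Agent.Lib.FormWreath.Twist

set_option autoImplicit false
set_option linter.unusedSectionVars false

namespace Cfsg.Agent.FormWreath

open Matrix Cfsg.Agent.Transvec Cfsg.Agent.TensorMax
open WreathMax (mem_map_gl finrank_map_gl)

variable {ι : Type} [Fintype ι] [DecidableEq ι] {F : Type*} [Field F]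
variable {ε : F} {B : (ι → F) → (ι → F) → F}
variable {h : SF (RingEquiv.refl F) ε B} {M : Subgroup (GL ι F)} {P : Submodule F (ι → F) → Prop} {m : ℕ}

/-- Diagonal members and an exchanging member of a pair of largest meet. -/
theorem odd_pair [Finite F] (H : Family h M P) (hmax : MaxMeet M P m) (h2 : (2 : F) ≠ 0)
    {Y S : Submodule F (ι → F)} (hS : P S) {N' N : (ι → F) →ₗ[F] ι → F} (Pr : Pair h M Y S N' N)
    (hm : m ≤ Module.finrank F ↥(Y ⊓ S)) (hne : ¬S ≤ Y)
    (hnorm : ∀ d ∈ M, S.map (mvLin d) = S → ∃ ν : F, ∀ x, N (mv d x) = ν • mv d (N x))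
    (h3 : Nat.card F = 3 → ∀ d ∈ M, S.map (mvLin d) = S → (∀ z ∈ h.perp S ⊓ h.perp Y, mv d z = z) →
      ∃ b : F, ∀ s ∈ S, mv d s - b • s ∈ S ⊓ Y) :
    (∀ a : F, a ≠ 0 → ∃ d ∈ M, S.map (mvLin d) = S ∧ (∀ z ∈ h.perp S ⊓ h.perp Y, mv d z = z) ∧
      (∀ s ∈ S, mv d s - a • s ∈ S ⊓ Y) ∧ ∀ y ∈ Y, mv d y - a⁻¹ • y ∈ S ⊓ Y) ∧
    ∃ w ∈ M, S.map (mvLin w) = Y ∧ ∀ z ∈ h.perp S ⊓ h.perp Y, mv w z = z := by
  classical
  obtain ⟨Sc, ψ, μ, hScS, hψs, hψS, hψI, hμY, hμs, hμx⟩ := exists_coords Pr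
  set I := S ⊓ Y with hI
  set Z := h.perp S ⊓ h.perp Y with hZ
  haveI : Finite (Module.End F Sc) := Finite.of_injective _ DFunLike.coe_injective
  set A₀ : Module.End F Sc := (ψ.comp N).comp (N'.comp Sc.subtype) with hA₀
  have hA : ∀ s : Sc, N' (s : ι → F) - μ (A₀ s) ∈ I := fun s => hμx _ (Pr.rY.apply_mem _)
  have hAinj : Function.Injective A₀ := by
    rw [← LinearMap.ker_eq_bot, LinearMap.ker_eq_bot']
    intro s hs
    have h1 := hA s
    rw [hs, map_zero, sub_zero] at h1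
    have h2 : (s : ι → F) ∈ I := ⟨hScS s.2, Pr.injS _ (hScS s.2) h1.1⟩
    rw [← hψs s, hψI _ h2]
  haveI : Nontrivial (Module.End F Sc) := by
    refine ⟨⟨0, 1, fun e => hne fun s hs => ?_⟩⟩
    have h0 : ψ s = 0 := (LinearMap.congr_fun e (ψ s)).symm
    have := hψS s hs
    rw [h0] at this
    simp only [ZeroMemClass.coe_zero, sub_zero] at this
    exact this.2
  have hIz : I ≤ Z := fun x hx => ⟨Pr.rS.iso hx.1, Pr.rY.iso hx.2⟩
  set T : Set (Matrix (Fin 2) (Fin 2) (Module.End F Sc)) := {g | ∃ d ∈ M, Rel I Z μ d g} with hT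
  have hone : (1 : Matrix (Fin 2) (Fin 2) (Module.End F Sc)) ∈ T :=
    ⟨1, M.one_mem, fun z _ => mv_one z, fun s => by simp [mv_one]⟩
  have hmul : ∀ a ∈ T, ∀ b ∈ T, a * b ∈ T := fun a ha b hb => by
    obtain ⟨d, hd, hR⟩ := ha
    obtain ⟨d', hd', hR'⟩ := hb
    exact ⟨d * d', M.mul_mem hd hd', hR.mul hIz hR'⟩
  have hroot : ∀ (c : F) {t : GL ι F}, (∀ x, mv t x = x + c • N x) →
      Rel I Z μ t !![1, algebraMap F (Module.End F Sc) c; 0, 1] := fun c t htx => by
    refine ⟨fun z hz => ?_, fun s => ⟨?_, ?_⟩⟩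
    · rw [htx, Pr.rS.eq_zero_iff.2 hz.1, smul_zero, add_zero]
    · rw [htx, Pr.rS.apply_self (hScS s.2), smul_zero, add_zero]
      simp
    · have h1 := hψS _ (Pr.rS.apply_mem (μ s))
      rw [hμs] at h1
      have h2 := I.smul_mem c h1
      rw [htx]
      convert h2 using 1
      simp
      module
  have hu : ∀ c : F, !![1, algebraMap F (Module.End F Sc) c; 0, 1] ∈ T := fun c => by
    obtain ⟨t, ht, htx⟩ := Pr.rS.mem c rfl
    exact ⟨t, ht, hroot c htx⟩
  have hl : ∀ c : F, !![1, 0; algebraMap F (Module.End F Sc) c * A₀, 1] ∈ T := fun c => by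
    obtain ⟨t, ht, htx⟩ := Pr.rY.mem c rfl
    refine ⟨t, ht, fun z hz => ?_, fun s => ⟨?_, ?_⟩⟩
    · rw [htx, Pr.rY.eq_zero_iff.2 hz.2, smul_zero, add_zero]
    · have h2 := I.smul_mem c (hA s)
      rw [htx]
      convert h2 using 1
      simp [map_smul]
      module
    · rw [htx, Pr.rY.apply_self (hμY s), smul_zero, add_zero]
      simp
  -- members acting on S modulo the meet
  have hmodS : ∀ {d : GL ι F} {g : Matrix (Fin 2) (Fin 2) (Module.End F Sc)}, Rel I Z μ d g → g 1 0 = 0 →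
      ∀ x ∈ S, mv d x - ((g 0 0 (ψ x) : ι → F) + (x - (ψ x : ι → F))) ∈ I := by
    intro d g hd h10 x hx
    have h1 := (hd.2 (ψ x)).1
    rw [h10, LinearMap.zero_apply, map_zero, add_zero] at h1
    have h2 : mv d (x - (ψ x : ι → F)) = x - (ψ x : ι → F) := hd.1 _ (hIz (hψS x hx))
    rw [mv_sub] at h2
    convert h1 using 1
    linear_combination (norm := module) h2
  have hstable : ∀ {d : GL ι F} {g : Matrix (Fin 2) (Fin 2) (Module.End F Sc)}, Rel I Z μ d g → g 1 0 = 0 →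
      S.map (mvLin d) = S := fun {d g} hd h10 => by
    refine Submodule.eq_of_le_of_finrank_le (fun x hx => ?_) (by rw [finrank_map_gl])
    obtain ⟨y, hy, rfl⟩ := mem_map_gl.1 hx
    have h1 := S.add_mem (hmodS hd h10 y hy).1 (S.add_mem (hScS (g 0 0 (ψ y)).2) (hψS y hy).1)
    rwa [sub_add_cancel] at h1
  have hlower : ∀ {d : GL ι F} {g : Matrix (Fin 2) (Fin 2) (Module.End F Sc)}, Rel I Z μ d g →
      S.map (mvLin d) = S → g 1 0 = 0 := fun {d g} hd hdS => LinearMap.ext fun s => by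
    have h1 := (hd.2 s).1
    have h2 : μ (g 1 0 s) ∈ S := by
      have h3 := S.sub_mem (S.sub_mem (hdS.le (mem_map_gl.2 ⟨_, hScS s.2, rfl⟩)) (hScS (g 0 0 s).2)) h1.1
      convert h3 using 1
      module
    rw [← hμs (g 1 0 s), Pr.rS.apply_self h2, map_zero]
    rfl
  have hup : ∀ g ∈ T, g 0 0 * g 1 1 = 1 → g 1 0 = 0 →
      (∃ a : F, g 0 0 * g 0 0 = algebraMap F (Module.End F Sc) a) ∧
      (Nat.card F = 3 → ∃ a : F, g 0 0 = algebraMap F (Module.End F Sc) a) := by
    rintro g ⟨d, hdM, hd⟩ h11 hzero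
    have hdS := hstable hd hzero
    obtain ⟨ν, hν⟩ := hnorm d hdM hdS
    refine ⟨?_, fun hk => ?_⟩
    · have hg11 : ∀ s, g 1 1 s = ν • g 0 0 s := fun s => by
        have e0 := hν (μ s)
        have hN1 := hψS _ (Pr.rS.apply_mem (μ s))
        rw [hμs] at hN1
        have hd1 : mv d (N (μ s) - (s : ι → F)) = N (μ s) - (s : ι → F) := hd.1 _ (hIz hN1)
        rw [mv_sub, sub_eq_iff_eq_add] at hd1
        have e1 : ψ (mv d (N (μ s))) = g 0 0 s := by
          have h1 := (hd.2 s).1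
          rw [hzero, LinearMap.zero_apply, map_zero, add_zero] at h1
          have h2 := hψI _ (I.add_mem hN1 h1)
          rw [show N (μ s) - (s : ι → F) + (mv d (s : ι → F) - (g 0 0 s : ι → F)) =
            mv d (N (μ s)) - (g 0 0 s : ι → F) by rw [hd1]; abel, map_sub, hψs, sub_eq_zero] at h2
          exact h2
        have e2 : N (mv d (μ s)) = N (μ (g 1 1 s)) := by
          have h1 := (hd.2 s).2
          have h2 : N (mv d (μ s) - ((g 0 1 s : ι → F) + μ (g 1 1 s))) = 0 := Pr.rS.apply_self h1.1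
          rw [map_sub, map_add, Pr.rS.apply_self (hScS (g 0 1 s).2), zero_add, sub_eq_zero] at h2
          exact h2
        rw [e2] at e0
        have := congrArg ψ e0
        rwa [hμs, map_smul, e1] at this
      have e : ν • (g 0 0 * g 0 0) = 1 := by
        rw [← h11]
        exact LinearMap.ext fun s => by
          rw [LinearMap.smul_apply, Module.End.mul_apply, Module.End.mul_apply, hg11, map_smul]
      have hν0 : ν ≠ 0 := fun h0 => by
        rw [h0, zero_smul] at e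
        exact zero_ne_one e
      refine ⟨ν⁻¹, ?_⟩
      rw [Algebra.algebraMap_eq_smul_one, ← e, smul_smul, inv_mul_cancel₀ hν0, one_smul]
    · obtain ⟨b, hb⟩ := h3 hk d hdM hdS hd.1
      refine ⟨b, LinearMap.ext fun s => ?_⟩
      have h1 := (hd.2 s).1
      rw [hzero, LinearMap.zero_apply, map_zero, add_zero] at h1
      have h4 := hψI _ (I.sub_mem (hb _ (hScS s.2)) h1)
      rw [sub_sub_sub_cancel_left, map_sub, map_smul, hψs, hψs, sub_eq_zero] at h4
      exact h4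
  have hconj : ∀ g ∈ T, ∀ g' ∈ T, g * g' = 1 → (∃ x : Module.End F Sc, x ≠ 0 ∧ g 1 0 * x = 0) →
      (g * (!![1, 1; 0, 1] : Matrix (Fin 2) (Fin 2) (Module.End F Sc)) * g' :
        Matrix (Fin 2) (Fin 2) (Module.End F Sc)) 1 0 = 0 := by
    rintro g ⟨d, hd, hR⟩ g' ⟨d', hd', hR'⟩ hgg' ⟨f₀, hf₀, hf₀0⟩
    obtain ⟨s₀, hs₀, hs₀0⟩ : ∃ s : Sc, g 1 0 s = 0 ∧ s ≠ 0 := by
      by_contra hcon
      push Not at hcon
      exact hf₀ (LinearMap.ext fun s => hcon _ (LinearMap.congr_fun hf₀0 s))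
    have hIle : I ≤ S.map (mvLin d) ⊓ S := fun x hx => ⟨mem_map_gl.2 ⟨x, hx.1, hR.1 x (hIz hx)⟩, hx.1⟩
    have hds₀ : mv d (s₀ : ι → F) ∈ S.map (mvLin d) ⊓ S := by
      refine ⟨mem_map_gl.2 ⟨_, hScS s₀.2, rfl⟩, ?_⟩
      have h1 := (hR.2 s₀).1
      rw [hs₀, map_zero, add_zero] at h1
      have := S.add_mem h1.1 (hScS (g 0 0 s₀).2)
      rwa [sub_add_cancel] at this
    have hlt : m < Module.finrank F ↥(S.map (mvLin d) ⊓ S) := by
      refine lt_of_le_of_lt (by rw [hI, inf_comm]; exact hm) (Submodule.finrank_lt_finrank_of_lt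
        (lt_of_le_of_ne hIle fun he => hs₀0 ?_))
      rw [← he] at hds₀
      have h1 : mv d (mv d (s₀ : ι → F)) = mv d (s₀ : ι → F) := hR.1 _ (hIz hds₀)
      rw [mv_inj d h1] at hds₀
      rw [← hψs s₀, hψI _ hds₀]
    have hP : P (S.map (mvLin d)) := by
      by_contra hb
      exact absurd (hmax d hd S S hS hS hb) (not_le.2 hlt)
    have hmeet : S.map (mvLin d) ⊓ S ≠ ⊥ := fun hb => by
      rw [hb, finrank_bot] at hlt
      exact Nat.not_lt_zero _ hlt
    obtain ⟨t₁, ht₁, ht₁x⟩ := Pr.rS.mem 1 rfl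
    have hRt₁ := hroot 1 ht₁x
    rw [map_one] at hRt₁
    have hRdd : Rel I Z μ (d * d') 1 := hgg' ▸ hR.mul hIz hR'
    refine hlower ((hR.mul hIz hRt₁).mul hIz hR') ?_
    refine Submodule.eq_of_le_of_finrank_le (fun x hx => ?_) (by rw [finrank_map_gl])
    obtain ⟨y, hy, rfl⟩ := mem_map_gl.1 hx
    have hy' : mv (d * d') y ∈ S := (hstable hRdd (by simp)).le (mem_map_gl.2 ⟨y, hy, rfl⟩)
    have e : mv (d * t₁ * d') y = mv (d * d') y + mv d (N (mv d⁻¹ (mv (d * d') y))) := by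
      rw [mv_mul, mv_mul, ht₁x, one_smul, mv_add, mv_mul d d', mv_inv_mv]
    rw [e]
    exact S.add_mem hy' (H.rel _ S hP hS hmeet _ (Pr.rS.conj hd (H.sim d hd)) _ hy')
  have hAreg : ∀ x : Module.End F Sc, A₀ * x = 0 → x = 0 := fun x hx => LinearMap.ext fun s => by
    have h0 := LinearMap.congr_fun hx s
    rw [Module.End.mul_apply, LinearMap.zero_apply] at h0
    rw [LinearMap.zero_apply]
    exact hAinj (h0.trans (map_zero A₀).symm)
  have htw := twist_ring (k := F) (R := Module.End F Sc) (A := A₀) h2 hAreg T hmul hone hu hl hup hconj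
  refine Exists.elim htw fun β hβ => ?_
  have hβ0 : β ≠ 0 := fun h0 => by
    have hz : A₀ = 0 := by rw [hβ, h0, map_zero]
    obtain ⟨x, hx⟩ := exists_ne (0 : Module.End F Sc)
    exact hx (hAreg x (by rw [hz, zero_mul]))
  -- the exchanging members
  have hWD := words_mem hβ hβ0 T hmul hu hl
  refine ⟨fun a ha => ?_, ?_⟩
  · have hmem := hWD.2 a ha
    rw [hT, Set.mem_setOf_eq] at hmem
    obtain ⟨d, hd, hR⟩ := hmem
    refine ⟨d, hd, hstable hR rfl, hR.1, fun s hs => ?_, fun y hy => ?_⟩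
    · have h1 := I.add_mem (hmodS hR rfl s hs) (I.smul_mem (1 - a) (hψS s hs))
      convert h1 using 1
      simp
      module
    · set s := ψ (N y) with hs
      have h0 := hμx y hy
      have h1 := (hR.2 s).2
      have h2 : mv d (y - μ s) = y - μ s := hR.1 _ (hIz h0)
      rw [mv_sub] at h2
      have h4 := I.add_mem h1 (I.smul_mem (1 - a⁻¹) h0)
      convert h4 using 1
      simp [map_smul]
      linear_combination (norm := module) h2
  · have hmem := hWD.1
    rw [hT, Set.mem_setOf_eq] at hmem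
    obtain ⟨d, hd, hR⟩ := hmem
    refine ⟨d, hd, Submodule.eq_of_le_of_finrank_le (fun x hx => ?_) (by rw [finrank_map_gl, Pr.dim]), hR.1⟩
    obtain ⟨y, hy, rfl⟩ := mem_map_gl.1 hx
    have h1 := (hR.2 (ψ y)).1
    simp at h1
    have h2 := hψS y hy
    have h3 : mv d (y - (ψ y : ι → F)) = y - (ψ y : ι → F) := hR.1 _ (hIz h2)
    rw [mv_sub, sub_eq_iff_eq_add] at h3
    rw [h3]
    refine Y.add_mem h2.2 ?_
    have := Y.sub_mem h1.2 (hμY (ψ y))
    convert this using 1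
    module

end Cfsg.Agent.FormWreath
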