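/-
Odd characteristic: no bad image has a largest meet with a line.
-/
import Cfsg.Agent.Lib.FormWreath.Mono
import Cfsg.Agent.Lib.FormWreath.Odd

set_option autoImplicit false
set_option linter.unusedSectionVars false

namespace Cfsg.Agent.FormWreath

open scoped Matrix
open Matrix Cfsg.Agent.Transvec Cfsg.Agent.TensorMax Cfsg.Agent.WreathMax

variable {F : Type*} [Field F] [Finite F] {k : ℕ} {f : (Fin k → F) → (Fin k → F) → F}
variable {J : Type} [Fintype J] [DecidableEq J] {M : Subgroup (GL (J → Fin k) F)}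

local notation "σ₁" => RingEquiv.refl F

namespace Mon

variable (C : Mon f M)
include C

/-- No bad image has a largest meet. -/
theorem odd_false (ih : LeftMono M) {m : ℕ} (hmax : MaxMeet M (IsoLn f) m) (h2 : (2 : F) ≠ 0) {i : J}
    {c : Fin k → F} (hc : c ≠ 0) {Y : Submodule F ((J → Fin k) → F)} (hbad : ¬IsoLn f Y)
    {N' : ((J → Fin k) → F) →ₗ[F] (J → Fin k) → F} (Pr : Pair (Bt_sf C.hf) M Y (Ln i c) N' (rootN f 1 i c))
    (hm : m ≤ Module.finrank F ↥(Y ⊓ Ln i c)) : False := by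
  classical
  set S := Ln i c with hSdef
  set hB := Bt_sf (J := J) C.hf
  set Z := hB.perp S ⊓ hB.perp Y with hZdef
  have hS : IsoLn f S := ⟨i, c, hc, C.alt c, rfl⟩
  have hne : ¬S ≤ Y := fun hle => hbad (by
    rw [← Submodule.eq_of_le_of_finrank_le hle Pr.dim.le]; exact hS)
  -- roots of S are normalised
  have hnorm : ∀ d ∈ M, S.map (mvLin d) = S → ∃ ν : F, ∀ x, rootN f 1 i c (mv d x) = ν • mv d (rootN f 1 i c x) := by
    intro d hd hdS
    obtain ⟨B, a, μ, ha, -, -, hBx, hkey, -, -⟩ := C.coords hd hc hc hdS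
    refine ⟨a⁻¹, fun x => ?_⟩
    rw [rootN_eq, rootN_eq, one_smul, one_smul, hBx, hkey, map_smul, smul_smul, inv_mul_cancel₀ ha, one_smul]
  -- the middle lies in S and the common orthogonal
  have hI : S ⊓ hB.perp Y = S ⊓ Y :=
    le_antisymm (le_inf inf_le_left Pr.meetS) (inf_le_inf_left _ Pr.rY.iso)
  have hmid : hB.perp S ≤ S ⊔ Z := by
    refine (Submodule.eq_of_le_of_finrank_le (sup_le Pr.rS.iso inf_le_left) ?_).ge
    have h1 := Submodule.finrank_sup_add_finrank_inf_eq S Z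
    have h2 : S ⊓ Z = S ⊓ Y := by
      rw [← hI]
      exact le_antisymm (inf_le_inf_left _ inf_le_right)
        (le_inf inf_le_left (le_inf (inf_le_left.trans Pr.rS.iso) inf_le_right))
    have h3 : Module.finrank F ↥Z + Module.finrank F ↥(S ⊔ Y) = Module.finrank F ((J → Fin k) → F) := by
      rw [hZdef, ← hB.perp_sup]; exact hB.finrank_perp _
    have h4 := Submodule.finrank_sup_add_finrank_inf_eq S Y
    have h5 := hB.finrank_perp S
    have h6 := Pr.dim
    rw [h2] at h1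
    show _ ≤ Module.finrank F ↥(S ⊔ Z)
    omega
  -- for larger k such members lie in the slot
  have hslot : k ≠ 2 → ∀ d ∈ M, S.map (mvLin d) = S → (∀ z ∈ Z, mv d z = z) →
      ∃ (T : GL (Fin k) F) (t : F), d = fac i T ∧ mv T c = t • c ∧
        ∀ v, f v c = 0 → ∀ w, mv d (ins i v w) - ins i v w ∈ S := by
    intro hk2 d hd hdS hdZ
    have hdiff : ∀ v, f v c = 0 → ∀ w, mv d (ins i v w) - ins i v w ∈ S := fun v hv w => by
      obtain ⟨s, hs, z, hz, e⟩ := Submodule.mem_sup.1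
        (hmid ((mem_perp_cr C.hf).2 (by rw [cr_ins, C.hf.frow_dot, hv, zero_smul]) :
          ins i v w ∈ hB.perp S))
      rw [← e, mv_add, hdZ z hz, add_sub_add_right_eq_sub]
      exact S.sub_mem (hdS.le (mem_map_gl.2 ⟨s, hs, rfl⟩)) hs
    obtain ⟨v, hv, hvc⟩ : ∃ v ∈ C.hf.perp (Submodule.span F {c}), v ∉ Submodule.span F {c} := by
      by_contra hcon
      push Not at hcon
      have h1 := C.hf.finrank_perp (Submodule.span F {c})
      have h2 := Submodule.finrank_mono (show C.hf.perp (Submodule.span F {c}) ≤ Submodule.span F {c} from hcon)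
      rw [finrank_span_singleton hc, Module.finrank_fintype_fun_eq_card, Fintype.card_fin] at h1
      rw [finrank_span_singleton hc] at h2
      have := C.hk
      omega
    obtain ⟨θ, hθ, hθv⟩ := exists_dot hvc
    have hfs := C.fac_of_scalar hc hd hdS (v := v) (θ := θ) one_ne_zero fun w => by
      have h1 := cr_Ln (i := i) (hθ c (Submodule.mem_span_singleton_self c))
        (hdiff v (hv c (Submodule.mem_span_singleton_self c)) w)
      rw [map_sub, sub_eq_zero, cr_ins, hθv, one_smul] at h1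
      rw [h1, one_smul]
    obtain ⟨T, t, hT, hTc⟩ := hfs
    exact ⟨T, t, hT, hTc, hdiff⟩
  have hscal : ∀ {T : GL (Fin k) F} {t : F}, mv T c = t • c → ∀ s ∈ S, mv (fac i T) s = t • s := by
    intro T t hTc s hs
    obtain ⟨w, rfl⟩ := mem_Ln_ins hs
    rw [mv_fac_ins, hTc, ins_smul_vec]
  have hfin : ∀ r : F, k = 2 → Nat.card F = 3 → r ≠ 0 → r * r = 1 := fun r _ hF hr => by
    haveI : Fintype F := Fintype.ofFinite F
    have := FiniteField.pow_card_sub_one_eq_one r hr
    rw [Nat.card_eq_fintype_card] at hF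
    rw [hF] at this
    linear_combination this
  have hpair := odd_pair (C.family ih) hmax h2 hS Pr hm hne hnorm fun hF d hd hdS hdZ => by
    have hk2 : k ≠ 2 := fun hk => by
      obtain ⟨a, ha, ha2⟩ := C.hq hk
      exact ha2 (hfin a hk hF ha)
    obtain ⟨T, t, hT, hTc, -⟩ := hslot hk2 d hd hdS hdZ
    refine ⟨t, fun s hs => ?_⟩
    rw [hT, hscal hTc s hs, sub_self]
    exact zero_mem _
  -- a pairing between S and Y
  obtain ⟨s₀, hs₀, y₀, hy₀, hsy⟩ : ∃ s ∈ S, ∃ y ∈ Y, Bt σ₁ f s y ≠ 0 := by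
    by_contra hcon
    push Not at hcon
    exact hne fun s hs => Pr.meetS ⟨hs, fun y hy => hcon s hs y hy⟩
  have hIB : ∀ x ∈ S ⊓ Y, ∀ y, y ∈ S ∨ y ∈ Y → Bt σ₁ f x y = 0 ∧ Bt σ₁ f y x = 0 := fun x hx y hy => by
    have h0 : Bt σ₁ f x y = 0 := hy.elim (fun h => Pr.rS.iso hx.1 y h) fun h => Pr.rY.iso hx.2 y h
    exact ⟨h0, hB.comm.1 h0⟩
  -- diagonal members are isometries
  have hiso : ∀ {a : F} {d : GL (J → Fin k) F}, a ≠ 0 → d ∈ M → (∀ s ∈ S, mv d s - a • s ∈ S ⊓ Y) →
      (∀ y ∈ Y, mv d y - a⁻¹ • y ∈ S ⊓ Y) → ∀ x y, Bt σ₁ f (mv d x) (mv d y) = Bt σ₁ f x y := by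
    intro a d ha hd hds hdy x y
    obtain ⟨μ, -, hμ⟩ := C.sim d hd
    have e := hμ s₀ y₀
    have hi := hds s₀ hs₀
    have hj := hdy y₀ hy₀
    rw [show mv d s₀ = a • s₀ + (mv d s₀ - a • s₀) by abel, show mv d y₀ = a⁻¹ • y₀ + (mv d y₀ - a⁻¹ • y₀) by abel,
      hB.add_left, (hIB _ hi (a⁻¹ • y₀ + (mv d y₀ - a⁻¹ • y₀))
        (Or.inr (Y.add_mem (Y.smul_mem _ hy₀) hj.2))).1, add_zero, hB.add_right,
      (hIB _ hj (a • s₀) (Or.inl (S.smul_mem _ hs₀))).2, add_zero, hB.smul_left, hB.smul_right,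
      RingEquiv.refl_apply, ← mul_assoc, mul_inv_cancel₀ ha] at e
    rw [hμ, ← mul_right_cancel₀ hsy e, one_mul]
  by_cases hk2 : k = 2
  · obtain ⟨a, ha, ha2⟩ := C.hq hk2
    obtain ⟨d, hd, hdS, hdZ, hds, hdy⟩ := hpair.1 a ha
    have hdiso := hiso ha hd hds hdy
    obtain ⟨ν, hν⟩ := hnorm d hd hdS
    -- the meet is zero
    obtain ⟨y₁, hy₁, hy₁S⟩ : ∃ y ∈ Y, y ∉ S := by
      by_contra hcon
      push Not at hcon
      exact hne (Submodule.eq_of_le_of_finrank_le (fun y hy => hcon y hy) Pr.dim.ge).ge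
    have hν' : a⁻¹ = ν * a := by
      by_contra hne'
      refine hy₁S (Pr.injY y₁ hy₁ ?_)
      have e := hν y₁
      have h1 := hdy y₁ hy₁
      have h0 : rootN f 1 i c (mv d y₁ - a⁻¹ • y₁) = 0 := Pr.rS.apply_self h1.1
      rw [map_sub, map_smul, sub_eq_zero] at h0
      have h3 := (hds _ (Pr.rS.apply_mem y₁))
      rw [h0] at e
      have h4 : (a⁻¹ - ν * a) • rootN f 1 i c y₁ ∈ Y := by
        have := Y.smul_mem ν h3.2
        convert this using 1
        rw [smul_sub, ← e, smul_smul, sub_smul]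
      simpa [smul_smul, inv_mul_cancel₀ (sub_ne_zero.2 hne')] using Y.smul_mem (a⁻¹ - ν * a)⁻¹ h4
    have hI0 : ∀ x ∈ S ⊓ Y, x = 0 := by
      intro x₀ hx₀
      obtain ⟨x, rfl⟩ : x₀ ∈ LinearMap.range (rootN f 1 i c) := Pr.rS.range.symm ▸ hx₀.1
      have hfix : mv d (rootN f 1 i c x) = rootN f 1 i c x :=
        hdZ _ ⟨Pr.rS.iso hx₀.1, Pr.rY.iso hx₀.2⟩
      have hrange : mv d x - x ∈ S ⊔ Y := by
        rw [← hB.perp_perp (S ⊔ Y)]
        intro z hz
        rw [hB.perp_sup] at hz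
        have e := hdiso x z
        rw [hdZ z hz] at e
        rw [hB.sub_left, e, sub_self]
      obtain ⟨s, hs, y, hy, e⟩ := Submodule.mem_sup.1 hrange
      have e1 := hν x
      rw [hfix, show mv d x = x + (s + y) by rw [e]; abel, map_add, map_add, Pr.rS.apply_self hs, zero_add] at e1
      have hy' : rootN f 1 i c y = (ν - 1) • rootN f 1 i c x := by rw [sub_smul, one_smul, ← e1, add_sub_cancel_left]
      have hyS : y ∈ S := Pr.injY y hy (hy' ▸ Y.smul_mem _ hx₀.2)
      rw [Pr.rS.apply_self hyS, eq_comm, smul_eq_zero, sub_eq_zero] at hy'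
      refine hy'.resolve_left fun h1 => ha2 ?_
      rw [h1, one_mul] at hν'
      conv_lhs => enter [1]; rw [← hν']
      exact inv_mul_cancel₀ ha
    have hdsa : ∀ s ∈ S, mv d s = a • s := fun s hs => sub_eq_zero.1 (hI0 _ (hds s hs))
    obtain ⟨θ, hθ⟩ := exists_dot_one hc
    have hfs := C.fac_of_scalar hc hd hdS (v := c) (θ := θ) ha fun w => by
      rw [hdsa _ (ins_mem i c w), map_smul, cr_ins, hθ, one_smul]
    obtain ⟨T, t, hT, hTc⟩ := hfs
    obtain ⟨s⟩ : Nonempty (Rest (J := J) i k) := ⟨fun _ => ⟨0, by omega⟩⟩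
    have hta : t = a := by
      have e := hdsa _ (ins_mem i c (Pi.single s 1))
      rw [hT, hscal hTc _ (ins_mem i c _)] at e
      exact smul_left_injective F (fun h => Pi.single_ne_zero_iff.2 (one_ne_zero' F)
        (ins_injective i hc (h.trans (map_zero _).symm))) e
    subst hta
    obtain ⟨d₀, hd₀⟩ := C.partner hc
    have hTiso : ∀ x y, f (mv T x) (mv T y) = f x y := fun x y => by
      obtain ⟨w, w', hw⟩ := C.exists_pairing i
      have := hdiso (ins i x w) (ins i y w')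
      rwa [hT, mv_fac_ins, mv_fac_ins, C.Bt_ins_ins, C.Bt_ins_ins, hw, mul_one, mul_one] at this
    have hsplit : ∀ v, ∃ r, v = r • c + f v c • d₀ := fun v => by
      obtain ⟨r, hr⟩ := Submodule.mem_span_singleton.1 (C.span_of_two hk2 hc
        (show f (v - f v c • d₀) c = 0 by rw [C.hf.sub_left, C.hf.smul_left, hd₀, mul_one, sub_self]))
      exact ⟨r, by rw [hr, sub_add_cancel]⟩
    obtain ⟨γ, hγ⟩ := hsplit (mv T d₀)
    have hτ : f (mv T d₀) c = t⁻¹ := by
      have := hTiso d₀ c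
      rw [hTc, C.hf.smul_right, RingEquiv.refl_apply, hd₀] at this
      exact eq_inv_of_mul_eq_one_right this
    rw [hτ] at hγ
    have hta' : t⁻¹ - t ≠ 0 := fun h => ha2 (by
      rw [sub_eq_zero] at h
      nth_rewrite 2 [← h]
      exact mul_inv_cancel₀ ha)
    set e := d₀ + (γ / (t⁻¹ - t)) • c with he
    have he0 : e ≠ 0 := fun h => by
      have := congrArg (fun y => f y c) h
      rw [he] at this
      simp [C.hf.add_left, C.hf.smul_left, C.alt, hd₀, C.hf.zero_left] at this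
    refine hbad ⟨i, e, he0, C.alt e, Submodule.eq_of_le_of_finrank_le (fun y hy => ?_)
      (le_of_eq (by rw [Pr.dim, hSdef, finrank_Ln i hc, finrank_Ln i he0]))⟩
    refine mem_Ln_of_cr he0 fun φ hφ => ?_
    have hφT : ∀ v, φ ⬝ᵥ mv T v = (t • φ) ⬝ᵥ v := fun v => by
      obtain ⟨r, hr⟩ := hsplit v
      rw [he, dotProduct_add, dotProduct_smul, smul_eq_mul] at hφ
      have h2 : φ ⬝ᵥ d₀ = -(γ / (t⁻¹ - t)) * (φ ⬝ᵥ c) := by linear_combination hφ
      rw [hr, mv_add, mv_smul, mv_smul, hTc, hγ]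
      simp only [smul_dotProduct, dotProduct_add, dotProduct_smul, smul_eq_mul, h2]
      have hg : (γ / (t⁻¹ - t)) * (t⁻¹ - t) = γ := div_mul_cancel₀ _ hta'
      linear_combination (φ ⬝ᵥ c) * (f v c) * (-hg)
    have e1 : mv d y = t⁻¹ • y := sub_eq_zero.1 (hI0 _ (hdy y hy))
    have e2 : cr i φ (mv d y) = t • cr i φ y := by
      rw [hT, cr_fac i T hφT]
      show ctr (t • φ) (push i _) = _
      rw [ctr_smul_vec, LinearMap.smul_apply]
      rfl
    rw [e1, map_smul, ← sub_eq_zero, ← sub_smul] at e2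
    exact (smul_eq_zero.1 e2).resolve_left hta'
  · have h1ne : (-1 : F) ≠ 0 := neg_ne_zero.2 one_ne_zero
    obtain ⟨d, hd, hdS, hdZ, hds, hdy⟩ := hpair.1 (-1) h1ne
    have hdiso := hiso h1ne hd hds hdy
    obtain ⟨T, t, hT, hTc, hdiff⟩ := hslot hk2 d hd hdS hdZ
    obtain ⟨s₁, hs₁, hs₁Y⟩ : ∃ s ∈ S, s ∉ Y := by
      by_contra hcon
      push Not at hcon
      exact hne fun s hs => hcon s hs
    have ht : t = -1 := by
      by_contra hne'
      refine hs₁Y ?_
      have := (hds s₁ hs₁).2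
      rw [hT, hscal hTc s₁ hs₁, ← sub_smul] at this
      have h' := Y.smul_mem (t - -1)⁻¹ this
      rwa [smul_smul, inv_mul_cancel₀ (sub_ne_zero.2 hne'), one_smul] at h'
    subst ht
    have hI0 : ∀ x ∈ S ⊓ Y, x = 0 := fun x hx => by
      have e := hdZ x ⟨Pr.rS.iso hx.1, Pr.rY.iso hx.2⟩
      rw [hT, hscal hTc x hx.1, neg_one_smul] at e
      have h0 : (2 : F) • x = 0 := by
        rw [two_smul]
        nth_rewrite 1 [← e]
        exact neg_add_cancel x
      exact (smul_eq_zero.1 h0).resolve_left h2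
    obtain ⟨v, hv, hvc⟩ : ∃ v ∈ C.hf.perp (Submodule.span F {c}), v ∉ Submodule.span F {c} := by
      by_contra hcon
      push Not at hcon
      have h1 := C.hf.finrank_perp (Submodule.span F {c})
      have h2 := Submodule.finrank_mono (show C.hf.perp (Submodule.span F {c}) ≤ Submodule.span F {c} from hcon)
      rw [finrank_span_singleton hc, Module.finrank_fintype_fun_eq_card, Fintype.card_fin] at h1
      rw [finrank_span_singleton hc] at h2
      have := C.hk
      omega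
    have hvc0 : f v c = 0 := hv c (Submodule.mem_span_singleton_self c)
    obtain ⟨ρ, hρ⟩ : ∃ ρ : F, mv T v = v + ρ • c := by
      have hmem : mv T v - v ∈ Submodule.span F {c} := by
        by_contra hn
        obtain ⟨φ, hφ, hφT⟩ := exists_dot (W := Submodule.span F {c}) hn
        obtain ⟨s⟩ : Nonempty (Rest (J := J) i k) := ⟨fun _ => ⟨0, by have := C.hk; omega⟩⟩
        have h1 := cr_Ln (i := i) (hφ c (Submodule.mem_span_singleton_self c)) (hdiff v hvc0 (Pi.single s 1))
        rw [hT, mv_fac_ins, ← ins_sub_vec, cr_ins, hφT, one_smul] at h1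
        exact Pi.single_ne_zero_iff.2 one_ne_zero h1
      obtain ⟨ρ, hρ⟩ := Submodule.mem_span_singleton.1 hmem
      exact ⟨ρ, by rw [hρ, add_sub_cancel]⟩
    set e := v + (ρ / 2) • c with he
    have he0 : e ≠ 0 := fun h => hvc (by
      have : v = -((ρ / 2) • c) := eq_neg_of_add_eq_zero_left h
      rw [this]
      exact Submodule.neg_mem _ (Submodule.smul_mem _ _ (Submodule.mem_span_singleton_self c)))
    have hTe : mv T e = e := by
      rw [he, mv_add, mv_smul, hρ, hTc, smul_smul]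
      match_scalars
      · ring
      · field_simp; ring
    obtain ⟨w, hw, hwS, hwZ⟩ := hpair.2
    have hline : (Ln i e).map (mvLin w) = Ln i e := by
      refine Submodule.eq_of_le_of_finrank_le (fun x hx => ?_) (by rw [finrank_map_gl])
      obtain ⟨y, hy, rfl⟩ := mem_map_gl.1 hx
      obtain ⟨u, rfl⟩ := mem_Ln_ins hy
      rw [hwZ _ ⟨(mem_perp_cr C.hf).2 (by
          rw [cr_ins, C.hf.frow_dot, he, C.hf.add_left, C.hf.smul_left, hvc0, C.alt, mul_zero, add_zero,
            zero_smul]), fun z hz => ?_⟩]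
      · exact ins_mem i e u
      · have hdz : mv d z = (-1 : F)⁻¹ • z := sub_eq_zero.1 (hI0 _ (hdy z hz))
        have := hdiso (ins i e u) z
        rw [hdz, hT, mv_fac_ins, hTe, hB.smul_right, RingEquiv.refl_apply, inv_neg, inv_one, neg_one_mul] at this
        have h0 : (2 : F) * Bt σ₁ f (ins i e u) z = 0 := by linear_combination -this
        exact (mul_eq_zero.1 h0).resolve_left h2
    obtain ⟨l, e', he', hm'⟩ := mono_map_line (by have := C.hk; omega) (C.mono_of_line ih hw he0 he0 hline) i hc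
    exact hbad ⟨l, e', he', C.alt _, hwS ▸ hm'⟩

end Mon

end Cfsg.Agent.FormWreath
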