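/-
In even characteristic a second member orthogonal to S gives an involution commuting with its root product and
with the root of the image, which excludes pairs of largest meet.
-/
import Cfsg.Agent.Lib.FormWreath.Meet
import Cfsg.Agent.Lib.FormWreath.Residue

set_option autoImplicit false
set_option linter.unusedSectionVars false

namespace Cfsg.Agent.FormWreath

open Matrix Cfsg.Agent.Transvec Cfsg.Agent.TensorMax
open WreathMax (mem_map_gl finrank_map_gl map_gl_mul map_gl_inv map_gl_one)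

variable {ι : Type} [Fintype ι] [DecidableEq ι] {F : Type*} [Field F]
variable {σ : F ≃+* F} {ε : F} {B : (ι → F) → (ι → F) → F}
variable {h : SF σ ε B} {M : Subgroup (GL ι F)} {P : Submodule F (ι → F) → Prop} {m : ℕ}

/-- The members of M fixing a subspace pointwise. -/
def fixer (M : Subgroup (GL ι F)) (Z : Submodule F (ι → F)) : Subgroup (GL ι F) where
  carrier := {g | g ∈ M ∧ ∀ z ∈ Z, mv g z = z}
  one_mem' := ⟨M.one_mem, fun z _ => mv_one z⟩
  mul_mem' {a b} ha hb := ⟨M.mul_mem ha.1 hb.1, fun z hz => by rw [mv_mul, hb.2 z hz, ha.2 z hz]⟩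
  inv_mem' {a} ha := ⟨M.inv_mem ha.1, fun z hz => by conv_lhs => rw [← ha.2 z hz, mv_inv_mv]⟩

/-- The displacement of an element. -/
abbrev disp (g : GL ι F) : (ι → F) →ₗ[F] ι → F := WreathMax.dev g

theorem range_root {S : Submodule F (ι → F)} {N : (ι → F) →ₗ[F] ι → F} (R : Rt h M S N) {t : GL ι F}
    (ht : ∀ x, mv t x = x + N x) : LinearMap.range (disp t) = S := by
  rw [← R.range]
  congr 1
  exact LinearMap.ext fun x => by rw [WreathMax.dev_apply, ht, add_sub_cancel_left]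

/-- No pair of largest meet. -/
theorem even_false [Finite F] (H : Family h M P) (hmax : MaxMeet M P m) (h2 : (2 : F) = 0) {g : GL ι F}
    (hg : g ∈ M) {S T S₂ : Submodule F (ι → F)} (hS : P S) (hT : P T) (hbad : ¬P (T.map (mvLin g)))
    {N' N : (ι → F) →ₗ[F] ι → F} (Pr : Pair h M (T.map (mvLin g)) S N' N)
    (hm : m ≤ Module.finrank F ↥(T.map (mvLin g) ⊓ S))
    (hS₂ : P S₂) (hdis : S ⊓ S₂ = ⊥) (hiso : S₂ ≤ h.perp S)
    (hR : ∀ S₃, P S₃ → S₃ ≤ S ⊔ S₂ → S₃ = S ∨ S ⊓ S₃ = ⊥)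
    (hcent : ∀ z ∈ M, z * z = 1 → z ≠ 1 → (S ⊔ S₂).map (mvLin z) = S ⊔ S₂ →
      (∀ x ∈ h.perp (S ⊔ S₂) ⊓ h.perp (T.map (mvLin g)), mv z x = x) →
      (∀ S₃, P S₃ → S₃ ≤ S ⊔ S₂ → S ⊔ S₂ ≤ S₃ ⊔ (h.perp (S ⊔ S₂) ⊓ h.perp (T.map (mvLin g)))) →
      h.perp (S ⊔ S₂) ≤ (S ⊔ S₂) ⊔ (h.perp (S ⊔ S₂) ⊓ h.perp (T.map (mvLin g))) →
      LinearMap.range (disp z) = S ⊔ S₂ ∨
        ∃ S₃, P S₃ ∧ S₃ ≤ S ⊔ S₂ ∧ LinearMap.range (disp z) = S₃) : False := by
  set Y := T.map (mvLin g) with hY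
  obtain ⟨N₂, R₂⟩ := H.rt S₂ hS₂
  set R := S ⊔ S₂ with hRdef
  have hSR : S ≤ R := le_sup_left
  have hS2R : S₂ ≤ R := le_sup_right
  have hRiso : R ≤ h.perp R := by
    rw [hRdef, h.perp_sup]
    refine sup_le (le_inf Pr.rS.iso fun x hx y hy => h.comm.1 (hiso hy x hx)) (le_inf hiso R₂.iso)
  have hne : ¬S ≤ Y := fun hle => hbad (by
    rw [← Submodule.eq_of_le_of_finrank_le hle Pr.dim.le]; exact hS)
  have hI : Y ⊓ h.perp R = Y ⊓ S := le_antisymm
    (le_inf inf_le_left ((inf_le_inf_left _ (h.perp_anti hSR)).trans Pr.meetY))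
    (inf_le_inf_left _ (hSR.trans hRiso))
  -- the involutions
  obtain ⟨t, ht, htx⟩ := Pr.rS.mem 1 (map_one σ)
  obtain ⟨t₂, ht₂, ht₂x⟩ := R₂.mem 1 (map_one σ)
  obtain ⟨t', ht', ht'x⟩ := Pr.rY.mem 1 (map_one σ)
  simp only [one_smul] at htx ht₂x ht'x
  have h2' : ∀ x : ι → F, x + x = 0 := fun x => by rw [← two_smul F x, h2, zero_smul]
  have hcr : ∀ x, N (N₂ x) = 0 := fun x => Pr.rS.eq_zero_iff.2 (hiso (R₂.apply_mem x))
  have hcr' : ∀ x, N₂ (N x) = 0 := fun x => R₂.eq_zero_iff.2 fun y hy => h.comm.1 (hiso hy _ (Pr.rS.apply_mem x))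
  set ρ := t * t₂ with hρ
  have hρx : ∀ x, mv ρ x = x + (N x + N₂ x) := fun x => by
    rw [hρ, mv_mul, htx, ht₂x, map_add, hcr, add_zero]; abel
  have hρ2 : ρ * ρ = 1 := ext_mv fun x => by
    rw [mv_mul, hρx, hρx, mv_one]
    simp only [map_add, Pr.rS.sq, R₂.sq, hcr, hcr', add_zero]
    linear_combination (norm := module) h2' (N x) + h2' (N₂ x)
  have ht'2 : t' * t' = 1 := ext_mv fun x => by
    rw [mv_mul, ht'x, ht'x, mv_one, map_add, Pr.rY.sq, add_zero, add_assoc, h2', add_zero]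
  have hrρ : LinearMap.range (disp ρ) = R := by
    have e : disp ρ = N + N₂ := LinearMap.ext fun x => by
      rw [WreathMax.dev_apply, hρx, add_sub_cancel_left, LinearMap.add_apply]
    rw [e]
    refine Submodule.eq_of_le_of_finrank_le ?_ ?_
    · rintro _ ⟨x, rfl⟩
      exact Submodule.add_mem_sup (Pr.rS.apply_mem x) (R₂.apply_mem x)
    · have hk : LinearMap.ker (N + N₂) ≤ h.perp R := fun x hx => by
        have hx' : N x + N₂ x = 0 := hx
        have h1 : N x ∈ S ⊓ S₂ := ⟨Pr.rS.apply_mem x, by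
          rw [eq_neg_of_add_eq_zero_left hx']; exact S₂.neg_mem (R₂.apply_mem x)⟩
        rw [hdis, Submodule.mem_bot] at h1
        rw [h1, zero_add] at hx'
        rw [hRdef, h.perp_sup]
        exact ⟨Pr.rS.eq_zero_iff.1 h1, R₂.eq_zero_iff.1 hx'⟩
      have h1 := LinearMap.finrank_range_add_finrank_ker (N + N₂)
      have h2 := h.finrank_perp R
      have h3 := Submodule.finrank_mono hk
      omega
  set Z := h.perp R ⊓ h.perp Y with hZ
  have hρZ : ρ ∈ fixer M Z := ⟨M.mul_mem ht ht₂, fun x hx => by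
    rw [hρx, Pr.rS.eq_zero_iff.2 (h.perp_anti hSR hx.1), R₂.eq_zero_iff.2 (h.perp_anti hS2R hx.1), add_zero,
      add_zero]⟩
  have ht'Z : t' ∈ fixer M Z := ⟨ht', fun x hx => by rw [ht'x, Pr.rY.eq_zero_iff.2 hx.2, add_zero]⟩
  have hrk : Module.finrank F ↥R = Module.finrank F ↥S + Module.finrank F ↥S₂ := by
    have := Submodule.finrank_sup_add_finrank_inf_eq S S₂
    rw [hdis, finrank_bot, add_zero] at this
    exact this
  have hpos : 0 < Module.finrank F ↥S := by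
    rcases Nat.eq_zero_or_pos (Module.finrank F ↥S) with h0 | h0
    · exact absurd ((Submodule.finrank_eq_zero.1 h0).le.trans bot_le) hne
    · exact h0
  have hdim₂ := H.dim S S₂ hS hS₂
  rcases conj_or_central hρ2 ht'2 hρZ ht'Z with ⟨x, -, hx⟩ | ⟨z, hz, hz1, hz2, hzρ, hzt⟩
  · have e := congrArg (fun g => LinearMap.range (disp g)) hx
    have e' : R.map (mvLin x) = Y := by
      rw [← hrρ, ← WreathMax.range_dev_conj]; exact e.trans (range_root Pr.rY ht'x)
    have := congrArg (fun W : Submodule F (ι → F) => Module.finrank F ↥W) e'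
    simp only [finrank_map_gl] at this
    have := Pr.dim
    omega
  have hzR : R.map (mvLin z) = R := by
    rw [← hrρ, ← WreathMax.range_dev_conj, ← hzρ, mul_inv_cancel_right]
  -- dimensions of the common orthogonal space
  have hrad := h.finrank_radicals R Y
  rw [hI] at hrad
  have hsmall : ∀ S₃, P S₃ → Module.finrank F ↥(Y ⊓ h.perp S₃) ≤ m := fun S₃ hS₃ => by
    obtain ⟨N₃, R₃⟩ := H.rt S₃ hS₃
    by_contra hlt
    refine hbad (H.stab g hg S₃ T hS₃ hT N₃ R₃ (stab_of_large H hmax R₃ hg hT (H.dim S₃ T hS₃ hT) ?_))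
    refine lt_of_lt_of_le (not_le.1 hlt) (Submodule.finrank_mono fun x hx => ⟨hx.1, ?_⟩)
    show N₃ x ∈ Y
    rw [R₃.eq_zero_iff.2 hx.2]
    exact Y.zero_mem
  have hK0 : R ⊓ Z = R ⊓ h.perp Y := le_antisymm (inf_le_inf_left _ inf_le_right)
    (le_inf inf_le_left (le_inf (inf_le_left.trans hRiso) inf_le_right))
  have hmI : Module.finrank F ↥(Y ⊓ S) < Module.finrank F ↥Y :=
    Submodule.finrank_lt_finrank_of_lt (lt_of_le_of_ne inf_le_left fun he => hne (by
      have hle : Y ≤ S := inf_eq_left.1 he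
      exact (Submodule.eq_of_le_of_finrank_le hle Pr.dim.ge).ge))
  have hspan : ∀ S₃, P S₃ → S₃ ≤ R → R ≤ S₃ ⊔ Z := fun S₃ hS₃ hle => by
    have h1 := Submodule.finrank_sup_add_finrank_inf_eq S₃ (R ⊓ Z)
    have h2 : S₃ ⊓ (R ⊓ Z) = S₃ ⊓ h.perp Y := by rw [hK0, ← inf_assoc, inf_eq_left.2 hle]
    rw [h2, hK0] at h1
    have h3 := h.finrank_radicals S₃ Y
    have h4 := hsmall S₃ hS₃
    have h5 := H.dim S S₃ hS hS₃
    have he : S₃ ⊔ (R ⊓ Z) = R := by
      refine Submodule.eq_of_le_of_finrank_le (sup_le hle inf_le_left) ?_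
      rw [hK0]
      have := Pr.dim
      omega
    calc R = S₃ ⊔ (R ⊓ Z) := he.symm
      _ ≤ S₃ ⊔ Z := sup_le_sup_left inf_le_right _
  have hmid : h.perp R ≤ R ⊔ Z := by
    refine (Submodule.eq_of_le_of_finrank_le (sup_le hRiso inf_le_left) ?_).ge
    have h1 := Submodule.finrank_sup_add_finrank_inf_eq R Z
    rw [hK0] at h1
    have h2 : Module.finrank F ↥Z + Module.finrank F ↥(R ⊔ Y) = Module.finrank F (ι → F) := by
      rw [hZ, ← h.perp_sup]; exact h.finrank_perp _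
    have h3 := Submodule.finrank_sup_add_finrank_inf_eq R Y
    have h4 : R ⊓ Y = Y ⊓ S := le_antisymm (le_inf inf_le_right fun x hx => Pr.meetY
      ⟨hx.2, h.perp_anti hSR (hRiso hx.1)⟩) (fun x hx => ⟨hSR hx.2, hx.1⟩)
    rw [h4] at h3
    change _ ≤ Module.finrank F ↥(R ⊔ Z)
    have := h.finrank_perp R
    have := Pr.dim
    omega
  have hfixed : ∀ W : Submodule F (ι → F), W.map (mvLin t') = W → ∀ x ∈ W, N' x ∈ W ⊓ Y := fun W hW x hx => by
    refine ⟨?_, Pr.rY.apply_mem x⟩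
    have := W.sub_mem (hW.le (mem_map_gl.2 ⟨x, hx, rfl⟩)) hx
    rwa [ht'x, add_sub_cancel_left] at this
  rcases hcent z hz.1 hz2 hz1 hzR hz.2 hspan hmid with hr | ⟨S₃, hS₃, hle, hr⟩
  · have hW : R.map (mvLin t') = R := by rw [← hr, ← WreathMax.range_dev_conj, hzt, mul_inv_cancel_right]
    refine hne fun y hy => Pr.injS y hy ?_
    have h1 := hfixed R hW y (hSR hy)
    exact Pr.meetY ⟨h1.2, h.perp_anti hSR (hRiso h1.1)⟩
  · have hW : S₃.map (mvLin t') = S₃ := by rw [← hr, ← WreathMax.range_dev_conj, hzt, mul_inv_cancel_right]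
    have hN : ∀ x ∈ S₃, N' x ∈ S₃ ⊓ S := fun x hx => by
      have h1 := hfixed S₃ hW x hx
      exact ⟨h1.1, Pr.meetY ⟨h1.2, h.perp_anti hSR (hRiso (hle h1.1))⟩⟩
    rcases hR S₃ hS₃ hle with rfl | hd
    · exact hne fun y hy => Pr.injS y hy (hN y hy).2
    · have hperp : S₃ ≤ h.perp Y := fun x hx => Pr.rY.eq_zero_iff.1 (by
        have := hN x hx
        rwa [inf_comm, hd, Submodule.mem_bot] at this)
      have h1 : Y ⊓ h.perp S₃ = Y := inf_eq_left.2 fun y hy x hx => h.comm.1 (hperp hx y hy)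
      have h3 := hsmall S₃ hS₃
      rw [h1] at h3
      omega

end Cfsg.Agent.FormWreath
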