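/-
Even characteristic: no bad image has a largest meet with a line.
-/
import Cfsg.Agent.Lib.FormWreath.Mono
import Cfsg.Agent.Lib.FormWreath.Even
import Cfsg.Agent.Lib.FormWreath.BadOdd

set_option autoImplicit false
set_option linter.unusedSectionVars false

namespace Cfsg.Agent.FormWreath

open scoped Matrix
open Matrix Cfsg.Agent.Transvec Cfsg.Agent.TensorMax Cfsg.Agent.WreathMax

variable {F : Type*} [Field F] {k : ℕ} {f : (Fin k → F) → (Fin k → F) → F}
variable {J : Type} [Fintype J] [DecidableEq J]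

theorem cr_add_vec (i : J) (φ ψ : Fin k → F) (x : (J → Fin k) → F) :
    cr i (φ + ψ) x = cr i φ x + cr i ψ x := by
  show ctr (φ + ψ) (push i x) = _
  rw [ctr_add_vec, LinearMap.add_apply]
  rfl

theorem cr_smul_vec (i : J) (a : F) (φ : Fin k → F) (x : (J → Fin k) → F) :
    cr i (a • φ) x = a • cr i φ x := by
  show ctr (a • φ) (push i x) = _
  rw [ctr_smul_vec, LinearMap.smul_apply]
  rfl

theorem exists_rest_ne (i : J) (hk : 0 < k) : ∃ w : Rest i k → F, w ≠ 0 :=
  ⟨Pi.single (fun _ => ⟨0, hk⟩) 1, Pi.single_ne_zero_iff.2 one_ne_zero⟩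

theorem vec_eq_zero {i : J} {v : Fin k → F} {w : Rest i k → F} (hw : w ≠ 0) (h : ins i v w = 0) : v = 0 := by
  by_contra hv
  exact hw (ins_injective i hv (h.trans (map_zero _).symm))

theorem mem_span_of_line_le (hk : 0 < k) {i : J} {c d : Fin k → F} (h : Ln i d ≤ Ln i c) :
    d ∈ Submodule.span F {c} := by
  by_contra hn
  obtain ⟨φ, hφ, hφd⟩ := exists_dot (W := Submodule.span F {c}) hn
  obtain ⟨w, hw⟩ := exists_rest_ne (F := F) i hk
  have := cr_Ln (hφ c (Submodule.mem_span_singleton_self c)) (h (ins_mem i d w))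
  rw [cr_ins, hφd, one_smul] at this
  exact hw this

/-- The slot vectors of a plane. -/
theorem mem_sup_Ln {i : J} {c e : Fin k → F} (hc : c ∉ Submodule.span F {e}) (he : e ∉ Submodule.span F {c})
    {x : (J → Fin k) → F} :
    x ∈ Ln i c ⊔ Ln i e ↔ ∀ φ : Fin k → F, φ ⬝ᵥ c = 0 → φ ⬝ᵥ e = 0 → cr i φ x = 0 := by
  constructor
  · intro hx φ h1 h2
    obtain ⟨a, ha, b, hb, rfl⟩ := Submodule.mem_sup.1 hx
    rw [map_add, cr_Ln h1 ha, cr_Ln h2 hb, add_zero]
  · intro h
    obtain ⟨θ, hθe, hθc⟩ := exists_dot (W := Submodule.span F {e}) hc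
    obtain ⟨η, hηc, hηe⟩ := exists_dot (W := Submodule.span F {c}) he
    have hθe' := hθe e (Submodule.mem_span_singleton_self e)
    have hηc' := hηc c (Submodule.mem_span_singleton_self c)
    have hx : x = ins i c (cr i θ x) + ins i e (cr i η x) := eq_of_cr i fun φ => by
      set φ₀ := φ - (φ ⬝ᵥ c) • θ - (φ ⬝ᵥ e) • η with hφ₀
      have e1 : φ₀ ⬝ᵥ c = 0 := by
        simp only [hφ₀, sub_dotProduct, smul_dotProduct, hθc, hηc', smul_eq_mul]; ring
      have e2 : φ₀ ⬝ᵥ e = 0 := by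
        simp only [hφ₀, sub_dotProduct, smul_dotProduct, hθe', hηe, smul_eq_mul]; ring
      have e3 : φ = φ₀ + ((φ ⬝ᵥ c) • θ + (φ ⬝ᵥ e) • η) := by rw [hφ₀]; abel
      rw [map_add, cr_ins, cr_ins]
      conv_lhs => rw [e3, cr_add_vec, cr_add_vec, cr_smul_vec, cr_smul_vec, h φ₀ e1 e2, zero_add]
    rw [hx]
    exact Submodule.add_mem_sup (ins_mem _ _ _) (ins_mem _ _ _)

variable {M : Subgroup (GL (J → Fin k) F)}

local notation "σ₁" => RingEquiv.refl F

namespace Mon

variable [Finite F] (C : Mon f M)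
include C

/-- No bad image has a largest meet. -/
theorem even_false' (ih : LeftMono M) {m : ℕ} (hmax : MaxMeet M (IsoLn f) m) (h2 : (2 : F) = 0)
    {g : GL (J → Fin k) F} (hg : g ∈ M) {i : J} {c : Fin k → F} (hc : c ≠ 0)
    {T : Submodule F ((J → Fin k) → F)} (hT : IsoLn f T) (hbad : ¬IsoLn f (T.map (mvLin g)))
    {N' : ((J → Fin k) → F) →ₗ[F] (J → Fin k) → F}
    (Pr : Pair (Bt_sf C.hf) M (T.map (mvLin g)) (Ln i c) N' (rootN f 1 i c))
    (hm : m ≤ Module.finrank F ↥(T.map (mvLin g) ⊓ Ln i c)) : False := by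
  classical
  have hk6 : 6 ≤ k := C.big h2
  have hk : 0 < k := by omega
  have hS : IsoLn f (Ln (J := J) i c) := ⟨i, c, hc, C.alt c, rfl⟩
  obtain ⟨e, hec, hne⟩ : ∃ e, f e c = 0 ∧ e ∉ Submodule.span F {c} := by
    by_contra hcon
    push Not at hcon
    have h1 := C.hf.finrank_perp (Submodule.span F {c})
    have h3 := Submodule.finrank_mono (show C.hf.perp (Submodule.span F {c}) ≤ Submodule.span F {c} from
      fun v hv => hcon v (hv c (Submodule.mem_span_singleton_self c)))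
    rw [finrank_span_singleton hc, Module.finrank_fintype_fun_eq_card, Fintype.card_fin] at h1
    rw [finrank_span_singleton hc] at h3
    omega
  have he0 : e ≠ 0 := fun h => hne (h ▸ zero_mem _)
  have hce : c ∉ Submodule.span F {e} := fun h => by
    obtain ⟨r, hr⟩ := Submodule.mem_span_singleton.1 h
    have hr0 : r ≠ 0 := fun h0 => hc (by rw [← hr, h0, zero_smul])
    exact hne (Submodule.mem_span_singleton.2 ⟨r⁻¹, by rw [← hr, smul_smul, inv_mul_cancel₀ hr0, one_smul]⟩)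
  set P : Submodule F (Fin k → F) := Submodule.span F {c, e} with hP
  have hcP : c ∈ P := Submodule.subset_span (Set.mem_insert _ _)
  have heP : e ∈ P := Submodule.subset_span (Set.mem_insert_of_mem _ rfl)
  set S := Ln (F := F) i c with hSdef
  set R := Ln i c ⊔ Ln i e with hRdef
  have hmemR : ∀ {x}, x ∈ R ↔ ∀ φ : Fin k → F, φ ⬝ᵥ c = 0 → φ ⬝ᵥ e = 0 → cr i φ x = 0 :=
    mem_sup_Ln hce hne
  have hφP : ∀ {φ : Fin k → F}, φ ⬝ᵥ c = 0 → φ ⬝ᵥ e = 0 → ∀ x ∈ P, φ ⬝ᵥ x = 0 := fun h1 h3 x hx => by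
    obtain ⟨a, b, rfl⟩ := Submodule.mem_span_pair.1 hx
    rw [dotProduct_add, dotProduct_smul, dotProduct_smul, h1, h3, smul_zero, smul_zero, add_zero]
  have hLR : ∀ x ∈ P, Ln i x ≤ R := fun x hx y hy => hmemR.2 fun φ h1 h3 => cr_Ln (hφP h1 h3 x hx) hy
  have hsub : ∀ S₃, IsoLn f S₃ → S₃ ≤ R → ∃ x ∈ P, x ≠ 0 ∧ S₃ = Ln i x := by
    rintro S₃ ⟨l, d, hd, -, rfl⟩ hle
    have hfP : Module.finrank F ↥P ≤ 2 :=
      (finrank_span_le_card ({c, e} : Set (Fin k → F))).trans (by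
        rw [Set.toFinset_insert, Set.toFinset_singleton]; exact Finset.card_le_two)
    obtain ⟨v, hvP⟩ : ∃ v, v ∉ P := by
      by_contra hcon
      push Not at hcon
      have h3 := Submodule.finrank_mono (fun v _ => hcon v : (⊤ : Submodule F (Fin k → F)) ≤ P)
      rw [finrank_top, Module.finrank_fintype_fun_eq_card, Fintype.card_fin] at h3
      omega
    rcases eq_or_ne l i with rfl | hli
    · refine ⟨d, ?_, hd, rfl⟩
      by_contra hdP
      obtain ⟨θ, hθ, hθd⟩ := exists_dot hdP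
      obtain ⟨w, hw⟩ := exists_rest_ne (F := F) l hk
      have := hmemR.1 (hle (ins_mem l d w)) θ (hθ c hcP) (hθ e heP)
      rw [cr_ins, hθd, one_smul] at this
      exact hw this
    · exfalso
      obtain ⟨θ, hθ, hθv⟩ := exists_dot hvP
      obtain ⟨u, hu⟩ := exists_rest_ne (F := F) (⟨l, hli⟩ : {j // j ≠ i}) hk
      have hv0 : v ≠ 0 := fun h => hvP (h ▸ zero_mem _)
      have hx : ins i v (ins (⟨l, hli⟩ : {j // j ≠ i}) d u) ∈ Ln i v ⊓ Ln l d :=
        inf_eq_ins hli hv0 hd ▸ Submodule.mem_map_of_mem (ins_mem _ d u)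
      have := hmemR.1 (hle hx.2) θ (hθ c hcP) (hθ e heP)
      rw [cr_ins, hθv, one_smul] at this
      exact hu (ins_injective _ hd (this.trans (map_zero _).symm))
  have hperpR : ∀ {x}, (f x c = 0 ∧ f x e = 0) → ∀ w, ins i x w ∈ (Bt_sf (J := J) C.hf).perp R := by
    intro x hx w
    rw [hRdef, (Bt_sf (J := J) C.hf).perp_sup]
    exact ⟨(mem_perp_cr C.hf).2 (by rw [cr_ins, C.hf.frow_dot, hx.1, zero_smul]),
      (mem_perp_cr C.hf).2 (by rw [cr_ins, C.hf.frow_dot, hx.2, zero_smul])⟩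
  have hfPP : ∀ x ∈ P, f x c = 0 ∧ f x e = 0 := fun x hx => by
    obtain ⟨a, b, rfl⟩ := Submodule.mem_span_pair.1 hx
    simp only [C.hf.add_left, C.hf.smul_left, C.alt, hec, C.hf.comm.1 hec, mul_zero, add_zero, and_self]
  have hiso : Ln i e ≤ (Bt_sf (J := J) C.hf).perp S := fun x hx => by
    obtain ⟨w, rfl⟩ := mem_Ln_ins hx
    exact (mem_perp_cr C.hf).2 (by rw [cr_ins, C.hf.frow_dot, hec, zero_smul])
  have hdis : S ⊓ Ln i e = ⊥ := by
    by_contra hm0
    obtain ⟨y, hy, hy0⟩ := Submodule.exists_mem_ne_zero_of_ne_bot hm0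
    exact hne (mem_span_of_line_le hk (Ln_eq_of_meet hy0 hy.1 hy.2).ge)
  refine even_false (C.family ih) hmax h2 hg hS hT hbad Pr hm ⟨i, e, he0, C.alt e, rfl⟩ hdis hiso
    (fun S₃ hS₃ hle => ?_) fun z hz hz2 hz1 hzR hzZ hspan hmid => ?_
  · obtain ⟨x, -, -, rfl⟩ := hsub S₃ hS₃ hle
    refine or_iff_not_imp_right.2 fun hd => ?_
    obtain ⟨y, hy, hy0⟩ := Submodule.exists_mem_ne_zero_of_ne_bot hd
    exact (Ln_eq_of_meet hy0 hy.1 hy.2).symm
  set Z := (Bt_sf (J := J) C.hf).perp R ⊓ (Bt_sf (J := J) C.hf).perp (T.map (mvLin g)) with hZdef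
  have himg : ∀ x ∈ P, x ≠ 0 → ∃ x' ∈ P, x' ≠ 0 ∧ (Ln i x).map (mvLin z) = Ln i x' := by
    intro x hx hx0
    have hle : (Ln i x).map (mvLin z) ≤ R := (Submodule.map_mono (hLR x hx)).trans hzR.le
    refine hsub _ (C.stab_line ih hz hS ⟨i, x, hx0, C.alt x, rfl⟩ Pr.rS fun y hy => ?_) hle
    have hyR : y ∈ (Bt_sf (J := J) C.hf).perp S := by
      have hRp : R ≤ (Bt_sf (J := J) C.hf).perp S := sup_le Pr.rS.iso hiso
      exact hRp (hle hy)
    rw [Pr.rS.eq_zero_iff.2 hyR]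
    exact zero_mem _
  have hzz : ∀ x, mv z (mv z x) = x := fun x => by rw [← mv_mul, hz2, mv_one]
  -- a fixed line
  obtain ⟨f₀, hf₀, hf₀0, hfix⟩ : ∃ f₀ ∈ P, f₀ ≠ 0 ∧ (Ln i f₀).map (mvLin z) = Ln i f₀ := by
    obtain ⟨x₁, hx₁, hx₁0, h1⟩ := himg c hcP hc
    by_cases hd : x₁ ∈ Submodule.span F {c}
    · refine ⟨c, hcP, hc, Submodule.eq_of_le_of_finrank_le (h1.le.trans ?_) (by rw [finrank_map_gl])⟩
      obtain ⟨r, rfl⟩ := Submodule.mem_span_singleton.1 hd
      intro y hy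
      obtain ⟨w, rfl⟩ := mem_Ln_ins hy
      rw [ins_smul_vec]
      exact Submodule.smul_mem _ _ (ins_mem _ _ _)
    have hd' : c ∉ Submodule.span F {x₁} := fun h => by
      obtain ⟨r, hr⟩ := Submodule.mem_span_singleton.1 h
      have hr0 : r ≠ 0 := fun h0 => hc (by rw [← hr, h0, zero_smul])
      exact hd (Submodule.mem_span_singleton.2 ⟨r⁻¹, by rw [← hr, smul_smul, inv_mul_cancel₀ hr0, one_smul]⟩)
    obtain ⟨θ, hθ, hθ1⟩ := exists_dot (W := Submodule.span F {c}) hd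
    obtain ⟨η, hη, hηc⟩ := exists_dot (W := Submodule.span F {x₁}) hd'
    have hθc := hθ c (Submodule.mem_span_singleton_self c)
    have hη1 := hη x₁ (Submodule.mem_span_singleton_self x₁)
    set B := fun w => cr i θ (mv z (ins i c w)) with hB
    set B' := fun w => cr i η (mv z (ins i x₁ w)) with hB'
    have hBz : ∀ w, mv z (ins i c w) = ins i x₁ (B w) := fun w => by
      obtain ⟨u, hu⟩ := mem_Ln_ins (h1.le (mem_map_gl.2 ⟨_, ins_mem i c w, rfl⟩))
      simp only [hB, ← hu, cr_ins, hθ1, one_smul]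
    have hx₁map : (Ln i x₁).map (mvLin z) = Ln i c := by
      rw [← h1, map_gl_mul, hz2, map_gl_one]
    have hB'z : ∀ w, mv z (ins i x₁ w) = ins i c (B' w) := fun w => by
      obtain ⟨u, hu⟩ := mem_Ln_ins (hx₁map.le (mem_map_gl.2 ⟨_, ins_mem i x₁ w, rfl⟩))
      simp only [hB', ← hu, cr_ins, hηc, one_smul]
    have hBB : ∀ w, B' (B w) = w := fun w => by
      have e1 := hzz (ins i c w)
      rw [hBz, hB'z] at e1
      exact ins_injective i hc e1
    have hsum : c + x₁ ≠ 0 := fun h => hd (Submodule.mem_span_singleton.2 ⟨-1, by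
      rw [neg_one_smul, eq_neg_of_add_eq_zero_left h, neg_neg]⟩)
    obtain ⟨x₂, -, -, h2'⟩ := himg (c + x₁) (add_mem hcP hx₁) hsum
    set a := η ⬝ᵥ x₂
    set b := θ ⬝ᵥ x₂
    have hab : ∀ w, a • B w = b • B' w := fun w => by
      obtain ⟨u, hu⟩ := mem_Ln_ins (h2'.le (mem_map_gl.2 ⟨_, ins_mem i (c + x₁) w, rfl⟩))
      rw [ins_add_vec, mv_add, hBz, hB'z] at hu
      have e1 := congrArg (cr i θ) hu
      have e2 := congrArg (cr i η) hu
      simp only [map_add, cr_ins, hθ1, hθc, hη1, hηc, one_smul, zero_smul, add_zero, zero_add] at e1 e2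
      rw [← e1, ← e2, smul_smul, smul_smul, mul_comm]
    obtain ⟨w₀, hw₀⟩ := exists_rest_ne (F := F) i hk
    have hab0 : a ≠ 0 ∧ b ≠ 0 := by
      have hBw : ∀ w, w ≠ 0 → B w ≠ 0 := fun w hw h => hw (by
        have := hBB w
        rw [h] at this
        simp only [hB', map_zero, mv_zero] at this
        exact this.symm)
      have hab' : ¬(a = 0 ∧ b = 0) := fun h => by
        obtain ⟨u, hu⟩ := mem_Ln_ins (h2'.le (mem_map_gl.2 ⟨_, ins_mem i (c + x₁) w₀, rfl⟩))
        rw [ins_add_vec, mv_add, hBz, hB'z] at hu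
        have e1 := congrArg (cr i θ) hu
        simp only [map_add, cr_ins, hθ1, hθc, one_smul, zero_smul, add_zero] at e1
        rw [show θ ⬝ᵥ x₂ = 0 from h.2, zero_smul] at e1
        exact hBw w₀ hw₀ e1.symm
      constructor
      · intro ha
        have := hab (B w₀)
        rw [ha, zero_smul, hBB, eq_comm, smul_eq_zero] at this
        exact this.elim (fun hb => hab' ⟨ha, hb⟩) hw₀
      · intro hb
        have := hab w₀
        rw [hb, zero_smul, smul_eq_zero] at this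
        exact this.elim (fun ha => hab' ⟨ha, hb⟩) (hBw w₀ hw₀)
    have hκ : ∀ w, B' w = (a / b) • B w := fun w => by
      rw [div_eq_inv_mul, mul_smul, hab, smul_smul, inv_mul_cancel₀ hab0.2, one_smul]
    haveI : Fintype F := Fintype.ofFinite F
    haveI : CharP F 2 := by
      rw [← Nat.cast_two (R := F)] at h2
      exact CharTwo.of_one_ne_zero_of_two_eq_zero one_ne_zero (by exact_mod_cast h2)
    obtain ⟨r, hr⟩ := FiniteField.isSquare_of_char_two (ringChar.eq F 2) (b / a)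
    have hr0 : r ≠ 0 := fun h => by
      rw [h, mul_zero] at hr
      exact div_ne_zero hab0.2 hab0.1 hr
    have hra : r * (a / b) = r⁻¹ := by
      refine eq_inv_of_mul_eq_one_left ?_
      rw [mul_right_comm, ← hr, div_mul_div_comm, mul_comm b a, div_self (mul_ne_zero hab0.1 hab0.2)]
    refine ⟨c + r • x₁, add_mem hcP (P.smul_mem r hx₁), fun h => hd' (Submodule.mem_span_singleton.2
      ⟨-r, by rw [neg_smul]; exact (eq_neg_of_add_eq_zero_left h).symm⟩),
      Submodule.eq_of_le_of_finrank_le (fun y hy => ?_) (by rw [finrank_map_gl])⟩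
    obtain ⟨_, hv, rfl⟩ := mem_map_gl.1 hy
    obtain ⟨w, rfl⟩ := mem_Ln_ins hv
    have e1 : mv z (ins i (c + r • x₁) w) = ins i (c + r • x₁) (r⁻¹ • B w) := by
      rw [ins_add_vec, ins_smul_vec, mv_add, mv_smul, hBz, hB'z, hκ, ins_add_vec, ins_smul_vec, map_smul,
        map_smul, map_smul, smul_smul, smul_smul, hra, mul_inv_cancel₀ hr0, one_smul, add_comm]
    rw [e1]
    exact ins_mem _ _ _
  have hf₀e : ∃ e' ∈ P, e' ∉ Submodule.span F {f₀} := by
    by_contra hcon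
    push Not at hcon
    obtain ⟨r, hr⟩ := Submodule.mem_span_singleton.1 (hcon c hcP)
    obtain ⟨r', hr'⟩ := Submodule.mem_span_singleton.1 (hcon e heP)
    have hr0 : r ≠ 0 := fun h0 => hc (by rw [← hr, h0, zero_smul])
    refine hne (Submodule.mem_span_singleton.2 ⟨r' / r, ?_⟩)
    rw [← hr, ← hr', smul_smul, div_mul_cancel₀ _ hr0]
  obtain ⟨e', he', he'n⟩ := hf₀e
  obtain ⟨θ, hθ, hθe'⟩ := exists_dot he'n
  have hθf := hθ f₀ (Submodule.mem_span_singleton_self f₀)
  have hdec : ∀ w, ∃ u, ∃ ζ ∈ Z, ins i f₀ u + ζ = ins i e' w := fun w => by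
    obtain ⟨s, hs, ζ, hζ, e1⟩ := Submodule.mem_sup.1
      (hspan (Ln i f₀) ⟨i, f₀, hf₀0, C.alt f₀, rfl⟩ (hLR f₀ hf₀) (hLR e' he' (ins_mem i e' w)))
    obtain ⟨u, rfl⟩ := mem_Ln_ins hs
    exact ⟨u, ζ, hζ, e1⟩
  have hfs := C.fac_of_scalar hf₀0 hz hfix (v := e') (θ := θ) one_ne_zero fun w => by
    obtain ⟨u, ζ, hζ, e1⟩ := hdec w
    have e2 : cr i θ ζ = w := by
      have := congrArg (cr i θ) e1
      rwa [map_add, cr_ins, cr_ins, hθf, hθe', zero_smul, zero_add, one_smul] at this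
    rw [← e1, mv_add, hzZ ζ hζ, map_add, e2,
      cr_Ln hθf (hfix.le (mem_map_gl.2 ⟨_, ins_mem i f₀ u, rfl⟩)), zero_add, one_smul]
  obtain ⟨U, t, hU, hUf⟩ := hfs
  obtain ⟨w₀, hw₀⟩ := exists_rest_ne (F := F) i hk
  have hdiff : ∀ v w, mv z (ins i v w) - ins i v w = ins i (mv U v - v) w := fun v w => by
    rw [hU, mv_fac_ins, ins_sub_vec]
  have hUfix : ∀ v, mv z (ins i v w₀) = ins i v w₀ → mv U v = v := fun v hv =>
    sub_eq_zero.1 (vec_eq_zero hw₀ (by rw [← hdiff, hv, sub_self]))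
  have hU2 : ∀ v, mv U (mv U v) = v := fun v => sub_eq_zero.1 (vec_eq_zero hw₀ (by
    rw [ins_sub_vec, ← mv_fac_ins, ← mv_fac_ins, ← hU, hzz, sub_self]))
  have ht : t = 1 := by
    have := hU2 f₀
    rw [hUf, mv_smul, hUf, smul_smul] at this
    nth_rewrite 2 [← one_smul F f₀] at this
    have h1 := smul_left_injective F hf₀0 this
    have h3 : (t - 1) * (t - 1) = 0 := by linear_combination h1 + (1 - t) * h2
    exact sub_eq_zero.1 ((mul_self_eq_zero).1 h3)
  rw [ht, one_smul] at hUf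
  have hUP : ∀ x ∈ P, mv U x = x := by
    have hUe' : mv U e' = e' := hUfix e' (by
      obtain ⟨u, ζ, hζ, e1⟩ := hdec w₀
      rw [← e1, mv_add, hzZ ζ hζ]
      congr 1
      rw [hU, mv_fac_ins, hUf])
    intro x hx
    have hspanP : P ≤ Submodule.span F {f₀, e'} := by
      refine (Submodule.eq_of_le_of_finrank_le (Submodule.span_le.2 (by
        rintro y (rfl | rfl) <;> assumption)) ?_).ge
      have hli : LinearIndependent F ![f₀, e'] := by
        rw [LinearIndependent.pair_iff' hf₀0]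
        exact fun a h => he'n (Submodule.mem_span_singleton.2 ⟨a, h⟩)
      have h3 := finrank_span_eq_card hli
      rw [Matrix.range_cons, Matrix.range_cons, Matrix.range_empty, Set.union_empty, Set.singleton_union,
        Fintype.card_fin] at h3
      rw [h3]
      exact (finrank_span_le_card ({c, e} : Set (Fin k → F))).trans (by
        rw [Set.toFinset_insert, Set.toFinset_singleton]; exact Finset.card_le_two)
    obtain ⟨a, b, rfl⟩ := Submodule.mem_span_pair.1 (hspanP hx)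
    rw [mv_add, mv_smul, mv_smul, hUf, hUe']
  have hUQ : ∀ x, f x c = 0 → f x e = 0 → mv U x = x := fun x h1 h3 => hUfix x (by
    obtain ⟨s, hs, ζ, hζ, e1⟩ := Submodule.mem_sup.1 (hmid (hperpR ⟨h1, h3⟩ w₀))
    obtain ⟨a, ha, b, hb, rfl⟩ := Submodule.mem_sup.1 hs
    obtain ⟨u, rfl⟩ := mem_Ln_ins ha
    obtain ⟨u', rfl⟩ := mem_Ln_ins hb
    rw [← e1, mv_add, mv_add, hzZ ζ hζ, hU, mv_fac_ins, mv_fac_ins, hUP c hcP, hUP e heP])
  have hiso' : ∀ x y, f (mv U x) (mv U y) = f x y := by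
    obtain ⟨μ, -, hμ⟩ := C.sim z hz
    obtain ⟨w, w', hw⟩ := C.exists_pairing i
    obtain ⟨v, v', hv⟩ := C.exists_pair_two
    have key : ∀ x y, f (mv U x) (mv U y) = μ * f x y := fun x y => by
      have := hμ (ins i x w) (ins i y w')
      rwa [hU, mv_fac_ins, mv_fac_ins, C.Bt_ins_ins, C.Bt_ins_ins, hw, mul_one, mul_one] at this
    have h1 : μ = 1 := by
      have e1 := key (mv U v) (mv U v')
      rw [hU2, hU2, key, hv] at e1
      have h3 : (μ - 1) * (μ - 1) = 0 := by linear_combination -e1 + (1 - μ) * h2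
      exact sub_eq_zero.1 ((mul_self_eq_zero).1 h3)
    intro x y
    rw [key, h1, one_mul]
  have hrangeP : ∀ v, mv U v - v ∈ P := fun v => by
    have hpp : P = C.hf.perp (C.hf.perp P) := (C.hf.perp_perp P).symm
    rw [hpp]
    intro x hx
    have e1 : mv U x = x := hUQ x (hx c hcP) (hx e heP)
    have e2 := hiso' v x
    rw [e1] at e2
    rw [C.hf.sub_left, e2, sub_self]
  set Q : Submodule F (Fin k → F) := LinearMap.range (mvLin U - LinearMap.id) with hQ
  have hQP : Q ≤ P := by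
    rintro _ ⟨v, rfl⟩
    exact hrangeP v
  have hcr : ∀ {φ : Fin k → F}, (∀ y ∈ Q, φ ⬝ᵥ y = 0) → ∀ x, cr i φ (mv z x - x) = 0 := fun {φ} hφ x => by
    rw [map_sub, hU, cr_fac i U (φ' := φ) (fun v => by
      have := hφ _ ⟨v, rfl⟩
      rw [LinearMap.sub_apply, LinearMap.id_apply, dotProduct_sub, sub_eq_zero] at this
      exact this), sub_self]
  have hge : ∀ q ∈ Q, ∀ w, ins i q w ∈ LinearMap.range (disp z) := by
    rintro q ⟨v, rfl⟩ w
    exact ⟨ins i v w, by rw [WreathMax.dev_apply, hdiff]; rfl⟩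
  by_cases hfull : c ∈ Q ∧ e ∈ Q
  · refine Or.inl (le_antisymm ?_ (sup_le (fun x hx => ?_) fun x hx => ?_))
    · rintro _ ⟨x, rfl⟩
      rw [WreathMax.dev_apply]
      exact hmemR.2 fun φ h1 h3 => hcr (fun y hy => hφP h1 h3 y (hQP hy)) x
    · obtain ⟨w, rfl⟩ := mem_Ln_ins hx
      exact hge c hfull.1 w
    · obtain ⟨w, rfl⟩ := mem_Ln_ins hx
      exact hge e hfull.2 w
  · obtain ⟨v, hv⟩ : ∃ v, mv U v - v ≠ 0 := by
      by_contra hcon
      push Not at hcon
      exact hz1 (by rw [hU, show U = 1 from ext_mv fun v => by rw [mv_one, sub_eq_zero.1 (hcon v)], fac_one])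
    set q := mv U v - v with hq
    have hqQ : q ∈ Q := ⟨v, rfl⟩
    have hQq : Q ≤ Submodule.span F {q} := by
      refine (Submodule.eq_of_le_of_finrank_le ((Submodule.span_singleton_le_iff_mem _ _).2 hqQ) ?_).ge
      rw [finrank_span_singleton hv]
      have hlt : Q < P := lt_of_le_of_ne hQP fun h => hfull ⟨h ▸ hcP, h ▸ heP⟩
      have h3 := Submodule.finrank_lt_finrank_of_lt hlt
      have h4 : Module.finrank F ↥P ≤ 2 := (finrank_span_le_card ({c, e} : Set (Fin k → F))).trans (by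
        rw [Set.toFinset_insert, Set.toFinset_singleton]; exact Finset.card_le_two)
      omega
    refine Or.inr ⟨Ln i q, ⟨i, q, hv, C.alt q, rfl⟩, hLR q (hQP hqQ), le_antisymm ?_ fun x hx => ?_⟩
    · rintro _ ⟨x, rfl⟩
      rw [WreathMax.dev_apply]
      refine mem_Ln_of_cr hv fun φ hφ => hcr (fun y hy => ?_) x
      obtain ⟨r, rfl⟩ := Submodule.mem_span_singleton.1 (hQq hy)
      rw [dotProduct_smul, hφ, smul_zero]
    · obtain ⟨w, rfl⟩ := mem_Ln_ins hx
      exact hge q hqQ w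

end Mon

end Cfsg.Agent.FormWreath
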