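/-
Operators of one symplectic factor (rank one and rank two), and the moves available inside an
invariant family of operators on a two-factor space.
-/
import Cfsg.Agent.Lib.FormWreath.Incidence
import Cfsg.Agent.Lib.UWreath.Compress
import Cfsg.Agent.Lib.TensorMax.SRoot

set_option autoImplicit false
set_option linter.unusedSectionVars false

namespace Cfsg.Agent.FormWreath.Grow

open scoped Matrix
open Matrix Cfsg.Agent.Transvec Cfsg.Agent.TensorMax Cfsg.Agent.WreathMax Cfsg.Agent.FormWreath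
open Cfsg.Agent.UWreath (top top_ten top_comp top_one top_add_left top_add_right top_smul_left top_smul_right)

variable {F : Type*} [Field F] {k : ℕ} {f : (Fin k → F) → (Fin k → F) → F}

/-- The isometries of a form. -/
abbrev Iso (f : (Fin k → F) → (Fin k → F) → F) : Subgroup (GL (Fin k) F) :=
  preserving (Units.coeHom (Matrix (Fin k) (Fin k) F)) f

theorem fdot (hf : Geo.IsSymplecticForm f) (c x : Fin k → F) : FormWreath.frow f c ⬝ᵥ x = f x c :=
  TensorMax.S.frow_dot hf c x

/-- The operator x ↦ f(x, q) p. -/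
def av (hf : Geo.IsSymplecticForm f) (p q : Fin k → F) : (Fin k → F) →ₗ[F] Fin k → F :=
  (formR hf q).smulRight p

/-- The operator x ↦ f(x, c) c. -/
def Nc (hf : Geo.IsSymplecticForm f) (c : Fin k → F) : (Fin k → F) →ₗ[F] Fin k → F := av hf c c

/-- The operator x ↦ f(x, d) c - f(x, c) d. -/
def Kp (hf : Geo.IsSymplecticForm f) (c d : Fin k → F) : (Fin k → F) →ₗ[F] Fin k → F :=
  av hf c d - av hf d c

variable (hf : Geo.IsSymplecticForm f)

@[simp] theorem av_apply (p q x : Fin k → F) : av hf p q x = f x q • p := rfl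

@[simp] theorem Nc_apply (c x : Fin k → F) : Nc hf c x = f x c • c := rfl

@[simp] theorem Kp_apply (c d x : Fin k → F) : Kp hf c d x = f x d • c - f x c • d := rfl

theorem av_conj {g : GL (Fin k) F} {μ : F} (hμ : μ ≠ 0) (hg : ∀ x y, f (mv g x) (mv g y) = μ * f x y)
    (p q : Fin k → F) : mvLin g ∘ₗ av hf p q ∘ₗ mvLin g⁻¹ = μ⁻¹ • av hf (mv g p) (mv g q) := by
  refine LinearMap.ext fun x => ?_
  rw [LinearMap.comp_apply, LinearMap.comp_apply, av_apply, map_smul, Matrix.toLin'_apply,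
    Matrix.toLin'_apply, LinearMap.smul_apply, av_apply, smul_smul]
  show f (mv g⁻¹ x) q • mv g p = (μ⁻¹ * f x (mv g q)) • mv g p
  have h := hg (mv g⁻¹ x) q
  rw [mv_mv_inv] at h
  rw [h, inv_mul_cancel_left₀ hμ]

theorem av_conj_iso {g : GL (Fin k) F} (hg : g ∈ Iso f) (p q : Fin k → F) :
    mvLin g ∘ₗ av hf p q ∘ₗ mvLin g⁻¹ = av hf (mv g p) (mv g q) := by
  rw [av_conj hf one_ne_zero (fun x y => (hg x y).trans (one_mul _).symm), inv_one, one_smul]

theorem Nc_conj_iso {g : GL (Fin k) F} (hg : g ∈ Iso f) (c : Fin k → F) :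
    mvLin g ∘ₗ Nc hf c ∘ₗ mvLin g⁻¹ = Nc hf (mv g c) := av_conj_iso hf hg c c

theorem Kp_conj {g : GL (Fin k) F} {μ : F} (hμ : μ ≠ 0) (hg : ∀ x y, f (mv g x) (mv g y) = μ * f x y)
    (c d : Fin k → F) : mvLin g ∘ₗ Kp hf c d ∘ₗ mvLin g⁻¹ = μ⁻¹ • Kp hf (mv g c) (mv g d) := by
  rw [Kp, Kp, LinearMap.sub_comp, LinearMap.comp_sub, av_conj hf hμ hg, av_conj hf hμ hg, smul_sub]

theorem Kp_conj_iso {g : GL (Fin k) F} (hg : g ∈ Iso f) (c d : Fin k → F) :
    mvLin g ∘ₗ Kp hf c d ∘ₗ mvLin g⁻¹ = Kp hf (mv g c) (mv g d) := by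
  rw [Kp_conj hf one_ne_zero (fun x y => (hg x y).trans (one_mul _).symm), inv_one, one_smul]

/-- A rank one or an isotropic rank two operator. -/
def Good (A : (Fin k → F) →ₗ[F] Fin k → F) : Prop :=
  (∃ c, c ≠ 0 ∧ A = Nc hf c) ∨
    ∃ c d, c ≠ 0 ∧ d ∉ Submodule.span F {c} ∧ f d c = 0 ∧ A = Kp hf c d

include hf

theorem Good.sq {A : (Fin k → F) →ₗ[F] Fin k → F} (h : Good hf A) : A ∘ₗ A = 0 := by
  rcases h with ⟨c, -, rfl⟩ | ⟨c, d, -, -, hdc, rfl⟩ <;> refine LinearMap.ext fun x => ?_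
  · simp [hf.bilinear.smul_left, hf.alternating]
  · simp [f_sub_left hf, hf.bilinear.smul_left, hf.alternating, hdc, (f_eq_zero_comm hf).1 hdc]

theorem exists_orth_partner {c d : Fin k → F} (hc : c ≠ 0) (hd : d ∉ Submodule.span F {c}) :
    ∃ e, f e c = 1 ∧ f e d = 0 := by
  have hcd : c ∉ Submodule.span F {d} := fun h => by
    obtain ⟨a, ha⟩ := Submodule.mem_span_singleton.1 h
    have ha0 : a ≠ 0 := fun h0 => hc (by rw [← ha, h0, zero_smul])
    exact hd (Submodule.mem_span_singleton.2 ⟨a⁻¹, by rw [← ha, smul_smul, inv_mul_cancel₀ ha0, one_smul]⟩)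
  obtain ⟨z, hz, hcz⟩ := TensorMax.S.exists_with hf hcd
  exact ⟨-z, by rw [f_neg_left hf, hf.skew z c, hcz, neg_neg],
    by rw [f_neg_left hf, (f_eq_zero_comm hf).1 (hz d (Submodule.mem_span_singleton_self d)), neg_zero]⟩

theorem Good.ne_zero {A : (Fin k → F) →ₗ[F] Fin k → F} (h : Good hf A) : A ≠ 0 := by
  intro h0
  rcases h with ⟨c, hc, rfl⟩ | ⟨c, d, hc, hd, -, rfl⟩
  · obtain ⟨e, he⟩ := TensorMax.S.exists_pair hf hc
    have := LinearMap.congr_fun h0 e
    rw [Nc_apply, he, one_smul, LinearMap.zero_apply] at this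
    exact hc this
  · obtain ⟨e, he, hed⟩ := exists_orth_partner hf hc hd
    have := LinearMap.congr_fun h0 e
    rw [Kp_apply, he, hed, one_smul, zero_smul, zero_sub, LinearMap.zero_apply, neg_eq_zero] at this
    exact hd (by rw [this]; exact zero_mem _)

theorem Good.not_scalar {A : (Fin k → F) →ₗ[F] Fin k → F} (h : Good hf A) (s : F) :
    A ≠ s • LinearMap.id := by
  intro hA
  by_cases hs : s = 0
  · exact h.ne_zero hf (by rw [hA, hs, zero_smul])
  · have h2 := h.sq hf
    rw [hA, LinearMap.smul_comp, LinearMap.id_comp, smul_smul] at h2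
    exact h.ne_zero hf (by
      rw [hA, ← one_mul s, show (1 : F) * s = s⁻¹ * (s * s) by field_simp, ← smul_smul, h2, smul_zero])

/-- The image of an operator under a similitude is a multiple of its image under an isometry. -/
theorem Good.sim {A : (Fin k → F) →ₗ[F] Fin k → F} (h : Good hf A) {g : GL (Fin k) F} {μ : F}
    (hμ : μ ≠ 0) (hg : ∀ x y, f (mv g x) (mv g y) = μ * f x y) :
    ∃ r : F, r ≠ 0 ∧ ∃ b ∈ Iso f, mvLin g ∘ₗ A ∘ₗ mvLin g⁻¹ = r • (mvLin b ∘ₗ A ∘ₗ mvLin b⁻¹) := by
  have hinj : ∀ {x : Fin k → F}, x ≠ 0 → mv g x ≠ 0 := fun hx h0 => hx (mv_inj g (h0.trans (mv_zero g).symm))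
  rcases h with ⟨c, hc, rfl⟩ | ⟨c, d, hc, hd, hdc, rfl⟩
  · obtain ⟨b, hb, hbc, -⟩ := exists_move_nondeg hf (K := Iso f) (nondeg_top hf)
      (fun z _ s => stv_mem hf z s) Submodule.mem_top Submodule.mem_top hc (hinj hc)
    refine ⟨μ⁻¹, inv_ne_zero hμ, b, hb, ?_⟩
    rw [show Nc hf c = av hf c c from rfl, av_conj hf hμ hg, av_conj_iso hf hb, hbc]
  · obtain ⟨b, hb, hbc, hbd⟩ := TensorMax.S.exists_move_orth hf hc hd hdc (hinj hc) (v' := mv g d)
      (fun hm => by
        obtain ⟨a, ha⟩ := Submodule.mem_span_singleton.1 hm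
        exact hd (Submodule.mem_span_singleton.2 ⟨a, mv_inj g (by rw [mv_smul, ha])⟩))
      (by rw [hg, hdc, mul_zero])
    refine ⟨μ⁻¹, inv_ne_zero hμ, b, hb, ?_⟩
    rw [Kp_conj hf hμ hg, Kp_conj_iso hf hb, hbc, hbd]

theorem Good.conj {A : (Fin k → F) →ₗ[F] Fin k → F} (h : Good hf A) {g : GL (Fin k) F} (hg : g ∈ Iso f) :
    Good hf (mvLin g ∘ₗ A ∘ₗ mvLin g⁻¹) := by
  rcases h with ⟨c, hc, rfl⟩ | ⟨c, d, hc, hd, hdc, rfl⟩
  · exact Or.inl ⟨_, fun h0 => hc (mv_inj g (h0.trans (mv_zero g).symm)), Nc_conj_iso hf hg c⟩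
  · refine Or.inr ⟨_, _, fun h0 => hc (mv_inj g (h0.trans (mv_zero g).symm)), fun hm => ?_, ?_,
      Kp_conj_iso hf hg c d⟩
    · obtain ⟨a, ha⟩ := Submodule.mem_span_singleton.1 hm
      exact hd (Submodule.mem_span_singleton.2 ⟨a, mv_inj g (by rw [mv_smul, ha])⟩)
    · exact (hg d c).trans hdc

/-- The pairing of a rank two operator with a conjugate is a rank one operator. -/
theorem Kp_pair {c d : Fin k → F} (hc : c ≠ 0) (hd : d ∉ Submodule.span F {c}) (hdc : f d c = 0) :
    ∃ b ∈ Iso f, ∃ A', A' = mvLin b ∘ₗ Kp hf c d ∘ₗ mvLin b⁻¹ ∧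
      Kp hf c d ∘ₗ A' = -Nc hf d ∧ A' ∘ₗ Kp hf c d = Nc hf d ∧
      Kp hf c d ∘ₗ A' ∘ₗ Kp hf c d = 0 ∧ A' ∘ₗ Kp hf c d ∘ₗ A' = 0 := by
  obtain ⟨e, hec, hed⟩ := exists_orth_partner hf hc hd
  have he : e ≠ 0 := fun h => by rw [h, f_zero_left hf] at hec; exact zero_ne_one hec
  have hde : f d e = 0 := (f_eq_zero_comm hf).1 hed
  have hce : f c e = -1 := by rw [hf.skew c e, hec]
  have hcd : f c d = 0 := (f_eq_zero_comm hf).1 hdc
  have hd' : d ∉ Submodule.span F {e} := fun hm => by
    obtain ⟨a, rfl⟩ := Submodule.mem_span_singleton.1 hm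
    rw [hf.bilinear.smul_left, hec, mul_one] at hdc
    rw [hdc, zero_smul] at hd
    exact hd (zero_mem _)
  obtain ⟨b, hb, hbc, hbd⟩ := TensorMax.S.exists_move_orth hf hc hd hdc he hd' hde
  have e1 : Kp hf c d ∘ₗ Kp hf e d = -Nc hf d := LinearMap.ext fun x => by
    simp [f_sub_left hf, hf.bilinear.smul_left, hec, hed, hde, hdc, hf.alternating]
  have e2 : Kp hf e d ∘ₗ Kp hf c d = Nc hf d := LinearMap.ext fun x => by
    simp [f_sub_left hf, hf.bilinear.smul_left, hce, hcd, hde, hdc, hf.alternating]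
  refine ⟨b, hb, Kp hf e d, by rw [Kp_conj_iso hf hb, hbc, hbd], e1, e2, ?_, ?_⟩
  · rw [e2]; exact LinearMap.ext fun x => by simp [hdc, hf.alternating]
  · rw [e1]; exact LinearMap.ext fun x => by simp [hde, hf.alternating]

/-- An operator and a conjugate whose symmetrised product is not zero, and not scalar in large dimension. -/
theorem exists_sym {A : (Fin k → F) →ₗ[F] Fin k → F} (hA : Good hf A) (hk : 4 ≤ k) :
    ∃ b ∈ Iso f, ∃ A', A' = mvLin b ∘ₗ A ∘ₗ mvLin b⁻¹ ∧ A ∘ₗ A' + A' ∘ₗ A ≠ 0 ∧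
      ((6 ≤ k ∨ ∃ c, c ≠ 0 ∧ A = Nc hf c) → ∀ s : F, A ∘ₗ A' + A' ∘ₗ A ≠ s • LinearMap.id) := by
  have key : ∀ {Y : (Fin k → F) →ₗ[F] Fin k → F} {v : Fin k → F}, v ≠ 0 → Y v ∈ ({v, -v} : Set _) →
      Y ≠ 0 ∧ ∀ {P : Submodule F (Fin k → F)}, Module.finrank F P < k →
        (∀ z, (∀ x ∈ P, f x z = 0) → Y z = 0) → ∀ s : F, Y ≠ s • LinearMap.id := by
    intro Y v hv hY
    have hY0 : Y v ≠ 0 := by
      rcases hY with h | h <;> rw [h]
      · exact hv
      · exact neg_ne_zero.2 hv
    refine ⟨fun h => hY0 (by rw [h]; rfl), fun {P} hP hker s hs => ?_⟩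
    obtain ⟨z, hz0, hz⟩ := TensorMax.S.exists_perp_ne_zero hf (P := P) (by rwa [Fintype.card_fin])
    have e := hker z hz
    rw [hs, LinearMap.smul_apply, LinearMap.id_apply, smul_eq_zero] at e
    exact hY0 (by rw [hs, e.resolve_right hz0]; simp)
  rcases hA with ⟨c, hc, rfl⟩ | ⟨c, d, hc, hd, hdc, rfl⟩
  · obtain ⟨e, hec⟩ := TensorMax.S.exists_pair hf hc
    have he : e ≠ 0 := fun h => by rw [h, f_zero_left hf] at hec; exact zero_ne_one hec
    have hce : f c e = -1 := by rw [hf.skew c e, hec]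
    obtain ⟨b, hb, hbc, -⟩ := exists_move_nondeg hf (K := Iso f) (nondeg_top hf)
      (fun z _ s => stv_mem hf z s) Submodule.mem_top Submodule.mem_top hc he
    refine ⟨b, hb, Nc hf e, by rw [Nc_conj_iso hf hb, hbc], ?_⟩
    have hv : (Nc hf c ∘ₗ Nc hf e + Nc hf e ∘ₗ Nc hf c) c ∈ ({c, -c} : Set _) := Or.inr (by
      simp [hf.bilinear.smul_left, hec, hce, hf.alternating, f_neg_left hf, f_zero_left hf])
    obtain ⟨h1, h2⟩ := key hc hv
    refine ⟨h1, fun _ => h2 (P := Submodule.span F {c, e})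
      (lt_of_le_of_lt (TensorMax.S.finrank_span_le_two c e) (by omega)) fun z hz => ?_⟩
    simp [(f_eq_zero_comm hf).1 (hz c (Submodule.subset_span (Set.mem_insert _ _))),
      (f_eq_zero_comm hf).1 (hz e (Submodule.subset_span (Set.mem_insert_of_mem _ rfl))),
      f_zero_left hf]
  · obtain ⟨e, hec, hed⟩ := exists_orth_partner hf hc hd
    have he : e ≠ 0 := fun h => by rw [h, f_zero_left hf] at hec; exact zero_ne_one hec
    have hce : f c e = -1 := by rw [hf.skew c e, hec]
    have hdP : d ∉ Submodule.span F ({c, e} : Set (Fin k → F)) := fun hm => by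
      obtain ⟨a, a', rfl⟩ := Submodule.mem_span_pair.1 hm
      simp only [hf.bilinear.add_left, hf.bilinear.add_right, hf.bilinear.smul_left, hf.bilinear.smul_right,
        hf.alternating, hec, hce, mul_zero, mul_one, zero_add] at hdc hed
      exact hd (by rw [hdc, zero_smul, add_zero]; exact Submodule.smul_mem _ _ (Submodule.mem_span_singleton_self c))
    obtain ⟨z, hz, hdz⟩ := TensorMax.S.exists_with hf hdP
    obtain ⟨g, rfl⟩ : ∃ g, z = -g := ⟨-z, (neg_neg z).symm⟩
    have hcg : f c g = 0 := by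
      have := hz c (Submodule.subset_span (Set.mem_insert _ _))
      rwa [f_neg_right hf, neg_eq_zero] at this
    have heg : f e g = 0 := by
      have := hz e (Submodule.subset_span (Set.mem_insert_of_mem _ rfl))
      rwa [f_neg_right hf, neg_eq_zero] at this
    have hgd : f g d = 1 := by rwa [f_neg_right hf, ← hf.skew g d] at hdz
    have hge : f g e = 0 := (f_eq_zero_comm hf).1 heg
    have hg' : g ∉ Submodule.span F {e} := fun hm => by
      obtain ⟨a, rfl⟩ := Submodule.mem_span_singleton.1 hm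
      rw [hf.bilinear.smul_left, hed, mul_zero] at hgd
      exact zero_ne_one hgd
    obtain ⟨b, hb, hbc, hbd⟩ := TensorMax.S.exists_move_orth hf hc hd hdc he hg' hge
    refine ⟨b, hb, Kp hf e g, by rw [Kp_conj_iso hf hb, hbc, hbd], ?_⟩
    have hv : (Kp hf c d ∘ₗ Kp hf e g + Kp hf e g ∘ₗ Kp hf c d) c ∈ ({c, -c} : Set _) := Or.inl (by
      simp [f_sub_left hf, hf.bilinear.smul_left, f_zero_left hf, hec, hce, hcg, hgd, hdc,
        (f_eq_zero_comm hf).1 hdc, (f_eq_zero_comm hf).1 hcg, hf.alternating, f_neg_left hf])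
    obtain ⟨h1, h2⟩ := key hc hv
    refine ⟨h1, fun h6 => ?_⟩
    rcases h6 with h6 | ⟨c', hc', hN⟩
    · refine h2 (P := Submodule.span F (Set.range ![c, d, e, g]))
        (lt_of_le_of_lt ((finrank_range_le_card (R := F) ![c, d, e, g]).trans_eq (Fintype.card_fin 4)) (by omega))
        fun z hz => ?_
      have hz' : ∀ i, f (![c, d, e, g] i) z = 0 := fun i => hz _ (Submodule.subset_span ⟨i, rfl⟩)
      have h0 : f z c = 0 := (f_eq_zero_comm hf).1 (hz' 0)
      have h1 : f z d = 0 := (f_eq_zero_comm hf).1 (hz' 1)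
      have h2 : f z e = 0 := (f_eq_zero_comm hf).1 (hz' 2)
      have h3 : f z g = 0 := (f_eq_zero_comm hf).1 (hz' 3)
      simp [h0, h1, h2, h3, f_zero_left hf]
    · exfalso
      have h1 := LinearMap.congr_fun hN e
      have h2 := LinearMap.congr_fun hN g
      simp only [Kp_apply, Nc_apply, hec, hed, hgd, (f_eq_zero_comm hf).1 hcg, one_smul, zero_smul, zero_sub,
        sub_zero] at h1 h2
      have hg0 : f g c' ≠ 0 := fun h => hc (by rw [h2, h, zero_smul])
      refine hd (Submodule.mem_span_singleton.2 ⟨-(f e c') / f g c', ?_⟩)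
      rw [h2, smul_smul, div_mul_cancel₀ _ hg0, neg_smul, ← h1, neg_neg]

/-! ### Families of operators on two factors -/

section Fam2

variable {α : Type} [Fintype α] [DecidableEq α]

/-- A family closed under sums, multiples, and the isometries of the second factor. -/
structure Fam2 (f : (Fin k → F) → (Fin k → F) → F)
    (S : ((α × Fin k → F) →ₗ[F] α × Fin k → F) → Prop) : Prop where
  add : ∀ {X Y}, S X → S Y → S (X + Y)
  sm : ∀ (r : F) {X}, S X → S (r • X)
  inv : ∀ {b}, b ∈ Iso f → ∀ {X}, S X →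
    S (top LinearMap.id (mvLin b) ∘ₗ X ∘ₗ top LinearMap.id (mvLin b⁻¹))

omit hf in
theorem Fam2.sub {S : ((α × Fin k → F) →ₗ[F] α × Fin k → F) → Prop} (h : Fam2 f S) {X Y}
    (hX : S X) (hY : S Y) : S (X - Y) := by
  rw [sub_eq_add_neg, ← neg_one_smul F Y]; exact h.add hX (h.sm _ hY)

/-- The contraction u ↦ ctr_q Z(u ⊗ p). -/
def bb (f : (Fin k → F) → (Fin k → F) → F) (Z : (α × Fin k → F) →ₗ[F] α × Fin k → F) (p q : Fin k → F) :
    (α → F) →ₗ[F] α → F :=
  ctr (FormWreath.frow f q) ∘ₗ Z ∘ₗ rho p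

theorem top_id_av (p q : Fin k → F) (W : α × Fin k → F) :
    top LinearMap.id (av hf p q) W = ten (ctr (FormWreath.frow f q) W) p := by
  have e : top LinearMap.id (av hf p q) = (rho p).comp (ctr (FormWreath.frow f q) : (α × Fin k → F) →ₗ[F] α → F) :=
    ext_ten fun u x => by simp [ctr_ten, fdot hf, ten_smul_left, ten_smul_right]
  exact LinearMap.congr_fun e W

theorem sandwich (Z : (α × Fin k → F) →ₗ[F] α × Fin k → F) (p q r s : Fin k → F) :
    top LinearMap.id (av hf p q) ∘ₗ Z ∘ₗ top LinearMap.id (av hf r s) = top (bb f Z r q) (av hf p s) :=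
  ext_ten fun u x => by
    simp [top_id_av hf p q, bb, ten_smul_right, ten_smul_left, map_smul]

theorem bb_add_right (Z : (α × Fin k → F) →ₗ[F] α × Fin k → F) (p q q' : Fin k → F) :
    bb f Z p (q + q') = bb f Z p q + bb f Z p q' := by
  rw [bb, bb, bb, show FormWreath.frow f (q + q') = FormWreath.frow f q + FormWreath.frow f q' from
    TensorMax.S.frow_add hf q q', ctr_add_vec, LinearMap.add_comp]

theorem bb_smul_right (Z : (α × Fin k → F) →ₗ[F] α × Fin k → F) (p q : Fin k → F) (a : F) :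
    bb f Z p (a • q) = a • bb f Z p q := by
  rw [bb, bb, show FormWreath.frow f (a • q) = a • FormWreath.frow f q from TensorMax.S.frow_smul hf a q,
    ctr_smul_vec, LinearMap.smul_comp]

omit hf in
theorem bb_add_left (Z : (α × Fin k → F) →ₗ[F] α × Fin k → F) (p p' q : Fin k → F) :
    bb f Z (p + p') q = bb f Z p q + bb f Z p' q :=
  LinearMap.ext fun u => by simp [bb, ten_add_right]

omit hf in
theorem bb_smul_left (Z : (α × Fin k → F) →ₗ[F] α × Fin k → F) (p q : Fin k → F) (a : F) :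
    bb f Z (a • p) q = a • bb f Z p q :=
  LinearMap.ext fun u => by simp [bb, ten_smul_right]

variable {S : ((α × Fin k → F) →ₗ[F] α × Fin k → F) → Prop}

theorem mvLin_stv (c : Fin k → F) (a : F) : mvLin (stv hf c a) = LinearMap.id + a • Nc hf c :=
  LinearMap.ext fun x => by
    rw [Matrix.toLin'_apply]
    show mv (stv hf c a) x = _
    simp [mv_stv, smul_smul]

theorem mvLin_stv_inv (c : Fin k → F) (a : F) : mvLin (stv hf c a)⁻¹ = LinearMap.id + (-a) • Nc hf c := by
  rw [← mvLin_stv, inv_eq_of_mul_eq_one_right (b := stv hf c (-a)) (by rw [stv_add, add_neg_cancel, stv_zero])]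

/-- The first difference under a transvection. -/
theorem mem_D (hS : Fam2 f S) {Z} (hZ : S Z) (c : Fin k → F) (a : F) :
    S (a • (top LinearMap.id (Nc hf c) ∘ₗ Z) - a • (Z ∘ₗ top LinearMap.id (Nc hf c)) -
      (a * a) • (top LinearMap.id (Nc hf c) ∘ₗ Z ∘ₗ top LinearMap.id (Nc hf c))) := by
  have h := hS.sub (hS.inv (stv_mem hf c a) hZ) hZ
  convert h using 1
  rw [mvLin_stv, mvLin_stv_inv, top_add_right, top_add_right, top_one, top_smul_right, top_smul_right]
  refine LinearMap.ext fun y => ?_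
  simp only [LinearMap.comp_apply, LinearMap.add_apply, LinearMap.sub_apply, LinearMap.smul_apply,
    LinearMap.id_apply, map_add, map_smul]
  module

/-- The second difference under two orthogonal transvections. -/
theorem mem_T (hS : Fam2 f S) {Z} (hZ : S Z) {c d : Fin k → F} (hdc : f d c = 0) :
    S (top (bb f Z d c) (av hf c d) + top (bb f Z c d) (av hf d c)) := by
  have hcd : f c d = 0 := (f_eq_zero_comm hf).1 hdc
  set P := top (LinearMap.id : (α → F) →ₗ[F] α → F) (Nc hf c) with hP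
  set P' := top (LinearMap.id : (α → F) →ₗ[F] α → F) (Nc hf d) with hP'
  have h1 := mem_D hf hS hZ c 1
  simp only [one_smul, one_mul] at h1
  have h2 := mem_D hf hS h1 d 1
  simp only [one_smul, one_mul] at h2
  have z1 : ∀ y, P' (P y) = 0 := fun y => LinearMap.congr_fun (show P' ∘ₗ P = 0 from
    ext_ten fun u x => by simp [hP, hP', hf.bilinear.smul_left, hcd, ten_zero_right]) y
  have z2 : ∀ y, P (P' y) = 0 := fun y => LinearMap.congr_fun (show P ∘ₗ P' = 0 from
    ext_ten fun u x => by simp [hP, hP', hf.bilinear.smul_left, hdc, ten_zero_right]) y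
  have h3 := hS.sm (-1) h2
  convert h3 using 1
  rw [← sandwich hf, ← sandwich hf]
  refine LinearMap.ext fun y => ?_
  show P (Z (P' y)) + P' (Z (P y)) = _
  simp only [← hP, ← hP', LinearMap.comp_apply, LinearMap.sub_apply, LinearMap.smul_apply, map_sub,
    z1, z2, map_zero]
  module

/-- The symmetrised contraction at an orthogonal pair. -/
theorem mem_polar (hS : Fam2 f S) {Z} (hZ : S Z) {c d : Fin k → F} (hc : c ≠ 0)
    (hd : d ∉ Submodule.span F {c}) (hdc : f d c = 0) :
    S (top (bb f Z d c + bb f Z c d) (Nc hf c)) := by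
  have hT := mem_T hf hS hZ hdc
  have hd' : d + c ∉ Submodule.span F {c} := fun hm => hd (by
    simpa using Submodule.sub_mem _ hm (Submodule.mem_span_singleton_self c))
  obtain ⟨b, hb, hbc, hbd⟩ := TensorMax.S.exists_move_orth hf hc hd hdc hc hd'
    (by rw [hf.bilinear.add_left, hdc, hf.alternating, add_zero])
  have h2 := hS.sub (hS.inv hb hT) hT
  convert h2 using 1
  simp only [LinearMap.add_comp, LinearMap.comp_add, top_comp, LinearMap.comp_id, LinearMap.id_comp,
    av_conj_iso hf hb, hbc, hbd]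
  refine ext_ten fun u x => ?_
  simp only [LinearMap.add_apply, LinearMap.sub_apply, top_ten, av_apply, Nc_apply, hf.bilinear.add_right,
    ten_add_left, ten_add_right, ten_smul_right, smul_add, add_smul]
  module

/-- The contraction at one vector. -/
theorem mem_diag (h2 : (2 : F) ≠ 0) (hS : Fam2 f S) {Z} (hZ : S Z) (c : Fin k → F) :
    S (top (bb f Z c c) (Nc hf c)) := by
  have h := hS.sm (-2 : F)⁻¹ (hS.add (mem_D hf hS hZ c 1) (mem_D hf hS hZ c (-1)))
  convert h using 1
  rw [show (top (bb f Z c c) (Nc hf c) : (α × Fin k → F) →ₗ[F] _) =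
    top LinearMap.id (Nc hf c) ∘ₗ Z ∘ₗ top LinearMap.id (Nc hf c) from (sandwich hf Z c c c c).symm]
  refine LinearMap.ext fun y => ?_
  simp only [LinearMap.comp_apply, LinearMap.add_apply, LinearMap.sub_apply, LinearMap.smul_apply]
  match_scalars <;> field_simp <;> ring

/-- An operator with contractions vanishing at all orthogonal pairs has scalar second part. -/
theorem eq_top_id {Z : (α × Fin k → F) →ₗ[F] α × Fin k → F} (hk : 0 < k)
    (h : ∀ x y, f x y = 0 → bb f Z x y = 0) : ∃ L, Z = top L LinearMap.id := by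
  haveI : NeZero k := ⟨by omega⟩
  set e : Fin k → F := Pi.single 0 1
  have he : e ≠ 0 := by simp [e]
  obtain ⟨d, -, hed⟩ := Transvec.exists_partner hf (nondeg_top hf) Submodule.mem_top he
  refine ⟨bb f Z e d, ext_ten fun u x => ?_⟩
  rw [top_ten, LinearMap.id_apply, ← sub_eq_zero]
  refine eq_zero_of_ctr fun φ => ?_
  obtain ⟨y, rfl⟩ := TensorMax.S.frow_surj hf φ
  show ctr (FormWreath.frow f y) _ = 0
  rw [map_sub, ctr_ten, fdot hf, sub_eq_zero]
  show bb f Z x y u = f x y • bb f Z e d u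
  by_cases hx : x = 0
  · rw [hx, f_zero_left hf, zero_smul, bb, LinearMap.comp_apply, LinearMap.comp_apply, rho_apply,
      ten_zero_right, map_zero, map_zero]
  obtain ⟨z, -, hxz, hez⟩ := exists_two hf (nondeg_top hf) Submodule.mem_top Submodule.mem_top hx he
  have e1 : f x z • bb f Z x y = f x y • bb f Z x z := by
    have := h x (f x z • y - f x y • z) (by
      rw [f_sub_right hf, hf.bilinear.smul_right, hf.bilinear.smul_right]; ring)
    rw [sub_eq_add_neg, ← neg_smul, bb_add_right hf, bb_smul_right hf, bb_smul_right hf] at this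
    linear_combination (norm := module) this
  have e2 : f e z • bb f Z x z = f x z • bb f Z e z := by
    have := h (f e z • x - f x z • e) z (by
      rw [f_sub_left hf, hf.bilinear.smul_left, hf.bilinear.smul_left]; ring)
    rw [sub_eq_add_neg, ← neg_smul, bb_add_left, bb_smul_left, bb_smul_left] at this
    linear_combination (norm := module) this
  have e3 : bb f Z e z = f e z • bb f Z e d := by
    have := h e (z - f e z • d) (by rw [f_sub_right hf, hf.bilinear.smul_right, hed, mul_one, sub_self])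
    rw [sub_eq_add_neg, ← neg_smul, bb_add_right hf, bb_smul_right hf] at this
    linear_combination (norm := module) this
  have e4 : (f e z * f x z) • bb f Z x y = (f e z * f x z) • (f x y • bb f Z e d) := by
    rw [mul_smul, e1, smul_comm, e2, e3]
    module
  rw [← LinearMap.smul_apply]
  exact LinearMap.congr_fun (smul_right_injective _ (mul_ne_zero hez hxz) e4) u

/-- A member that is not scalar on the second factor gives a member with a rank one or two second part. -/
theorem reduce2 (hk0 : 0 < k) (hk : 4 ≤ k ∨ (2 : F) ≠ 0) (hS : Fam2 f S) {Z} (hZ : S Z)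
    (hns : ¬ ∃ L, Z = top L LinearMap.id) :
    ∃ L C, L ≠ 0 ∧ Good hf C ∧ S (top L C) ∧
      ∀ W : Submodule F ((α → F) →ₗ[F] α → F), (∀ p q, bb f Z p q ∈ W) → L ∈ W := by
  obtain ⟨x, y, hxy, hb⟩ : ∃ x y, f x y = 0 ∧ bb f Z x y ≠ 0 := by
    by_contra hcon
    push Not at hcon
    exact hns (eq_top_id hf hk0 hcon)
  by_cases hdiag : (2 : F) ≠ 0 ∧ ∃ c, bb f Z c c ≠ 0
  · obtain ⟨h2, c, hc⟩ := hdiag
    have hc0 : c ≠ 0 := fun h => hc (by rw [h, ← zero_smul F (0 : Fin k → F), bb_smul_left, zero_smul])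
    exact ⟨_, _, hc, Or.inl ⟨c, hc0, rfl⟩, mem_diag hf h2 hS hZ c, fun W hW => hW c c⟩
  by_cases hpol : ∃ c d, c ≠ 0 ∧ d ∉ Submodule.span F {c} ∧ f d c = 0 ∧ bb f Z d c + bb f Z c d ≠ 0
  · obtain ⟨c, d, hc, hd, hdc, hne⟩ := hpol
    exact ⟨_, _, hne, Or.inl ⟨c, hc, rfl⟩, mem_polar hf hS hZ hc hd hdc, fun W hW => W.add_mem (hW d c) (hW c d)⟩
  push Not at hpol hdiag
  by_cases hK : ∃ c d, c ≠ 0 ∧ d ∉ Submodule.span F {c} ∧ f d c = 0 ∧ bb f Z d c ≠ 0
  · obtain ⟨c, d, hc, hd, hdc, hne⟩ := hK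
    refine ⟨_, Kp hf c d, hne, Or.inr ⟨c, d, hc, hd, hdc, rfl⟩, ?_, fun W hW => hW d c⟩
    have := mem_T hf hS hZ hdc
    rw [eq_neg_of_add_eq_zero_right (hpol c d hc hd hdc)] at this
    convert this using 1
    rw [Kp]
    exact ext_ten fun u w => by
      simp only [sub_eq_add_neg, top_ten, LinearMap.add_apply, LinearMap.neg_apply, av_apply, ten_add_right,
        ten_neg_left]
      rw [show ∀ (u : α → F) (v : Fin k → F), ten u (-v) = -ten u v from fun u v => map_neg (lam u) v]
  push Not at hK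
  exfalso
  have hself : ∀ c, bb f Z c c = 0 := fun c => by
    by_cases hc : c = 0
    · rw [hc, ← zero_smul F (0 : Fin k → F), bb_smul_left, zero_smul]
    rcases hk with hk | h2
    · obtain ⟨z, hz, hzc⟩ := TensorMax.S.exists_perp_out hf (P := Submodule.span F {c}) (by
        rw [finrank_span_singleton hc, Fintype.card_fin]; omega)
      have hzc' : f z c = 0 := (f_eq_zero_comm hf).1 (hzc c (Submodule.mem_span_singleton_self c))
      have a1 := hK c z hc hz hzc'
      have a2 := hK c (z + c) hc (fun hm => hz (by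
        simpa using Submodule.sub_mem _ hm (Submodule.mem_span_singleton_self c)))
        (by rw [hf.bilinear.add_left, hzc', hf.alternating, add_zero])
      rwa [bb_add_left, a1, zero_add] at a2
    · exact hdiag h2 c
  by_cases hy : y = 0
  · exact hb (by rw [hy, ← zero_smul F (0 : Fin k → F), bb_smul_right hf, zero_smul])
  by_cases hxm : x ∈ Submodule.span F {y}
  · obtain ⟨a, rfl⟩ := Submodule.mem_span_singleton.1 hxm
    exact hb (by rw [bb_smul_left, hself, smul_zero])
  · exact hb (hK y x hy hxm hxy)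

end Fam2

/-- The product of an operator with its partner in both orders is compressed to a rank one operator. -/
def Sq (A A' : (Fin k → F) →ₗ[F] Fin k → F) : Prop :=
  ∃ y, y ≠ 0 ∧ ∀ (α : Type) [Fintype α] [DecidableEq α] (S : ((α × Fin k → F) →ₗ[F] α × Fin k → F) → Prop),
    Fam2 f S → ∀ P P', S (top P (A ∘ₗ A') + top P' (A' ∘ₗ A)) → S (top (P - P') (Nc hf y))

theorem exists_sq (hk : 4 ≤ k ∨ (2 : F) ≠ 0) {A : (Fin k → F) →ₗ[F] Fin k → F} (hA : Good hf A) :
    ∃ b ∈ Iso f, Sq hf A (mvLin b ∘ₗ A ∘ₗ mvLin b⁻¹) := by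
  rcases hA with ⟨c, hc, rfl⟩ | ⟨c, d, hc, hd, hdc, rfl⟩
  · obtain ⟨e, hec⟩ := TensorMax.S.exists_pair hf hc
    have he : e ≠ 0 := fun h => by rw [h, f_zero_left hf] at hec; exact zero_ne_one hec
    have hce : f c e = -1 := by rw [hf.skew c e, hec]
    obtain ⟨b, hb, hbc, -⟩ := exists_move_nondeg hf (K := Iso f) (nondeg_top hf)
      (fun z _ s => stv_mem hf z s) Submodule.mem_top Submodule.mem_top hc he
    refine ⟨b, hb, ?_⟩
    rw [Nc_conj_iso hf hb, hbc]
    rcases hk with hk | h2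
    · obtain ⟨g, hg0, hg⟩ := TensorMax.S.exists_perp_ne_zero hf (P := Submodule.span F {c, e}) (by
        rw [Fintype.card_fin]; exact lt_of_le_of_lt (TensorMax.S.finrank_span_le_two c e) (by omega))
      have hcg : f c g = 0 := hg c (Submodule.subset_span (Set.mem_insert _ _))
      have heg : f e g = 0 := hg e (Submodule.subset_span (Set.mem_insert_of_mem _ rfl))
      obtain ⟨h, hh, hgh⟩ := TensorMax.S.exists_with hf (P := Submodule.span F {c, e}) (u := g) fun hm => hg0 (by
        obtain ⟨a, a', rfl⟩ := Submodule.mem_span_pair.1 hm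
        simp only [hf.bilinear.add_right, hf.bilinear.smul_right, hf.alternating, hec, hce, mul_zero, mul_one,
          zero_add, add_zero, mul_neg, neg_eq_zero] at hcg heg
        rw [hcg, heg]; simp)
      have hch : f c h = 0 := hh c (Submodule.subset_span (Set.mem_insert _ _))
      have heh : f e h = 0 := hh e (Submodule.subset_span (Set.mem_insert_of_mem _ rfl))
      have hgc : f g c = 0 := (f_eq_zero_comm hf).1 hcg
      have hge : f g e = 0 := (f_eq_zero_comm hf).1 heg
      have hhc : f h c = 0 := (f_eq_zero_comm hf).1 hch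
      have hhe : f h e = 0 := (f_eq_zero_comm hf).1 heh
      have hhg : f h g = -1 := by rw [hf.skew h g, hgh]
      have hx : c + g ≠ 0 := fun h0 => by
        have := congrArg (fun v => f e v) h0
        simp [hf.bilinear.add_right, hec, heg, f_zero_right hf] at this
      refine ⟨c + g, hx, fun α _ _ S hS P P' hSP => ?_⟩
      have hy : e + h ∉ Submodule.span F {c + g} := fun hm => by
        obtain ⟨a, ha⟩ := Submodule.mem_span_singleton.1 hm
        have := congrArg (fun v => f v c) ha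
        simp [hf.bilinear.add_left, hf.bilinear.smul_left, hec, hhc, hgc, hf.alternating] at this
      have h1 := mem_polar hf hS hSP hx hy (by
        simp [hf.bilinear.add_left, hf.bilinear.add_right, hec, heg, hhc, hhg])
      convert h1 using 2
      refine LinearMap.ext fun u => ?_
      simp [bb, ctr_ten, fdot hf, hf.bilinear.smul_left, hf.bilinear.add_left, hf.bilinear.add_right, hec, hce,
        hhc, hhe, hgc, hge, hcg, heg, hch, heh, hf.alternating, f_zero_left hf, f_neg_left hf, sub_eq_add_neg]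
      abel
    · have hy : c + e ≠ 0 := fun h0 => by
        have := congrArg (fun v => f v c) h0
        simp [hf.bilinear.add_left, hec, hf.alternating, f_zero_left hf] at this
      refine ⟨c + e, hy, fun α _ _ S hS P P' hSP => ?_⟩
      have h1 := mem_diag hf h2 hS hSP (c + e)
      convert h1 using 2
      refine LinearMap.ext fun u => ?_
      simp [bb, ctr_ten, fdot hf, hf.bilinear.smul_left, hf.bilinear.add_left, hf.bilinear.add_right, hec, hce,
        hf.alternating, f_neg_left hf, f_zero_left hf, sub_eq_add_neg]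
  · obtain ⟨b, hb, A', hA', e1, e2, -, -⟩ := Kp_pair hf hc hd hdc
    refine ⟨b, hb, d, fun h => hd (by rw [h]; exact zero_mem _), fun α _ _ S hS P P' hSP => ?_⟩
    rw [← hA', e1, e2] at hSP
    convert hS.sm (-1) hSP using 1
    exact ext_ten fun u w => by
      have hn : ∀ (u : α → F) (v : Fin k → F), ten u (-v) = -ten u v := fun u v => map_neg (lam u) v
      simp [ten_sub_left, ten_add_left, ten_neg_left, hn, sub_eq_add_neg]

end Cfsg.Agent.FormWreath.Grow
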