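/-
Invariant families on a tensor power, the family of centres of one factor, and commutators of pure
displacements.
-/
import Cfsg.Agent.Lib.FormWreath.GrowOp
import Cfsg.Agent.Lib.WreathMax.Main

set_option autoImplicit false
set_option linter.unusedSectionVars false

namespace Cfsg.Agent.FormWreath.Grow

open scoped Matrix
open Matrix Cfsg.Agent.Transvec Cfsg.Agent.TensorMax Cfsg.Agent.WreathMax Cfsg.Agent.FormWreath
open Cfsg.Agent.UWreath (top top_ten top_comp top_one top_add_left top_add_right top_smul_left top_smul_right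
  Has Loc loc_pten loc_comp loc_id loc_eq_zero loc_update_smul push_loc loc_eq_conj pull pull_conj has_tg
  conj_top mvLin_kronGL mvLin_fac)

variable {F : Type*} [Field F] {k : ℕ} {f : (Fin k → F) → (Fin k → F) → F}
variable {J : Type} [Fintype J] [DecidableEq J]

theorem pull_add (i : J) (X Y : (Rest i k × Fin k → F) →ₗ[F] Rest i k × Fin k → F) :
    pull i (X + Y) = pull i X + pull i Y :=
  LinearMap.ext fun v => by simp [pull]

theorem pull_smul (i : J) (a : F) (X : (Rest i k × Fin k → F) →ₗ[F] Rest i k × Fin k → F) :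
    pull i (a • X) = a • pull i X :=
  LinearMap.ext fun v => by simp [pull]

theorem pull_comp (i : J) (X Y : (Rest i k × Fin k → F) →ₗ[F] Rest i k × Fin k → F) :
    pull i X ∘ₗ pull i Y = pull i (X ∘ₗ Y) :=
  LinearMap.ext fun v => by simp [pull]

theorem pull_zero (i : J) : pull i (0 : (Rest i k × Fin k → F) →ₗ[F] Rest i k × Fin k → F) = 0 :=
  LinearMap.ext fun v => by simp [pull]

theorem mvLin_one' {ι : Type} [Fintype ι] [DecidableEq ι] : mvLin (1 : GL ι F) = LinearMap.id :=
  LinearMap.ext fun y => by simp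

theorem loc_update_add (T : J → ((Fin k → F) →ₗ[F] Fin k → F)) (j : J)
    (A A' : (Fin k → F) →ₗ[F] Fin k → F) :
    Loc (Function.update T j (A + A')) = Loc (Function.update T j A) + Loc (Function.update T j A') := by
  rw [loc_eq_conj j, loc_eq_conj j (Function.update T j A), loc_eq_conj j (Function.update T j A')]
  simp only [Function.update_self]
  rw [show (fun l : {l // l ≠ j} => Function.update T j (A + A') l) = fun l : {l // l ≠ j} => T l from
      funext fun l => Function.update_of_ne l.2 _ _,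
    show (fun l : {l // l ≠ j} => Function.update T j A l) = fun l : {l // l ≠ j} => T l from
      funext fun l => Function.update_of_ne l.2 _ _,
    show (fun l : {l // l ≠ j} => Function.update T j A' l) = fun l : {l // l ≠ j} => T l from
      funext fun l => Function.update_of_ne l.2 _ _,
    top_add_right, LinearMap.add_comp, LinearMap.comp_add]

theorem loc_smul_all (r : J → F) (T : J → ((Fin k → F) →ₗ[F] Fin k → F)) :
    Loc (fun j => r j • T j) = (∏ j, r j) • Loc T :=
  eq_of_pten fun y => by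
    funext a
    simp [pten, Finset.prod_mul_distrib]

theorem loc_ne_zero {T : J → ((Fin k → F) →ₗ[F] Fin k → F)} (h : ∀ j, T j ≠ 0) : Loc T ≠ 0 := by
  have h' : ∀ j, ∃ y, T j y ≠ 0 := fun j => by
    by_contra hcon
    push Not at hcon
    exact h j (LinearMap.ext hcon)
  choose y hy using h'
  intro h0
  have := LinearMap.congr_fun h0 (pten y)
  rw [loc_pten, LinearMap.zero_apply] at this
  exact pten_ne_zero hy this

theorem top_ne_id {α : Type} [Fintype α] [DecidableEq α] {L₀ : (α → F) →ₗ[F] α → F}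
    {Y : (Fin k → F) →ₗ[F] Fin k → F} (hL : L₀ ≠ 0) (hY : ∀ s : F, Y ≠ s • LinearMap.id) :
    ¬ ∃ L, top L₀ Y = top L LinearMap.id := by
  rintro ⟨L, hL'⟩
  obtain ⟨u, hu⟩ : ∃ u, L₀ u ≠ 0 := by
    by_contra hcon
    push Not at hcon
    exact hL (LinearMap.ext hcon)
  obtain ⟨a, ha⟩ := Function.ne_iff.1 hu
  refine hY (L u a / L₀ u a) (LinearMap.ext fun x => funext fun p => ?_)
  have e := congrFun (LinearMap.congr_fun hL' (ten u x)) (a, p)
  rw [top_ten, top_ten, ten_apply, ten_apply, LinearMap.id_apply] at e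
  rw [LinearMap.smul_apply, LinearMap.id_apply, Pi.smul_apply, smul_eq_mul, div_mul_eq_mul_div,
    eq_div_iff (by simpa using ha)]
  linear_combination e

/-- A family closed under sums, multiples and the isometries of every factor. -/
structure Fam (f : (Fin k → F) → (Fin k → F) → F)
    (S : (((J → Fin k) → F) →ₗ[F] (J → Fin k) → F) → Prop) : Prop where
  add : ∀ {X Y}, S X → S Y → S (X + Y)
  sm : ∀ (r : F) {X}, S X → S (r • X)
  inv : ∀ (j : J) {b}, b ∈ Iso f → ∀ {X}, S X → S (mvLin (fac j b) ∘ₗ X ∘ₗ mvLin (fac j b)⁻¹)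

theorem Fam.fam2 {S : (((J → Fin k) → F) →ₗ[F] (J → Fin k) → F) → Prop} (hS : Fam f S) (j : J) :
    Fam2 f fun X => S (pull j X) where
  add hX hY := by rw [pull_add]; exact hS.add hX hY
  sm r X hX := by rw [pull_smul]; exact hS.sm r hX
  inv {b} hb {X} hX := by
    have := hS.inv j hb hX
    rwa [pull_conj, tg_fac, kronGL_inv, mvLin_kronGL, mvLin_kronGL, inv_one, mvLin_one'] at this

theorem Fam.sub {S : (((J → Fin k) → F) →ₗ[F] (J → Fin k) → F) → Prop} (hS : Fam f S) {X Y}
    (hX : S X) (hY : S Y) : S (X - Y) := by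
  rw [sub_eq_add_neg, ← neg_one_smul F Y]; exact hS.add hX (hS.sm _ hY)

variable (hf : Geo.IsSymplecticForm f)
include hf

/-- A slot that is not scalar can be replaced by a rank one or two operator. -/
theorem reduce_slot (hk0 : 0 < k) (hk : 4 ≤ k ∨ (2 : F) ≠ 0)
    {S : (((J → Fin k) → F) →ₗ[F] (J → Fin k) → F) → Prop} (hS : Fam f S)
    {T : J → ((Fin k → F) →ₗ[F] Fin k → F)} (hT : ∀ j, T j ≠ 0) {m : J}
    (hm : ∀ s : F, T m ≠ s • LinearMap.id) (h : S (Loc T)) :
    ∃ C, Good hf C ∧ S (Loc (Function.update T m C)) := by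
  set L₀ := Loc fun j : {j // j ≠ m} => T j with hL₀
  have hS2 := hS.fam2 m
  have hZ : S (pull m (top L₀ (T m))) := by rwa [hL₀, show pull m (top (Loc fun j : {j // j ≠ m} => T j) (T m)) =
    Loc T from (loc_eq_conj m T).symm]
  obtain ⟨L, C, hL, hC, hSC, hW⟩ := reduce2 hf hk0 hk hS2 hZ
    (top_ne_id (loc_ne_zero fun j => hT j) hm)
  obtain ⟨a, rfl⟩ := Submodule.mem_span_singleton.1 (hW (Submodule.span F {L₀}) fun p q =>
    Submodule.mem_span_singleton.2 ⟨f (T m p) q, LinearMap.ext fun u => by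
      simp [bb, ctr_ten, fdot hf]⟩)
  have ha : a ≠ 0 := fun h0 => hL (by rw [h0, zero_smul])
  refine ⟨C, hC, ?_⟩
  have := hS.sm a⁻¹ hSC
  rw [top_smul_left, pull_smul, smul_smul, inv_mul_cancel₀ ha, one_smul] at this
  convert this using 1
  rw [loc_eq_conj m, Function.update_self]
  simp only [pull, hL₀]
  congr 3
  exact congrArg Loc (funext fun j => Function.update_of_ne j.2 _ _)

/-- A non-scalar member of a family gives a product of rank one and two operators. -/
theorem exists_good (hk0 : 0 < k) (hk : 4 ≤ k ∨ (2 : F) ≠ 0) :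
    ∀ (n : ℕ) (J : Type) [Fintype J] [DecidableEq J], Fintype.card J = n →
    ∀ S : (((J → Fin k) → F) →ₗ[F] (J → Fin k) → F) → Prop, Fam f S →
    ∀ Z, S Z → (¬ ∃ s : F, Z = s • LinearMap.id) →
    ∃ (U : Finset J) (T : J → ((Fin k → F) →ₗ[F] Fin k → F)), U.Nonempty ∧ (∀ j ∈ U, Good hf (T j)) ∧
      (∀ j, j ∉ U → T j = LinearMap.id) ∧ S (Loc T) := by
  intro n
  induction n with
  | zero =>
    intro J _ _ hJ S hS Z hZ hns
    haveI : IsEmpty J := Fintype.card_eq_zero_iff.1 hJ
    exact absurd ⟨Z (fun _ => 1) isEmptyElim, LinearMap.ext fun x => by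
      have e : x = x isEmptyElim • fun _ => (1 : F) := funext fun a => by
        rw [Subsingleton.elim a isEmptyElim]; simp
      conv_lhs => rw [e, map_smul]
      funext a
      rw [Subsingleton.elim a isEmptyElim]
      simp [mul_comm]⟩ hns
  | succ n ih =>
    intro J _ _ hJ S hS Z hZ hns
    classical
    obtain ⟨i⟩ : Nonempty J := Fintype.card_pos_iff.1 (by omega)
    have hcard : Fintype.card {j // j ≠ i} = n := by
      rw [Fintype.card_subtype_compl, Fintype.card_subtype_eq, hJ, Nat.add_sub_cancel]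
    set Z' := (push i).toLinearMap ∘ₗ Z ∘ₗ (push i).symm.toLinearMap with hZ'
    have hpZ : pull i Z' = Z := LinearMap.ext fun v => by simp [hZ', pull]
    have hrec : ∀ (Z₀ : (Rest i k → F) →ₗ[F] Rest i k → F) (C : (Fin k → F) →ₗ[F] Fin k → F),
        (¬ ∃ s : F, Z₀ = s • LinearMap.id) → S (pull i (top Z₀ C)) →
        ∃ (U : Finset {j // j ≠ i}) (T : {j // j ≠ i} → ((Fin k → F) →ₗ[F] Fin k → F)), U.Nonempty ∧
          (∀ j ∈ U, Good hf (T j)) ∧ (∀ j, j ∉ U → T j = LinearMap.id) ∧ S (pull i (top (Loc T) C)) := by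
      intro Z₀ C hns₀ hZ₀
      refine ih {j // j ≠ i} hcard (fun Y => S (pull i (top Y C))) ⟨fun {X Y} hX hY => ?_, fun r X hX => ?_,
        fun j b hb X hX => ?_⟩ Z₀ hZ₀ hns₀
      · rw [top_add_left, pull_add]; exact hS.add hX hY
      · rw [top_smul_left, pull_smul]; exact hS.sm r hX
      · have := hS.inv (j : J) hb hX
        rwa [pull_conj, WreathMax.tg_fac_other, conj_top, mvLin_one', inv_one, mvLin_one', LinearMap.id_comp,
          LinearMap.comp_id] at this
    have hasm : ∀ (U : Finset {j // j ≠ i}) (T : {j // j ≠ i} → ((Fin k → F) →ₗ[F] Fin k → F))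
        (C : (Fin k → F) →ₗ[F] Fin k → F), S (pull i (top (Loc T) C)) →
        S (Loc fun j => if h : j = i then C else T ⟨j, h⟩) := by
      intro U T C h
      convert h using 1
      rw [loc_eq_conj i, dif_pos rfl]
      simp only [pull]
      congr 3
      exact congrArg Loc (funext fun j => by rw [dif_neg j.2])
    by_cases hid : ∃ L, Z' = top L LinearMap.id
    · obtain ⟨L, hL⟩ := hid
      obtain ⟨U, T, hU, hT1, hT2, hST⟩ := hrec L LinearMap.id (fun ⟨s, hs⟩ => hns ⟨s, by
        rw [← hpZ, hL, hs, top_smul_left, top_one, pull_smul]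
        exact congrArg (s • ·) (LinearMap.ext fun v => by simp [pull])⟩) (by rw [← hL, hpZ]; exact hZ)
      refine ⟨U.map (Function.Embedding.subtype _), _, hU.map, fun j hj => ?_, fun j hj => ?_,
        hasm U T LinearMap.id hST⟩
      · obtain ⟨l, hl, rfl⟩ := Finset.mem_map.1 hj
        simpa [l.2] using hT1 l hl
      · by_cases h : j = i
        · rw [dif_pos h]
        · rw [dif_neg h]
          exact hT2 _ fun hm => hj (Finset.mem_map.2 ⟨_, hm, rfl⟩)
    · obtain ⟨L, C, hL, hC, hSC, -⟩ := reduce2 hf hk0 hk (hS.fam2 i) (show S (pull i Z') by rw [hpZ]; exact hZ) hid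
      by_cases hsc : ∃ s : F, L = s • LinearMap.id
      · obtain ⟨s, rfl⟩ := hsc
        have hs : s ≠ 0 := fun h => hL (by rw [h, zero_smul])
        refine ⟨{i}, fun j => if h : j = i then C else LinearMap.id, Finset.singleton_nonempty i, fun j hj => ?_,
          fun j hj => ?_, hasm ∅ (fun _ => LinearMap.id) C ?_⟩
        · simp only [dif_pos (Finset.mem_singleton.1 hj)]; exact hC
        · simp only [dif_neg (fun h : j = i => hj (Finset.mem_singleton.2 h))]
        · rw [loc_id]
          have := hS.sm s⁻¹ hSC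
          rwa [top_smul_left, pull_smul, smul_smul, inv_mul_cancel₀ hs, one_smul] at this
      · obtain ⟨U, T, hU, hT1, hT2, hST⟩ := hrec L C hsc hSC
        refine ⟨insert i (U.map (Function.Embedding.subtype _)), _, Finset.insert_nonempty _ _, fun j hj => ?_,
          fun j hj => ?_, hasm U T C hST⟩
        · rcases Finset.mem_insert.1 hj with rfl | hj
          · rw [dif_pos rfl]; exact hC
          · obtain ⟨l, hl, rfl⟩ := Finset.mem_map.1 hj
            simpa [l.2] using hT1 l hl
        · rw [Finset.mem_insert, not_or] at hj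
          rw [dif_neg hj.1]
          exact hT2 _ fun hm => hj.2 (Finset.mem_map.2 ⟨_, hm, rfl⟩)

/-- Compression of a pair of products at every slot of a set. -/
theorem compress_all {S : (((J → Fin k) → F) →ₗ[F] (J → Fin k) → F) → Prop} (hS : Fam f S)
    (C C' : J → ((Fin k → F) →ₗ[F] Fin k → F)) (a b : F) (h : S (a • Loc C + b • Loc C')) (U : Finset J)
    (hU : ∀ j ∈ U, ∃ A A', Sq hf A A' ∧ C j = A ∘ₗ A' ∧ C' j = A' ∘ₗ A) :
    ∃ y : J → Fin k → F, (∀ j ∈ U, y j ≠ 0) ∧
      S (a • Loc (fun j => if j ∈ U then Nc hf (y j) else C j) +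
        ((-1) ^ U.card * b) • Loc (fun j => if j ∈ U then Nc hf (y j) else C' j)) := by
  induction U using Finset.induction with
  | empty => exact ⟨0, by simp, by simpa using h⟩
  | insert i U hi ih =>
    obtain ⟨y, hy, hSy⟩ := ih fun j hj => hU j (Finset.mem_insert_of_mem hj)
    obtain ⟨A, A', ⟨v, hv, hsq⟩, hCi, hC'i⟩ := hU i (Finset.mem_insert_self i U)
    set R : J → ((Fin k → F) →ₗ[F] Fin k → F) := fun j => if j ∈ U then Nc hf (y j) else C j
    set R' : J → ((Fin k → F) →ₗ[F] Fin k → F) := fun j => if j ∈ U then Nc hf (y j) else C' j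
    set LA := Loc fun j : {j // j ≠ i} => R j
    set LB := Loc fun j : {j // j ≠ i} => R' j
    have h1 := hsq _ (fun X => S (pull i X)) (hS.fam2 i) (a • LA) (((-1) ^ U.card * b) • LB) (by
      show S (pull i _)
      rw [top_smul_left, top_smul_left, pull_add, pull_smul, pull_smul]
      convert hSy using 3 <;> rw [loc_eq_conj i] <;> simp only [pull, R, R', LA, LB, if_neg hi, hCi, hC'i])
    refine ⟨Function.update y i v, fun j hj => ?_, ?_⟩
    · by_cases e : j = i
      · rw [e, Function.update_self]; exact hv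
      · rw [Function.update_of_ne e]; exact hy j ((Finset.mem_insert.1 hj).resolve_left e)
    · convert (show S (pull i _) from h1) using 1
      have hupd : ∀ D : J → ((Fin k → F) →ₗ[F] Fin k → F),
          Loc (fun j => if j ∈ insert i U then Nc hf (Function.update y i v j) else D j) =
            pull i (top (Loc fun j : {j // j ≠ i} => if (j : J) ∈ U then Nc hf (y j) else D j) (Nc hf v)) := by
        intro D
        rw [loc_eq_conj i, if_pos (Finset.mem_insert_self i U), Function.update_self]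
        simp only [pull]
        congr 3
        exact congrArg Loc (funext fun j => by
          simp only [Finset.mem_insert, j.2, false_or, Function.update_of_ne j.2])
      rw [hupd C, hupd C', Finset.card_insert_of_notMem hi, pow_succ]
      refine LinearMap.ext fun w => ?_
      simp only [R, R', LA, LB, pull, LinearMap.add_apply, LinearMap.smul_apply, LinearMap.comp_apply,
        LinearEquiv.coe_coe, sub_eq_add_neg, top_add_left, UWreath.top_neg_left, top_smul_left, LinearMap.neg_apply, map_add, map_neg,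
        map_smul]
      module

/-! ### The family of centres -/

theorem iso_le_specialLinear : Iso f ≤ Geo.specialLinear (Fin k) F :=
  preserving_le hf fun v a => stv_mem_specialLinear hf v a

theorem fac_mem {M : Subgroup (GL (J → Fin k) F)} (hM : FacSU f M) (j : J) {b : GL (Fin k) F}
    (hb : b ∈ Iso f) : fac j b ∈ M :=
  hM j b hb (iso_le_specialLinear hf hb)

/-- The centres of the factor a along c. -/
def Cen (M : Subgroup (GL (J → Fin k) F)) (a : J) (c : Fin k → F) (Y : (Rest a k → F) →ₗ[F] Rest a k → F) :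
    Prop :=
  Has M (pull a (top Y (Nc hf c)))

theorem cen_fam [Finite F] {M : Subgroup (GL (J → Fin k) F)} (hM : FacSU f M) (a : J) {c : Fin k → F}
    (hc : c ≠ 0) : Fam f (Cen hf M a c) := by
  have hnn : ∀ X Y : (Rest a k → F) →ₗ[F] Rest a k → F,
      pull a (top X (Nc hf c)) ∘ₗ pull a (top Y (Nc hf c)) = 0 := fun X Y => by
    rw [pull_comp, top_comp, Good.sq hf (Or.inl ⟨c, hc, rfl⟩ : Good hf (Nc hf c))]
    rw [show top (X ∘ₗ Y) (0 : (Fin k → F) →ₗ[F] Fin k → F) = 0 from
      ext_ten fun u w => by simp [ten_zero_right], pull_zero]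
  have hadd : ∀ {X Y}, Cen hf M a c X → Cen hf M a c Y → Cen hf M a c (X + Y) := fun {X Y} hX hY => by
    show Has M _
    rw [top_add_left, pull_add]
    exact UWreath.Has.add hX hY (hnn X Y)
  have hsq : ∀ (l : F) {X}, l ≠ 0 → Cen hf M a c X → Cen hf M a c ((l * l) • X) := by
    intro l X hl hX
    obtain ⟨b, hb, hbc, -⟩ := exists_move_nondeg hf (K := Iso f) (nondeg_top hf)
      (fun z _ s => stv_mem hf z s) Submodule.mem_top Submodule.mem_top hc (smul_ne_zero hl hc)
    have := UWreath.Has.conj hX (fac_mem hf hM a hb)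
    rw [pull_conj, tg_fac, conj_top, mvLin_one', inv_one, mvLin_one', LinearMap.id_comp, LinearMap.comp_id,
      Nc_conj_iso hf hb, hbc, show Nc hf (l • c) = (l * l) • Nc hf c from LinearMap.ext fun x => by
        simp [hf.bilinear.smul_right, smul_smul]; ring_nf, top_smul_right, ← top_smul_left] at this
    exact this
  have hneg : ∀ {X}, Cen hf M a c X → Cen hf M a c (-X) := fun {X} hX => by
    show Has M _
    rw [UWreath.top_neg_left, show pull a (-top X (Nc hf c)) = -pull a (top X (Nc hf c)) from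
      LinearMap.ext fun v => by simp [pull]]
    exact UWreath.Has.neg hX (hnn X X)
  have hzero : Cen hf M a c 0 := by
    show Has M _
    rw [show top (0 : (Rest a k → F) →ₗ[F] Rest a k → F) (Nc hf c) = 0 from
      ext_ten fun u w => by simp [ten_zero_left], pull_zero]
    exact UWreath.has_zero M
  refine ⟨hadd, fun r X hX => ?_, fun j b hb X hX => ?_⟩
  · have hsq0 : ∀ l : F, Cen hf M a c ((l * l) • X) := fun l => by
      by_cases hl : l = 0
      · rw [hl, mul_zero, zero_smul]; exact hzero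
      · exact hsq l hl hX
    by_cases h2 : (2 : F) = 0
    · haveI := CharTwo.of_one_ne_zero_of_two_eq_zero one_ne_zero h2
      obtain ⟨l, rfl⟩ := FiniteField.isSquare_of_char_two (ringChar.eq F 2) r
      exact hsq0 l
    · have := hadd (hsq0 ((r + 1) / 2)) (hneg (hsq0 ((r - 1) / 2)))
      convert this using 1
      rw [← sub_eq_add_neg]
      match_scalars
      field_simp
      ring
  · have := UWreath.Has.conj hX (fac_mem hf hM (j : J) hb)
    rwa [pull_conj, WreathMax.tg_fac_other, conj_top, mvLin_one', inv_one, mvLin_one', LinearMap.id_comp,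
      LinearMap.comp_id] at this

/-- The centres of the factor a seen on all factors. -/
def CenJ (M : Subgroup (GL (J → Fin k) F)) (a : J) (c : Fin k → F)
    (Y : ((J → Fin k) → F) →ₗ[F] (J → Fin k) → F) : Prop :=
  ∃ Y₀, Y = pull a (top Y₀ LinearMap.id) ∧ Cen hf M a c Y₀

theorem cenJ_fam [Finite F] {M : Subgroup (GL (J → Fin k) F)} (hM : FacSU f M) (a : J) {c : Fin k → F}
    (hc : c ≠ 0) : Fam f (CenJ hf M a c) := by
  refine ⟨?_, ?_, ?_⟩
  · rintro X Y ⟨X₀, rfl, hX⟩ ⟨Y₀, rfl, hY⟩
    exact ⟨X₀ + Y₀, by rw [top_add_left, pull_add], (cen_fam hf hM a hc).add hX hY⟩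
  · rintro r X ⟨X₀, rfl, hX⟩
    exact ⟨r • X₀, by rw [top_smul_left, pull_smul], (cen_fam hf hM a hc).sm r hX⟩
  · rintro j b hb X ⟨X₀, rfl, hX⟩
    by_cases hja : j = a
    · subst hja
      refine ⟨X₀, ?_, hX⟩
      rw [pull_conj, tg_fac, conj_top, mvLin_one', inv_one, mvLin_one', LinearMap.id_comp, LinearMap.comp_id,
        LinearMap.id_comp]
      congr 2
      exact LinearMap.ext fun y => by simp
    · refine ⟨_, ?_, (cen_fam hf hM a hc).inv ⟨j, hja⟩ hb hX⟩
      have e : tg a k F (fac j b) = kronGL (fac (⟨j, hja⟩ : {l // l ≠ a}) b) 1 :=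
        WreathMax.tg_fac_other (⟨j, hja⟩ : {l // l ≠ a}) b
      rw [pull_conj, e, conj_top, mvLin_one', inv_one, mvLin_one', LinearMap.id_comp, LinearMap.comp_id]

/-- Every multiple of the pure displacement lies in M. -/
def Mem (M : Subgroup (GL (J → Fin k) F)) (T : J → ((Fin k → F) →ₗ[F] Fin k → F)) : Prop :=
  ∀ r : F, Has M (r • Loc T)

omit hf in
theorem loc_update_pull (a : J) (T : J → ((Fin k → F) →ₗ[F] Fin k → F)) (A : (Fin k → F) →ₗ[F] Fin k → F) :
    Loc (Function.update T a A) = pull a (top (Loc fun j : {j // j ≠ a} => T j) A) := by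
  rw [loc_eq_conj a, Function.update_self]
  simp only [pull]
  congr 3
  exact congrArg Loc (funext fun j => Function.update_of_ne j.2 _ _)

omit hf in
theorem top_left_inj {α : Type} [Fintype α] [DecidableEq α] {L L' : (α → F) →ₗ[F] α → F} {x : Fin k → F}
    (hx : x ≠ 0) (h : top L (LinearMap.id : (Fin k → F) →ₗ[F] Fin k → F) = top L' LinearMap.id) : L = L' :=
  LinearMap.ext fun u => rho_injective hx (by simpa using LinearMap.congr_fun h (ten u x))

theorem mem_of_cenJ [Finite F] {M : Subgroup (GL (J → Fin k) F)} (hM : FacSU f M) {a : J} {c : Fin k → F}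
    (hc : c ≠ 0) {T : J → ((Fin k → F) →ₗ[F] Fin k → F)} (ha : T a = LinearMap.id)
    (h : CenJ hf M a c (Loc T)) : Mem M (Function.update T a (Nc hf c)) := by
  intro r
  obtain ⟨Y₀, hY, hC⟩ := h
  have e : Loc (fun j : {j // j ≠ a} => T j) = Y₀ := by
    refine top_left_inj hc ?_
    have e1 : pull a (top (Loc fun j : {j // j ≠ a} => T j) LinearMap.id) = pull a (top Y₀ LinearMap.id) := by
      rw [← hY, ← loc_update_pull a T LinearMap.id, ← ha, Function.update_eq_self]
    refine LinearMap.ext fun v => ?_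
    have := congrArg (push a) (LinearMap.congr_fun e1 ((push a).symm v))
    simpa [pull] using this
  have := (cen_fam hf hM a hc).sm r hC
  rwa [Cen, top_smul_left, pull_smul, ← e, ← loc_update_pull] at this

omit hf in
/-- The commutator of two displacements. -/
theorem has_comm {ι : Type} [Fintype ι] [DecidableEq ι] {M : Subgroup (GL ι F)}
    {X Y : (ι → F) →ₗ[F] ι → F} (hX : Has M X) (hY : Has M Y) (hXX : X ∘ₗ X = 0) (hYY : Y ∘ₗ Y = 0)
    (hXYX : X ∘ₗ Y ∘ₗ X = 0) (hYXY : Y ∘ₗ X ∘ₗ Y = 0) : Has M (X ∘ₗ Y - Y ∘ₗ X) := by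
  obtain ⟨g, hg, hgX⟩ := hX
  obtain ⟨g', hg', hgY⟩ := hY
  obtain ⟨gi, hgi, hgiX⟩ : Has M (-X) := UWreath.Has.neg ⟨g, hg, hgX⟩ hXX
  obtain ⟨gi', hgi', hgiY⟩ : Has M (-Y) := UWreath.Has.neg ⟨g', hg', hgY⟩ hYY
  refine ⟨g * g' * gi * gi', M.mul_mem (M.mul_mem (M.mul_mem hg hg') hgi) hgi', fun x => ?_⟩
  have a1 : ∀ z, X (X z) = 0 := LinearMap.congr_fun hXX
  have a2 : ∀ z, Y (Y z) = 0 := LinearMap.congr_fun hYY
  have a3 : ∀ z, X (Y (X z)) = 0 := LinearMap.congr_fun hXYX
  have a4 : ∀ z, Y (X (Y z)) = 0 := LinearMap.congr_fun hYXY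
  rw [mv_mul, mv_mul, mv_mul, hgiY, hgiX, hgY, hgX]
  simp only [LinearMap.neg_apply, LinearMap.sub_apply, LinearMap.comp_apply, map_add, map_neg, map_zero,
    a1, a2, a3, a4]
  abel

end Cfsg.Agent.FormWreath.Grow
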