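/-
Moving pure displacements by monomial members, and the union of two of them.
-/
import Cfsg.Agent.Lib.FormWreath.GrowFam

set_option autoImplicit false
set_option linter.unusedSectionVars false

namespace Cfsg.Agent.FormWreath.Grow

open scoped Matrix
open Matrix Cfsg.Agent.Transvec Cfsg.Agent.TensorMax Cfsg.Agent.WreathMax Cfsg.Agent.FormWreath
open Cfsg.Agent.UWreath (top top_ten top_comp top_one top_add_left top_add_right top_smul_left top_smul_right
  Has Loc loc_pten loc_comp loc_id loc_eq_zero loc_update_smul push_loc loc_eq_conj pull pull_conj has_tg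
  conj_top mvLin_kronGL mvLin_fac)

variable {F : Type*} [Field F] {k : ℕ} {f : (Fin k → F) → (Fin k → F) → F}
variable {J : Type} [Fintype J] [DecidableEq J]

/-- Conjugation of an operator of one factor. -/
noncomputable def cj (b : GL (Fin k) F) (A : (Fin k → F) →ₗ[F] Fin k → F) :
    (Fin k → F) →ₗ[F] Fin k → F :=
  mvLin b ∘ₗ A ∘ₗ mvLin b⁻¹

theorem cj_id (b : GL (Fin k) F) : cj b LinearMap.id = LinearMap.id :=
  LinearMap.ext fun y => by simp [cj]

theorem cj_one (A : (Fin k → F) →ₗ[F] Fin k → F) : cj 1 A = A :=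
  LinearMap.ext fun y => by simp [cj]

theorem cj_cj (b b' : GL (Fin k) F) (A : (Fin k → F) →ₗ[F] Fin k → F) : cj b (cj b' A) = cj (b * b') A :=
  LinearMap.ext fun y => by simp [cj, Matrix.mulVec_mulVec, Units.val_mul]

theorem cj_comp (b : GL (Fin k) F) (A B : (Fin k → F) →ₗ[F] Fin k → F) : cj b A ∘ₗ cj b B = cj b (A ∘ₗ B) :=
  LinearMap.ext fun y => by simp [cj]

variable (hf : Geo.IsSymplecticForm f)
include hf

theorem sform : SF (RingEquiv.refl F) (-1) f where
  add_left := hf.bilinear.add_left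
  smul_left := hf.bilinear.smul_left
  symm x y := by rw [RingEquiv.refl_apply, neg_one_mul]; exact hf.skew x y
  inv _ := rfl
  eps := by simp
  nondeg x hx := by
    by_contra h
    obtain ⟨y, hy⟩ := (hf.nondegenerate x h).2
    exact hy (hx y)

/-- The factors of a monomial isometry are similitudes. -/
theorem mono_sim (hk : 0 < k) {g : GL (J → Fin k) F}
    (hg : ∀ x y, Bt (RingEquiv.refl F) f (mv g x) (mv g y) = Bt (RingEquiv.refl F) f x y)
    {π : Equiv.Perm J} {A : J → GL (Fin k) F}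
    (hA : ∀ x, mv g (pten x) = pten fun j => mv (A j) (x (π j))) (j : J) :
    ∃ μ : F, μ ≠ 0 ∧ ∀ u v, f (mv (A j) u) (mv (A j) v) = μ * f u v := by
  haveI : NeZero k := ⟨by omega⟩
  obtain ⟨d, hd⟩ := TensorMax.S.exists_pair hf (c := (Pi.single 0 1 : Fin k → F)) (by simp)
  set e : Fin k → F := Pi.single 0 1
  have key : ∀ u v, f (mv (A j) u) (mv (A j) v) * ∏ l ∈ Finset.univ.erase j, f (mv (A l) d) (mv (A l) e) =
      f u v := by
    intro u v
    have h := hg (pten (Function.update (fun _ => d) (π j) u)) (pten (Function.update (fun _ => e) (π j) v))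
    rw [hA, hA, Bt_pten (sform hf), Bt_pten (sform hf), ← Finset.mul_prod_erase Finset.univ _ (Finset.mem_univ j),
      ← Finset.mul_prod_erase Finset.univ _ (Finset.mem_univ (π j))] at h
    simp only [Function.update_self] at h
    rw [Finset.prod_congr rfl fun l hl => show f (mv (A l) (Function.update (fun _ => d) (π j) u (π l)))
        (mv (A l) (Function.update (fun _ => e) (π j) v (π l))) = f (mv (A l) d) (mv (A l) e) by
          rw [Function.update_of_ne (π.injective.ne (Finset.ne_of_mem_erase hl)),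
            Function.update_of_ne (π.injective.ne (Finset.ne_of_mem_erase hl))],
      Finset.prod_eq_one (s := Finset.univ.erase (π j)) fun l hl => by
        rw [Function.update_of_ne (Finset.ne_of_mem_erase hl), Function.update_of_ne (Finset.ne_of_mem_erase hl),
          hd], mul_one] at h
    exact h
  set C := ∏ l ∈ Finset.univ.erase j, f (mv (A l) d) (mv (A l) e)
  have hC : C ≠ 0 := fun h0 => by
    have := key d e
    rw [h0, mul_zero, hd] at this
    exact zero_ne_one this
  exact ⟨C⁻¹, inv_ne_zero hC, fun u v => by rw [← key u v]; field_simp⟩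

variable [Finite F] {M : Subgroup (GL (J → Fin k) F)}

/-- An element acting by prescribed isometries in all factors. -/
theorem exists_loc (hM : FacSU f M) (h : J → GL (Fin k) F) (hh : ∀ j, h j ∈ Iso f) :
    ∃ g ∈ M, mvLin g = Loc (fun j => mvLin (h j)) ∧ mvLin g⁻¹ = Loc fun j => mvLin (h j)⁻¹ := by
  suffices H : ∀ U : Finset J, ∃ g ∈ M, mvLin g = Loc (fun j => mvLin (if j ∈ U then h j else 1)) ∧
      mvLin g⁻¹ = Loc fun j => mvLin (if j ∈ U then h j else 1)⁻¹ by
    obtain ⟨g, hg, h1, h2⟩ := H Finset.univ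
    exact ⟨g, hg, by simpa using h1, by simpa using h2⟩
  intro U
  have hmul : ∀ g g' : GL (J → Fin k) F, mvLin (g * g') = mvLin g ∘ₗ mvLin g' := fun g g' =>
    LinearMap.ext fun x => by simp [Matrix.mulVec_mulVec, Units.val_mul]
  induction U using Finset.induction with
  | empty =>
    refine ⟨1, M.one_mem, ?_, ?_⟩ <;>
    · simp only [Finset.notMem_empty, if_false, inv_one, mvLin_one', loc_id]
  | insert i U hi ih =>
    obtain ⟨g, hg, h1, h2⟩ := ih
    refine ⟨fac i (h i) * g, M.mul_mem (fac_mem hf hM i (hh i)) hg, ?_, ?_⟩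
    · rw [hmul, h1, mvLin_fac, loc_comp]
      refine congrArg Loc (funext fun j => ?_)
      by_cases hj : j = i
      · subst hj; simp [hi, mvLin_one']
      · simp [hj]
    · rw [_root_.mul_inv_rev, hmul, h2, fac_inv, mvLin_fac, loc_comp]
      refine congrArg Loc (funext fun j => ?_)
      by_cases hj : j = i
      · subst hj; simp [hi, mvLin_one']
      · simp [hj]

/-- Slots carried by pure displacements. -/
def Slot (A : (Fin k → F) →ₗ[F] Fin k → F) : Prop := Good hf A ∨ A = LinearMap.id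

theorem Slot.ne_zero (hk : 0 < k) {A : (Fin k → F) →ₗ[F] Fin k → F} (h : Slot hf A) : A ≠ 0 := by
  rcases h with h | rfl
  · exact h.ne_zero hf
  · haveI : NeZero k := ⟨by omega⟩
    intro h0
    have := congrFun (LinearMap.congr_fun h0 (Pi.single 0 1)) 0
    simp at this

theorem Slot.cj {A : (Fin k → F) →ₗ[F] Fin k → F} (h : Slot hf A) {b : GL (Fin k) F} (hb : b ∈ Iso f) :
    Slot hf (Grow.cj b A) := by
  rcases h with h | rfl
  · exact Or.inl (h.conj hf hb)
  · exact Or.inr (cj_id b)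

/-- Monomial members permute pure displacements. -/
theorem mem_move (hk : 0 < k) (hM : FacSU f M)
    (hMf : ∀ g ∈ M, ∀ x y, Bt (RingEquiv.refl F) f (mv g x) (mv g y) = Bt (RingEquiv.refl F) f x y)
    {π : Equiv.Perm J} (hπ : ∃ g ∈ M, MonoOf π g) {T : J → ((Fin k → F) →ₗ[F] Fin k → F)}
    (hT : Mem M T) (hslot : ∀ j, Slot hf (T j)) (B : J → GL (Fin k) F)
    (hB : ∀ j, B j ∈ Iso f) : Mem M fun j => cj (B j) (T (π j)) := by
  obtain ⟨g, hg, A, hA⟩ := hπ
  have hsim : ∀ j, ∃ r : F, r ≠ 0 ∧ ∃ b ∈ Iso f, cj (A j) (T (π j)) = r • cj b (T (π j)) := fun j => by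
    obtain ⟨μ, hμ, hAμ⟩ := mono_sim hf hk (hMf g hg) hA j
    rcases hslot (π j) with h | h
    · exact h.sim hf hμ hAμ
    · exact ⟨1, one_ne_zero, 1, one_mem _, by rw [h, cj_id, cj_id, one_smul]⟩
  choose r hr b hb hrb using hsim
  obtain ⟨g', hg', hg'1, hg'2⟩ := exists_loc hf hM (fun j => B j * (b j)⁻¹)
    fun j => (Iso f).mul_mem (hB j) ((Iso f).inv_mem (hb j))
  intro s
  have h1 := UWreath.Has.conj (UWreath.Has.conj (hT ((∏ j, r j)⁻¹ * s)) hg) hg'
  convert h1 using 1
  simp only [LinearMap.smul_comp, LinearMap.comp_smul]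
  have e1 : mvLin g ∘ₗ Loc T = Loc (fun j => cj (A j) (T (π j))) ∘ₗ mvLin g := eq_of_pten fun x => by
    simp only [LinearMap.comp_apply, Matrix.toLin'_apply, loc_pten]
    show mv g (pten fun j => T j (x j)) = Loc _ (mv g (pten x))
    rw [hA, hA, loc_pten]
    refine congrArg pten (funext fun j => ?_)
    simp [cj]
  have e2 : mvLin g ∘ₗ Loc T ∘ₗ mvLin g⁻¹ = Loc fun j => cj (A j) (T (π j)) := by
    rw [← LinearMap.comp_assoc, e1, LinearMap.comp_assoc]
    exact LinearMap.ext fun y => by simp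
  rw [e2, hg'1, hg'2, loc_comp, loc_comp]
  simp only [hrb, LinearMap.comp_smul, LinearMap.smul_comp]
  rw [loc_smul_all, smul_smul]
  congr 1
  · have hp : ∏ j, r j ≠ 0 := Finset.prod_ne_zero_iff.2 fun j _ => hr j
    field_simp
  · refine congrArg Loc (funext fun j => ?_)
    show _ = cj (B j * (b j)⁻¹) (cj (b j) (T (π j)))
    rw [cj_cj, mul_assoc, inv_mul_cancel, mul_one]

/-! ### Unions -/

/-- The commutator of two pure displacements meeting in a rank one operator at the slot a. -/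
theorem comm_cen {T T' : J → ((Fin k → F) →ₗ[F] Fin k → F)} (hT : Mem M T) (hT' : Mem M T')
    {a : J} {c : Fin k → F} {e e' : F} (ha : T a ∘ₗ T' a = e • Nc hf c) (ha' : T' a ∘ₗ T a = e' • Nc hf c)
    (hsq : ∃ j, T j ∘ₗ T j = 0) (hsq' : ∃ j, T' j ∘ₗ T' j = 0)
    (hz : ∃ j, T j ∘ₗ T' j ∘ₗ T j = 0) (hz' : ∃ j, T' j ∘ₗ T j ∘ₗ T' j = 0) :
    CenJ hf M a c (e • Loc (Function.update (fun j => T j ∘ₗ T' j) a LinearMap.id) +
      (-e') • Loc (Function.update (fun j => T' j ∘ₗ T j) a LinearMap.id)) := by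
  obtain ⟨j1, h1⟩ := hsq
  obtain ⟨j2, h2⟩ := hsq'
  obtain ⟨j3, h3⟩ := hz
  obtain ⟨j4, h4⟩ := hz'
  have hX := hT 1
  have hY := hT' 1
  rw [one_smul] at hX hY
  have h := has_comm hX hY (by rw [loc_comp, loc_eq_zero _ h1]) (by rw [loc_comp, loc_eq_zero _ h2])
    (by rw [loc_comp, loc_comp, loc_eq_zero _ h3]) (by rw [loc_comp, loc_comp, loc_eq_zero _ h4])
  refine ⟨e • Loc (fun j : {j // j ≠ a} => T j ∘ₗ T' j) + (-e') • Loc (fun j : {j // j ≠ a} => T' j ∘ₗ T j),
    ?_, ?_⟩
  · rw [loc_update_pull, loc_update_pull, top_add_left, top_smul_left, top_smul_left, pull_add, pull_smul,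
      pull_smul]
  · show Has M _
    convert h using 1
    rw [loc_comp, loc_comp, top_add_left, top_smul_left, top_smul_left, pull_add, pull_smul, pull_smul,
      ← loc_update_pull a (fun j => T j ∘ₗ T' j), ← loc_update_pull a (fun j => T' j ∘ₗ T j), sub_eq_add_neg,
      show ∀ X : ((J → Fin k) → F) →ₗ[F] (J → Fin k) → F, (-e') • X = -(e' • X) from fun X => by module]
    rw [← loc_update_smul, ← ha, ← loc_update_smul, ← ha', Function.update_eq_self,
      Function.update_eq_self]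

/-- The union without a free slot. -/
theorem union_full (hM : FacSU f M) {T T' : J → ((Fin k → F) →ₗ[F] Fin k → F)} (hT : Mem M T) (hT' : Mem M T')
    {a : J} {c : Fin k → F} (hc : c ≠ 0) {e e' : F}
    (ha : T a ∘ₗ T' a = e • Nc hf c) (ha' : T' a ∘ₗ T a = e' • Nc hf c)
    (hsq : ∃ j, T j ∘ₗ T j = 0) (hsq' : ∃ j, T' j ∘ₗ T' j = 0)
    (hz : ∃ j, T j ∘ₗ T' j ∘ₗ T j = 0) (hz' : ∃ j, T' j ∘ₗ T j ∘ₗ T' j = 0)
    (U : Finset J) (haU : a ∉ U) (hU : ∀ j ∈ U, Sq hf (T j) (T' j))
    (hcomm : ∀ j, j ∉ U → j ≠ a → T j ∘ₗ T' j = T' j ∘ₗ T j) (hne : e - (-1) ^ U.card * e' ≠ 0) :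
    ∃ y : J → Fin k → F, (∀ j ∈ U, y j ≠ 0) ∧
      Mem M fun j => if j = a then Nc hf c else if j ∈ U then Nc hf (y j) else T j ∘ₗ T' j := by
  have hS := cenJ_fam hf hM a hc
  obtain ⟨y, hy, h⟩ := compress_all hf hS _ _ e (-e') (comm_cen hf hT hT' ha ha' hsq hsq' hz hz') U
    fun j hj => ⟨T j, T' j, hU j hj, Function.update_of_ne (ne_of_mem_of_not_mem hj haU) _ _,
      Function.update_of_ne (ne_of_mem_of_not_mem hj haU) _ _⟩
  refine ⟨y, hy, ?_⟩
  set R : J → ((Fin k → F) →ₗ[F] Fin k → F) :=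
    fun j => if j ∈ U then Nc hf (y j) else Function.update (fun j => T j ∘ₗ T' j) a LinearMap.id j
  have e1 : (fun j => if j ∈ U then Nc hf (y j) else
      Function.update (fun j => T' j ∘ₗ T j) a LinearMap.id j) = R := funext fun j => by
    by_cases hj : j ∈ U
    · simp [R, hj]
    · by_cases hja : j = a
      · subst hja; simp [R, hj]
      · simp [R, hj, hja, hcomm j hj hja]
  rw [e1, ← add_smul] at h
  have h' := hS.sm (e - (-1) ^ U.card * e')⁻¹ h
  rw [smul_smul, show (e - (-1) ^ U.card * e')⁻¹ * (e + (-1) ^ U.card * -e') = 1 by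
    rw [show e + (-1) ^ U.card * -e' = e - (-1) ^ U.card * e' by ring, inv_mul_cancel₀ hne], one_smul] at h'
  have h'' := mem_of_cenJ hf hM hc (show R a = LinearMap.id by simp [R, haU]) h'
  convert h'' using 1
  funext j
  by_cases hja : j = a
  · subst hja; simp
  · simp [R, hja]

/-- The union with a free slot m. -/
theorem union_slot (hk0 : 0 < k) (hk : 4 ≤ k ∨ (2 : F) ≠ 0) (hM : FacSU f M)
    {T T' : J → ((Fin k → F) →ₗ[F] Fin k → F)} (hT : Mem M T) (hT' : Mem M T')
    {a m : J} {c : Fin k → F} (hc : c ≠ 0) {e e' : F} (he : e ≠ 0)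
    (ha : T a ∘ₗ T' a = e • Nc hf c) (ha' : T' a ∘ₗ T a = e' • Nc hf c)
    (hsq : ∃ j, T j ∘ₗ T j = 0) (hsq' : ∃ j, T' j ∘ₗ T' j = 0)
    (hz : ∃ j, T j ∘ₗ T' j ∘ₗ T j = 0) (hz' : ∃ j, T' j ∘ₗ T j ∘ₗ T' j = 0)
    (U : Finset J) (haU : a ∉ U) (hmU : m ∉ U) (hma : m ≠ a) (hU : ∀ j ∈ U, Sq hf (T j) (T' j))
    (hcomm : ∀ j, j ∉ U → j ≠ a → j ≠ m → T j ∘ₗ T' j = T' j ∘ₗ T j ∧ T j ∘ₗ T' j ≠ 0)
    (hsign : (-1) ^ U.card * e' = -e) (hY : T m ∘ₗ T' m + T' m ∘ₗ T m ≠ 0) :
    ∃ (y : J → Fin k → F) (C : (Fin k → F) →ₗ[F] Fin k → F), (∀ j ∈ U, y j ≠ 0) ∧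
      (Good hf C ∨ (C = LinearMap.id ∧ ∃ s : F, T m ∘ₗ T' m + T' m ∘ₗ T m = s • LinearMap.id)) ∧
      Mem M fun j => if j = a then Nc hf c else if j = m then C else
        if j ∈ U then Nc hf (y j) else T j ∘ₗ T' j := by
  have hS := cenJ_fam hf hM a hc
  obtain ⟨y, hy, h⟩ := compress_all hf hS _ _ e (-e') (comm_cen hf hT hT' ha ha' hsq hsq' hz hz') U
    fun j hj => ⟨T j, T' j, hU j hj, Function.update_of_ne (ne_of_mem_of_not_mem hj haU) _ _,
      Function.update_of_ne (ne_of_mem_of_not_mem hj haU) _ _⟩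
  set R : J → ((Fin k → F) →ₗ[F] Fin k → F) :=
    fun j => if j = a then LinearMap.id else if j ∈ U then Nc hf (y j) else T j ∘ₗ T' j with hR
  set Y := T m ∘ₗ T' m + T' m ∘ₗ T m
  have e1 : (fun j => if j ∈ U then Nc hf (y j) else
      Function.update (fun j => T j ∘ₗ T' j) a LinearMap.id j) = Function.update R m (T m ∘ₗ T' m) :=
    funext fun j => by
      by_cases hjm : j = m
      · subst hjm; simp [hmU, hma]
      · by_cases hj : j ∈ U
        · simp [R, hj, hjm, show j ≠ a from ne_of_mem_of_not_mem hj haU]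
        · by_cases hja : j = a
          · subst hja; simp [R, hj, hjm]
          · simp [R, hj, hja, hjm]
  have e2 : (fun j => if j ∈ U then Nc hf (y j) else
      Function.update (fun j => T' j ∘ₗ T j) a LinearMap.id j) = Function.update R m (T' m ∘ₗ T m) :=
    funext fun j => by
      by_cases hjm : j = m
      · subst hjm; simp [hmU, hma]
      · by_cases hj : j ∈ U
        · simp [R, hj, hjm, show j ≠ a from ne_of_mem_of_not_mem hj haU]
        · by_cases hja : j = a
          · subst hja; simp [R, hj, hjm]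
          · simp [R, hj, hja, hjm, (hcomm j hj hja hjm).1]
  rw [e1, e2, show (-1) ^ U.card * -e' = e by linear_combination -hsign, ← smul_add, ← loc_update_add] at h
  have h' := hS.sm e⁻¹ h
  rw [smul_smul, inv_mul_cancel₀ he, one_smul] at h'
  have hR0 : ∀ j, Function.update R m Y j ≠ 0 := fun j => by
    by_cases hjm : j = m
    · subst hjm; rw [Function.update_self]; exact hY
    · rw [Function.update_of_ne hjm]
      by_cases hja : j = a
      · simp only [hR, if_pos hja]
        exact Slot.ne_zero hf hk0 (Or.inr rfl)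
      · by_cases hj : j ∈ U
        · simp only [hR, if_neg hja, if_pos hj]
          exact Good.ne_zero hf (Or.inl ⟨y j, hy j hj, rfl⟩ : Good hf (Nc hf (y j)))
        · simp only [hR, if_neg hja, if_neg hj]
          exact (hcomm j hj hja hjm).2
  have hfin : ∀ C, CenJ hf M a c (Loc (Function.update R m C)) →
      Mem M fun j => if j = a then Nc hf c else if j = m then C else
        if j ∈ U then Nc hf (y j) else T j ∘ₗ T' j := by
    intro C hC
    have h'' := mem_of_cenJ hf hM hc (show Function.update R m C a = LinearMap.id by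
      rw [Function.update_of_ne hma.symm]; simp [hR]) hC
    convert h'' using 1
    funext j
    by_cases hja : j = a
    · subst hja; simp
    · by_cases hjm : j = m
      · subst hjm; simp [hja]
      · simp [hR, hja, hjm]
  by_cases hsc : ∃ s : F, Y = s • LinearMap.id
  · obtain ⟨s, hs⟩ := hsc
    have hs0 : s ≠ 0 := fun h0 => hY (by rw [hs, h0, zero_smul])
    refine ⟨y, LinearMap.id, hy, Or.inr ⟨rfl, s, hs⟩, hfin _ ?_⟩
    rw [show T m ∘ₗ T' m + T' m ∘ₗ T m = s • LinearMap.id from hs, loc_update_smul] at h'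
    have := hS.sm s⁻¹ h'
    rwa [smul_smul, inv_mul_cancel₀ hs0, one_smul] at this
  · obtain ⟨C, hC, hC'⟩ := reduce_slot hf hk0 hk hS hR0 (m := m)
      (fun s => by rw [Function.update_self]; exact fun h => hsc ⟨s, h⟩) h'
    rw [Function.update_idem] at hC'
    exact ⟨y, C, hy, Or.inl hC, hfin C hC'⟩

end Cfsg.Agent.FormWreath.Grow
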