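/-
From one pure displacement with a rank one slot to one on all the factors.
-/
import Cfsg.Agent.Lib.FormWreath.GrowMove

set_option autoImplicit false
set_option linter.unusedSectionVars false

namespace Cfsg.Agent.FormWreath.Grow

open scoped Matrix
open Matrix Cfsg.Agent.Transvec Cfsg.Agent.TensorMax Cfsg.Agent.WreathMax Cfsg.Agent.FormWreath
open Cfsg.Agent.UWreath (top Has Loc)

variable {F : Type*} [Field F] [Finite F] {k : ℕ} {f : (Fin k → F) → (Fin k → F) → F}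
variable {J : Type} [Fintype J] [DecidableEq J]
variable (hf : Geo.IsSymplecticForm f)
include hf

/-- The hypotheses of growth. -/
structure GCtx (M : Subgroup (GL (J → Fin k) F)) : Prop where
  hk0 : 0 < k
  hk : 4 ≤ k ∨ (2 : F) ≠ 0
  facs : FacSU f M
  pres : ∀ g ∈ M, ∀ x y, Bt (RingEquiv.refl F) f (mv g x) (mv g y) = Bt (RingEquiv.refl F) f x y
  mono : k = 2 ∨ 3 ≤ Fintype.card J → ∀ π : Equiv.Perm J, ∃ g ∈ M, MonoOf π g

/-- Rank one slots on S, identities elsewhere. -/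
def PureOn (T : J → ((Fin k → F) →ₗ[F] Fin k → F)) (S : Finset J) : Prop :=
  (∀ j ∈ S, ∃ c, c ≠ 0 ∧ T j = Nc hf c) ∧ ∀ j, j ∉ S → T j = LinearMap.id

/-- Good slots on S, identities elsewhere. -/
def GoodOn (T : J → ((Fin k → F) →ₗ[F] Fin k → F)) (S : Finset J) : Prop :=
  (∀ j ∈ S, Good hf (T j)) ∧ ∀ j, j ∉ S → T j = LinearMap.id

theorem PureOn.good {T : J → ((Fin k → F) →ₗ[F] Fin k → F)} {S : Finset J} (h : PureOn hf T S) :
    GoodOn hf T S :=
  ⟨fun j hj => Or.inl (h.1 j hj), h.2⟩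

theorem GoodOn.slot {T : J → ((Fin k → F) →ₗ[F] Fin k → F)} {S : Finset J} (h : GoodOn hf T S) (j : J) :
    Slot hf (T j) := by
  by_cases hj : j ∈ S
  · exact Or.inl (h.1 j hj)
  · exact Or.inr (h.2 j hj)

/-- A rank two operator times rank one operators on all factors. -/
def Target (M : Subgroup (GL (J → Fin k) F)) : Prop :=
  ∃ (l : J) (x : J → Fin k → F) (d : Fin k → F), (∀ j, x j ≠ 0) ∧ d ∉ Submodule.span F {x l} ∧
    f d (x l) = 0 ∧ Mem M (Function.update (fun j => Nc hf (x j)) l (Kp hf (x l) d))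

variable {M : Subgroup (GL (J → Fin k) F)}

theorem target_of {T : J → ((Fin k → F) →ₗ[F] Fin k → F)} (hT : Mem M T) {l : J}
    (hN : ∀ j, j ≠ l → ∃ c, c ≠ 0 ∧ T j = Nc hf c) {c d : Fin k → F} (hc : c ≠ 0)
    (hd : d ∉ Submodule.span F {c}) (hdc : f d c = 0) (hl : T l = Kp hf c d) : Target hf M := by
  have h' : ∀ j, ∃ x, x ≠ 0 ∧ if j = l then x = c else T j = Nc hf x := fun j => by
    by_cases hj : j = l
    · exact ⟨c, hc, by rw [if_pos hj]⟩
    · obtain ⟨x, hx, hx'⟩ := hN j hj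
      exact ⟨x, hx, by rw [if_neg hj]; exact hx'⟩
  choose x hx hx' using h'
  have hxl : x l = c := by simpa using hx' l
  refine ⟨l, x, d, hx, by rwa [hxl], by rwa [hxl], ?_⟩
  convert hT using 1
  funext j
  by_cases hj : j = l
  · subst hj; rw [Function.update_self, hxl, hl]
  · rw [Function.update_of_ne hj]
    have := hx' j
    rw [if_neg hj] at this
    exact this.symm

/-- Isometries pairing the slots of a pure displacement. -/
theorem exists_pairs (C : GCtx (f := f) M) (T : J → ((Fin k → F) →ₗ[F] Fin k → F)) :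
    ∃ B : J → GL (Fin k) F, ∀ j, B j ∈ Iso f ∧ (Good hf (T j) → Sq hf (T j) (cj (B j) (T j))) := by
  have h : ∀ j, ∃ b ∈ Iso f, Good hf (T j) → Sq hf (T j) (cj b (T j)) := fun j => by
    by_cases hj : Good hf (T j)
    · obtain ⟨b, hb, h⟩ := exists_sq hf C.hk hj
      exact ⟨b, hb, fun _ => h⟩
    · exact ⟨1, one_mem _, fun h => absurd h hj⟩
  choose B hB hB' using h
  exact ⟨B, fun j => ⟨hB j, hB' j⟩⟩

theorem neg_one_pow_erase {S : Finset J} {a : J} (ha : a ∈ S) :
    (-1 : F) ^ (S.erase a).card = -(-1) ^ S.card := by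
  rw [← Finset.card_erase_add_one ha, pow_succ]; ring

/-- One move: an even support grows by one and becomes pure. -/
theorem grow_one (C : GCtx (f := f) M) (h2 : (2 : F) ≠ 0) {T : J → ((Fin k → F) →ₗ[F] Fin k → F)} {S : Finset J}
    (hT : Mem M T) (hS : GoodOn hf T S) (hev : Even S.card) {a v : J} (ha : a ∈ S) (hv : v ∉ S)
    {c : Fin k → F} (hc : c ≠ 0) (haT : T a = Nc hf c) :
    ∃ T', Mem M T' ∧ PureOn hf T' (insert v S) := by
  obtain ⟨B₀, hB₀⟩ := exists_pairs hf C T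
  have hav : a ≠ v := ne_of_mem_of_not_mem ha hv
  set U := S.erase a with hU
  set B : J → GL (Fin k) F := fun j => if j ∈ U then B₀ j else 1 with hB
  set T' := fun j => cj (B j) (T (Equiv.swap a v j)) with hT'
  have h3 : 3 ≤ Fintype.card J := by
    have h1 := Finset.card_le_univ (insert v S)
    rw [Finset.card_insert_of_notMem hv] at h1
    have h0 : 0 < S.card := Finset.card_pos.2 ⟨a, ha⟩
    obtain ⟨r, hr⟩ := hev
    omega
  have hT'mem : Mem M T' := mem_move hf C.hk0 C.facs C.pres (C.mono (Or.inr h3) _) hT (hS.slot hf) B fun j => by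
    simp only [hB]; split
    · exact (hB₀ j).1
    · exact one_mem _
  have hvU : v ∉ U := fun h => hv (Finset.mem_of_mem_erase h)
  have hTa : T' a = LinearMap.id := by simp only [hT', Equiv.swap_apply_left, hS.2 v hv, cj_id]
  have hTv : T' v = Nc hf c := by
    simp only [hT', Equiv.swap_apply_right, haT, hB, if_neg hvU, cj_one]
  have hTo : ∀ j, j ≠ a → j ≠ v → T' j = cj (B j) (T j) := fun j h1 h2' => by
    simp only [hT', Equiv.swap_apply_of_ne_of_ne h1 h2']
  have hout : ∀ j, j ∉ U → j ≠ a → j ≠ v → T j = LinearMap.id ∧ T' j = LinearMap.id := fun j h1 h2' h3 => by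
    have := hS.2 j fun h => h1 (Finset.mem_erase.2 ⟨h2', h⟩)
    exact ⟨this, by rw [hTo j h2' h3, this, cj_id]⟩
  have hsq : Nc hf c ∘ₗ Nc hf c = 0 := Good.sq hf (Or.inl ⟨c, hc, rfl⟩)
  obtain ⟨y, hy, hY⟩ := union_full hf C.facs hT hT'mem (a := a) hc (e := 1) (e' := 1)
    (by rw [haT, hTa, one_smul, LinearMap.comp_id]) (by rw [haT, hTa, one_smul, LinearMap.id_comp])
    ⟨a, by rw [haT, hsq]⟩ ⟨v, by rw [hTv, hsq]⟩ ⟨a, by rw [haT, hTa, LinearMap.id_comp, hsq]⟩
    ⟨v, by rw [hTv, hS.2 v hv, LinearMap.id_comp, hsq]⟩ U (Finset.notMem_erase a S)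
    (fun j hj => by
      obtain ⟨hja, hjS⟩ := Finset.mem_erase.1 hj
      rw [hTo j hja (ne_of_mem_of_not_mem hjS hv)]
      simp only [hB, if_pos hj]
      exact (hB₀ j).2 (hS.1 j hjS))
    (fun j hj hja => by
      by_cases hjv : j = v
      · subst hjv; rw [hS.2 j hv, LinearMap.id_comp, LinearMap.comp_id]
      · obtain ⟨e1, e2⟩ := hout j hj hja hjv
        rw [e1, e2])
    (by rw [neg_one_pow_erase hf ha, hev.neg_one_pow]; intro h; exact h2 (by linear_combination h))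
  refine ⟨_, hY, fun j hj => ?_, fun j hj => ?_⟩ <;> beta_reduce
  · by_cases hja : j = a
    · exact ⟨c, hc, if_pos hja⟩
    · rw [if_neg hja]
      by_cases hjU : j ∈ U
      · exact ⟨y j, hy j hjU, if_pos hjU⟩
      · rw [if_neg hjU]
        have hjv : j = v := (Finset.mem_insert.1 hj).resolve_right fun h => hjU (Finset.mem_erase.2 ⟨hja, h⟩)
        exact ⟨c, hc, by rw [hjv, hS.2 v hv, hTv, LinearMap.id_comp]⟩
  · rw [Finset.mem_insert, not_or] at hj
    have hja : j ≠ a := fun h => hj.2 (h ▸ ha)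
    have hjU : j ∉ U := fun h => hj.2 (Finset.mem_of_mem_erase h)
    obtain ⟨e1, e2⟩ := hout j hjU hja hj.1
    rw [if_neg hja, if_neg hjU, e1, e2, LinearMap.id_comp]

/-- Two moves: an odd pure support grows by two. -/
theorem grow_two (C : GCtx (f := f) M) (h2 : (2 : F) ≠ 0) {T : J → ((Fin k → F) →ₗ[F] Fin k → F)} {S : Finset J}
    (hT : Mem M T) (hS : PureOn hf T S) (hodd : Odd S.card) {a b v w : J} (ha : a ∈ S) (hb : b ∈ S)
    (hab : a ≠ b) (hv : v ∉ S) (hw : w ∉ S) (hvw : v ≠ w) :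
    ∃ T', Mem M T' ∧ PureOn hf T' (insert v (insert w S)) := by
  obtain ⟨B₀, hB₀⟩ := exists_pairs hf C T
  obtain ⟨c, hc, haT⟩ := hS.1 a ha
  obtain ⟨c', hc', hbT⟩ := hS.1 b hb
  have hav : a ≠ v := ne_of_mem_of_not_mem ha hv
  have haw : a ≠ w := ne_of_mem_of_not_mem ha hw
  have hbv : b ≠ v := ne_of_mem_of_not_mem hb hv
  have hbw : b ≠ w := ne_of_mem_of_not_mem hb hw
  set U := (S.erase a).erase b with hU
  set B : J → GL (Fin k) F := fun j => if j ∈ U then B₀ j else 1 with hB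
  set π : Equiv.Perm J := Equiv.swap a v * Equiv.swap b w with hπ
  set T' := fun j => cj (B j) (T (π j)) with hT'
  have h3 : 3 ≤ Fintype.card J := by
    refine le_trans ?_ (Finset.card_le_univ ({a, v, w} : Finset J))
    rw [Finset.card_eq_three.2 ⟨a, v, w, hav, haw, hvw, rfl⟩]
  have hT'mem : Mem M T' := mem_move hf C.hk0 C.facs C.pres (C.mono (Or.inr h3) _) hT ((hS.good hf).slot hf) B
    fun j => by
    simp only [hB]; split
    · exact (hB₀ j).1
    · exact one_mem _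
  have hUS : ∀ j ∈ U, j ≠ a ∧ j ≠ b ∧ j ∈ S := fun j hj => by
    obtain ⟨h1, h2'⟩ := Finset.mem_erase.1 hj
    obtain ⟨h3, h4⟩ := Finset.mem_erase.1 h2'
    exact ⟨h3, h1, h4⟩
  have hvU : v ∉ U := fun h => hv (hUS v h).2.2
  have hwU : w ∉ U := fun h => hw (hUS w h).2.2
  have hTa : T' a = LinearMap.id := by
    simp only [hT', hπ, Equiv.Perm.mul_apply, Equiv.swap_apply_of_ne_of_ne hab haw, Equiv.swap_apply_left,
      hS.2 v hv, cj_id]
  have hTb : T' b = LinearMap.id := by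
    simp only [hT', hπ, Equiv.Perm.mul_apply, Equiv.swap_apply_left,
      Equiv.swap_apply_of_ne_of_ne haw.symm hvw.symm, hS.2 w hw, cj_id]
  have hTv : T' v = Nc hf c := by
    simp only [hT', hπ, Equiv.Perm.mul_apply, Equiv.swap_apply_of_ne_of_ne hbv.symm hvw, Equiv.swap_apply_right,
      haT, hB, if_neg hvU, cj_one]
  have hTw : T' w = Nc hf c' := by
    simp only [hT', hπ, Equiv.Perm.mul_apply, Equiv.swap_apply_right,
      Equiv.swap_apply_of_ne_of_ne hab.symm hbv, hbT, hB, if_neg hwU, cj_one]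
  have hTo : ∀ j, j ≠ a → j ≠ b → j ≠ v → j ≠ w → T' j = cj (B j) (T j) := fun j h1 h2' h3 h4 => by
    simp only [hT', hπ, Equiv.Perm.mul_apply, Equiv.swap_apply_of_ne_of_ne h2' h4,
      Equiv.swap_apply_of_ne_of_ne h1 h3]
  have hout : ∀ j, j ∉ U → j ≠ a → j ≠ b → j ≠ v → j ≠ w → T j = LinearMap.id ∧ T' j = LinearMap.id :=
    fun j h1 h2' h3 h4 h5 => by
      have := hS.2 j fun h => h1 (Finset.mem_erase.2 ⟨h3, Finset.mem_erase.2 ⟨h2', h⟩⟩)
      exact ⟨this, by rw [hTo j h2' h3 h4 h5, this, cj_id]⟩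
  have hsq : Nc hf c ∘ₗ Nc hf c = 0 := Good.sq hf (Or.inl ⟨c, hc, rfl⟩)
  obtain ⟨y, hy, hY⟩ := union_full hf C.facs hT hT'mem (a := a) hc (e := 1) (e' := 1)
    (by rw [haT, hTa, one_smul, LinearMap.comp_id]) (by rw [haT, hTa, one_smul, LinearMap.id_comp])
    ⟨a, by rw [haT, hsq]⟩ ⟨v, by rw [hTv, hsq]⟩ ⟨a, by rw [haT, hTa, LinearMap.id_comp, hsq]⟩
    ⟨v, by rw [hTv, hS.2 v hv, LinearMap.id_comp, hsq]⟩ U (fun h => (hUS a h).1 rfl)
    (fun j hj => by
      obtain ⟨hja, hjb, hjS⟩ := hUS j hj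
      rw [hTo j hja hjb (ne_of_mem_of_not_mem hjS hv) (ne_of_mem_of_not_mem hjS hw)]
      simp only [hB, if_pos hj]
      exact (hB₀ j).2 ((hS.good hf).1 j hjS))
    (fun j hj hja => by
      by_cases hjb : j = b
      · subst hjb; rw [hTb, LinearMap.id_comp, LinearMap.comp_id]
      by_cases hjv : j = v
      · subst hjv; rw [hS.2 j hv, LinearMap.id_comp, LinearMap.comp_id]
      by_cases hjw : j = w
      · subst hjw; rw [hS.2 j hw, LinearMap.id_comp, LinearMap.comp_id]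
      obtain ⟨e1, e2⟩ := hout j hj hja hjb hjv hjw
      rw [e1, e2])
    (by rw [neg_one_pow_erase hf (Finset.mem_erase.2 ⟨hab.symm, hb⟩), neg_one_pow_erase hf ha, hodd.neg_one_pow]
        intro h; exact h2 (by linear_combination h))
  refine ⟨_, hY, fun j hj => ?_, fun j hj => ?_⟩ <;> beta_reduce
  · by_cases hja : j = a
    · exact ⟨c, hc, if_pos hja⟩
    · rw [if_neg hja]
      by_cases hjU : j ∈ U
      · exact ⟨y j, hy j hjU, if_pos hjU⟩
      · rw [if_neg hjU]
        by_cases hjb : j = b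
        · exact ⟨c', hc', by rw [hjb, hTb, hbT, LinearMap.comp_id]⟩
        rcases Finset.mem_insert.1 hj with rfl | hj
        · exact ⟨c, hc, by rw [hS.2 j hv, hTv, LinearMap.id_comp]⟩
        rcases Finset.mem_insert.1 hj with rfl | hj
        · exact ⟨c', hc', by rw [hS.2 j hw, hTw, LinearMap.id_comp]⟩
        · exact absurd (Finset.mem_erase.2 ⟨hjb, Finset.mem_erase.2 ⟨hja, hj⟩⟩) hjU
  · simp only [Finset.mem_insert, not_or] at hj
    have hja : j ≠ a := fun h => hj.2.2 (h ▸ ha)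
    have hjb : j ≠ b := fun h => hj.2.2 (h ▸ hb)
    have hjU : j ∉ U := fun h => hj.2.2 (hUS j h).2.2
    obtain ⟨e1, e2⟩ := hout j hjU hja hjb hj.1 hj.2.1
    rw [if_neg hja, if_neg hjU, e1, e2, LinearMap.id_comp]

/-- One move with a free slot. -/
theorem grow_slot (C : GCtx (f := f) M) (hk4 : 4 ≤ k) {T : J → ((Fin k → F) →ₗ[F] Fin k → F)} {S : Finset J}
    (hT : Mem M T) (hS : GoodOn hf T S) (hs : (-1 : F) ^ S.card = -1) {a m v : J} (ha : a ∈ S) (hm : m ∈ S)
    (hma : m ≠ a) (hv : v ∉ S) {c : Fin k → F} (hc : c ≠ 0) (haT : T a = Nc hf c)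
    (hns : 6 ≤ k ∨ ∃ x, x ≠ 0 ∧ T m = Nc hf x) :
    ∃ T', Mem M T' ∧ GoodOn hf T' (insert v S) ∧ ∀ j ∈ insert v S, j ≠ m → ∃ x, x ≠ 0 ∧ T' j = Nc hf x := by
  obtain ⟨B₀, hB₀⟩ := exists_pairs hf C T
  obtain ⟨bm, hbm, Am, rfl, hY0, hYns⟩ := exists_sym hf (hS.1 m hm) hk4
  have hav : a ≠ v := ne_of_mem_of_not_mem ha hv
  have hmv : m ≠ v := ne_of_mem_of_not_mem hm hv
  set U := (S.erase a).erase m with hU
  set B : J → GL (Fin k) F := fun j => if j = m then bm else if j ∈ U then B₀ j else 1 with hB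
  set T' := fun j => cj (B j) (T (Equiv.swap a v j)) with hT'
  have h3 : 3 ≤ Fintype.card J := by
    refine le_trans ?_ (Finset.card_le_univ ({a, m, v} : Finset J))
    rw [Finset.card_eq_three.2 ⟨a, m, v, hma.symm, hav, hmv, rfl⟩]
  have hT'mem : Mem M T' := mem_move hf C.hk0 C.facs C.pres (C.mono (Or.inr h3) _) hT (hS.slot hf) B fun j => by
    simp only [hB]; split_ifs
    · exact hbm
    · exact (hB₀ j).1
    · exact one_mem _
  have hUS : ∀ j ∈ U, j ≠ a ∧ j ≠ m ∧ j ∈ S := fun j hj => by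
    obtain ⟨h1, h2'⟩ := Finset.mem_erase.1 hj
    obtain ⟨h3, h4⟩ := Finset.mem_erase.1 h2'
    exact ⟨h3, h1, h4⟩
  have hvU : v ∉ U := fun h => hv (hUS v h).2.2
  have hTa : T' a = LinearMap.id := by simp only [hT', Equiv.swap_apply_left, hS.2 v hv, cj_id]
  have hTv : T' v = Nc hf c := by
    simp only [hT', Equiv.swap_apply_right, haT, hB, if_neg hmv.symm, if_neg hvU, cj_one]
  have hTm : T' m = cj bm (T m) := by
    simp only [hT', Equiv.swap_apply_of_ne_of_ne hma hmv, hB, if_true]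
  have hTo : ∀ j, j ≠ a → j ≠ v → T' j = cj (B j) (T j) := fun j h1 h2' => by
    simp only [hT', Equiv.swap_apply_of_ne_of_ne h1 h2']
  have hout : ∀ j, j ∉ U → j ≠ a → j ≠ m → j ≠ v → T j = LinearMap.id ∧ T' j = LinearMap.id :=
    fun j h1 h2' h3 h4 => by
      have := hS.2 j fun h => h1 (Finset.mem_erase.2 ⟨h3, Finset.mem_erase.2 ⟨h2', h⟩⟩)
      exact ⟨this, by rw [hTo j h2' h4, this, cj_id]⟩
  have hsq : Nc hf c ∘ₗ Nc hf c = 0 := Good.sq hf (Or.inl ⟨c, hc, rfl⟩)
  obtain ⟨y, D, hy, hD, hY⟩ := union_slot hf C.hk0 C.hk C.facs hT hT'mem (a := a) (m := m) hc (e := 1) (e' := 1)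
    one_ne_zero (by rw [haT, hTa, one_smul, LinearMap.comp_id]) (by rw [haT, hTa, one_smul, LinearMap.id_comp])
    ⟨a, by rw [haT, hsq]⟩ ⟨v, by rw [hTv, hsq]⟩ ⟨a, by rw [haT, hTa, LinearMap.id_comp, hsq]⟩
    ⟨v, by rw [hTv, hS.2 v hv, LinearMap.id_comp, hsq]⟩ U (fun h => (hUS a h).1 rfl) (fun h => (hUS m h).2.1 rfl)
    hma
    (fun j hj => by
      obtain ⟨hja, hjm, hjS⟩ := hUS j hj
      rw [hTo j hja (ne_of_mem_of_not_mem hjS hv)]
      simp only [hB, if_neg hjm, if_pos hj]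
      exact (hB₀ j).2 (hS.1 j hjS))
    (fun j hj hja hjm => by
      by_cases hjv : j = v
      · subst hjv
        rw [hS.2 j hv, LinearMap.id_comp, LinearMap.comp_id, hTv]
        exact ⟨rfl, Good.ne_zero hf (Or.inl ⟨c, hc, rfl⟩)⟩
      · obtain ⟨e1, e2⟩ := hout j hj hja hjm hjv
        rw [e1, e2]
        exact ⟨rfl, by rw [LinearMap.id_comp]; exact Slot.ne_zero hf C.hk0 (Or.inr rfl)⟩)
    (by rw [neg_one_pow_erase hf (Finset.mem_erase.2 ⟨hma, hm⟩), neg_one_pow_erase hf ha, hs]; ring)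
    (by rw [hTm]; exact hY0)
  have hD' : Good hf D := by
    rcases hD with h | ⟨-, s, hs'⟩
    · exact h
    · rw [hTm] at hs'; exact absurd hs' (hYns hns s)
  have hN : ∀ j ∈ insert v S, j ≠ m → ∃ x, x ≠ 0 ∧
      (if j = a then Nc hf c else if j = m then D else if j ∈ U then Nc hf (y j) else T j ∘ₗ T' j) = Nc hf x := by
    intro j hj hjm
    by_cases hja : j = a
    · exact ⟨c, hc, if_pos hja⟩
    · rw [if_neg hja, if_neg hjm]
      by_cases hjU : j ∈ U
      · exact ⟨y j, hy j hjU, if_pos hjU⟩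
      · rw [if_neg hjU]
        have hjv : j = v := (Finset.mem_insert.1 hj).resolve_right fun h =>
          hjU (Finset.mem_erase.2 ⟨hjm, Finset.mem_erase.2 ⟨hja, h⟩⟩)
        exact ⟨c, hc, by rw [hjv, hS.2 v hv, hTv, LinearMap.id_comp]⟩
  refine ⟨_, hY, ⟨fun j hj => ?_, fun j hj => ?_⟩, hN⟩ <;> beta_reduce
  · by_cases hjm : j = m
    · subst hjm; simpa [hma] using hD'
    · exact Or.inl (hN j hj hjm)
  · rw [Finset.mem_insert, not_or] at hj
    have hja : j ≠ a := fun h => hj.2 (h ▸ ha)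
    have hjm : j ≠ m := fun h => hj.2 (h ▸ hm)
    have hjU : j ∉ U := fun h => hj.2 (hUS j h).2.2
    obtain ⟨e1, e2⟩ := hout j hjU hja hjm hj.1
    rw [if_neg hja, if_neg hjm, if_neg hjU, e1, e2, LinearMap.id_comp]

theorem not_pure_kp {A : (Fin k → F) →ₗ[F] Fin k → F} (hA : Good hf A) (h : ¬ ∃ c, c ≠ 0 ∧ A = Nc hf c) :
    4 ≤ k ∧ ∃ c d, c ≠ 0 ∧ d ∉ Submodule.span F {c} ∧ f d c = 0 ∧ A = Kp hf c d := by
  rcases hA with h' | ⟨c, d, hc, hd, hdc, rfl⟩
  · exact absurd h' h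
  · exact ⟨by simpa using TensorMax.S.four_of_orth hf hc hd hdc, c, d, hc, hd, hdc, rfl⟩

/-- An odd support with a rank two slot becomes pure. -/
theorem self_full (C : GCtx (f := f) M) (h2 : (2 : F) ≠ 0) {T : J → ((Fin k → F) →ₗ[F] Fin k → F)} {S : Finset J}
    (hT : Mem M T) (hS : GoodOn hf T S) (hodd : Odd S.card) {u : J} (hu : u ∈ S) {c d : Fin k → F} (hc : c ≠ 0)
    (hd : d ∉ Submodule.span F {c}) (hdc : f d c = 0) (huT : T u = Kp hf c d) :
    ∃ T', Mem M T' ∧ PureOn hf T' S := by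
  obtain ⟨B₀, hB₀⟩ := exists_pairs hf C T
  obtain ⟨b, hb, A', rfl, p1, p2, p3, p4⟩ := Kp_pair hf hc hd hdc
  set B : J → GL (Fin k) F := fun j => if j = u then b else B₀ j with hB
  set T' := fun j => cj (B j) (T j) with hT'
  have hT'mem : Mem M T' := mem_move hf C.hk0 C.facs C.pres (π := 1) ⟨1, M.one_mem, monoOf_one⟩ hT (hS.slot hf) B fun j => by
    simp only [hB]; split
    · exact hb
    · exact (hB₀ j).1
  have hTu : T' u = cj b (Kp hf c d) := by simp only [hT', hB, if_true, huT]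
  have hg : Good hf (Kp hf c d) := Or.inr ⟨c, d, hc, hd, hdc, rfl⟩
  obtain ⟨y, hy, hY⟩ := union_full hf C.facs hT hT'mem (a := u) (c := d) (fun h => hd (h ▸ zero_mem _))
    (e := -1) (e' := 1) (by rw [huT, hTu]; refine p1.trans ?_; module) (by rw [huT, hTu, one_smul]; exact p2)
    ⟨u, by rw [huT, hg.sq hf]⟩ ⟨u, by rw [hTu]; exact (hg.conj hf hb).sq hf⟩
    ⟨u, by rw [huT, hTu]; exact p3⟩ ⟨u, by rw [huT, hTu]; exact p4⟩ (S.erase u) (Finset.notMem_erase u S)
    (fun j hj => by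
      obtain ⟨hju, hjS⟩ := Finset.mem_erase.1 hj
      simp only [hT', hB, if_neg hju]
      exact (hB₀ j).2 (hS.1 j hjS))
    (fun j hj hju => by
      have := hS.2 j fun h => hj (Finset.mem_erase.2 ⟨hju, h⟩)
      simp only [hT', this, cj_id])
    (by rw [neg_one_pow_erase hf hu, hodd.neg_one_pow]; intro h; exact h2 (by linear_combination -h))
  refine ⟨_, hY, fun j hj => ?_, fun j hj => ?_⟩ <;> beta_reduce
  · by_cases hju : j = u
    · exact ⟨d, fun h => hd (h ▸ zero_mem _), if_pos hju⟩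
    · exact ⟨y j, hy j (Finset.mem_erase.2 ⟨hju, hj⟩),
        by rw [if_neg hju, if_pos (Finset.mem_erase.2 ⟨hju, hj⟩)]⟩
  · have hju : j ≠ u := fun h => hj (h ▸ hu)
    rw [if_neg hju, if_neg (fun h => hj (Finset.mem_of_mem_erase h))]
    simp only [hT', hS.2 j hj, cj_id, LinearMap.id_comp]

/-- A full support yields a target, or a pure one. -/
theorem full_case (C : GCtx (f := f) M) (h6 : 6 ≤ k ∨ (2 : F) ≠ 0) {T : J → ((Fin k → F) →ₗ[F] Fin k → F)}
    (hT : Mem M T) (hS : GoodOn hf T Finset.univ) (hs : (-1 : F) ^ Fintype.card J = 1) :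
    Target hf M ∨ (∃ T', Mem M T' ∧ PureOn hf T' Finset.univ) ∨
      ((2 : F) ≠ 0 ∧ ∃ (T' : J → ((Fin k → F) →ₗ[F] Fin k → F)) (m : J),
        Mem M T' ∧ PureOn hf T' (Finset.univ.erase m)) := by
  classical
  by_cases hall : ∀ j, ∃ c, c ≠ 0 ∧ T j = Nc hf c
  · exact Or.inr (Or.inl ⟨T, hT, fun j _ => hall j, fun j hj => absurd (Finset.mem_univ j) hj⟩)
  rw [not_forall] at hall
  obtain ⟨u, hu⟩ := hall
  obtain ⟨hk4, c, d, hc, hd, hdc, huT⟩ := not_pure_kp hf (hS.1 u (Finset.mem_univ u)) hu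
  by_cases hone : ∀ j, j ≠ u → ∃ x, x ≠ 0 ∧ T j = Nc hf x
  · exact Or.inl (target_of hf hT hone hc hd hdc huT)
  simp only [not_forall] at hone
  obtain ⟨m, hmu, hmN⟩ := hone
  obtain ⟨B₀, hB₀⟩ := exists_pairs hf C T
  obtain ⟨b, hb, A', rfl, p1, p2, p3, p4⟩ := Kp_pair hf hc hd hdc
  obtain ⟨bm, hbm, Am, rfl, hY0, hYns⟩ := exists_sym hf (hS.1 m (Finset.mem_univ m)) hk4
  set B : J → GL (Fin k) F := fun j => if j = u then b else if j = m then bm else B₀ j with hB
  set T' := fun j => cj (B j) (T j) with hT'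
  have hT'mem : Mem M T' := mem_move hf C.hk0 C.facs C.pres (π := 1) ⟨1, M.one_mem, monoOf_one⟩ hT (hS.slot hf) B fun j => by
    simp only [hB]; split_ifs
    · exact hb
    · exact hbm
    · exact (hB₀ j).1
  have hTu : T' u = cj b (Kp hf c d) := by simp only [hT', hB, if_true, huT]
  have hTm : T' m = cj bm (T m) := by simp only [hT', hB, if_neg hmu, if_true]
  have hg : Good hf (Kp hf c d) := Or.inr ⟨c, d, hc, hd, hdc, rfl⟩
  set U := (Finset.univ.erase u).erase m with hU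
  obtain ⟨y, D, hy, hD, hY⟩ := union_slot hf C.hk0 C.hk C.facs hT hT'mem (a := u) (m := m) (c := d)
    (fun h => hd (h ▸ zero_mem _)) (e := -1) (e' := 1) (neg_ne_zero.2 one_ne_zero)
    (by rw [huT, hTu]; refine p1.trans ?_; module) (by rw [huT, hTu, one_smul]; exact p2)
    ⟨u, by rw [huT, hg.sq hf]⟩ ⟨u, by rw [hTu]; exact (hg.conj hf hb).sq hf⟩
    ⟨u, by rw [huT, hTu]; exact p3⟩ ⟨u, by rw [huT, hTu]; exact p4⟩ U (by simp [hU]) (by simp [hU]) hmu
    (fun j hj => by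
      obtain ⟨hjm, hj'⟩ := Finset.mem_erase.1 hj
      obtain ⟨hju, -⟩ := Finset.mem_erase.1 hj'
      simp only [hT', hB, if_neg hju, if_neg hjm]
      exact (hB₀ j).2 (hS.1 j (Finset.mem_univ j)))
    (fun j hj hju hjm => absurd (by simp [hU, hju, hjm]) hj)
    (by
      rw [hU, neg_one_pow_erase hf (Finset.mem_erase.2 ⟨hmu, Finset.mem_univ m⟩),
        neg_one_pow_erase hf (Finset.mem_univ u), Finset.card_univ, hs]
      ring)
    (by rw [hTm]; exact hY0)
  have hR : ∀ j, j ≠ m → ∃ x, x ≠ 0 ∧ (if j = u then Nc hf d else if j = m then D else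
      if j ∈ U then Nc hf (y j) else T j ∘ₗ T' j) = Nc hf x := by
    intro j hjm
    by_cases hju : j = u
    · exact ⟨d, fun h => hd (h ▸ zero_mem _), if_pos hju⟩
    · have hjU : j ∈ U := by simp [hU, hju, hjm]
      exact ⟨y j, hy j hjU, by rw [if_neg hju, if_neg hjm, if_pos hjU]⟩
  rcases hD with hD | ⟨rfl, s, hs'⟩
  · rcases hD with ⟨x, hx, rfl⟩ | ⟨c', d', hc', hd', hdc', rfl⟩
    · refine Or.inr (Or.inl ⟨_, hY, fun j _ => ?_, fun j hj => absurd (Finset.mem_univ j) hj⟩)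
      by_cases hjm : j = m
      · subst hjm; exact ⟨x, hx, by simp [hmu]⟩
      · exact hR j hjm
    · exact Or.inl (target_of hf hY hR hc' hd' hdc' (by rw [if_neg hmu, if_pos rfl]))
  · refine Or.inr (Or.inr ⟨h6.resolve_left fun h => ?_, _, m, hY, fun j hj => hR j (Finset.ne_of_mem_erase hj),
      fun j hj => ?_⟩)
    · rw [hTm] at hs'; exact hYns (Or.inl h) s hs'
    · obtain rfl : j = m := by simpa using hj
      simp [hmu]

/-- A start in odd characteristic: a pure odd support, or a full one. -/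
theorem pure_start (C : GCtx (f := f) M) (h2 : (2 : F) ≠ 0) {T : J → ((Fin k → F) →ₗ[F] Fin k → F)} {S : Finset J}
    (hT : Mem M T) (hS : GoodOn hf T S) (hn : 2 ≤ S.card) {a : J} (ha : a ∈ S) {c : Fin k → F} (hc : c ≠ 0)
    (haT : T a = Nc hf c) :
    (∃ T' S', Mem M T' ∧ PureOn hf T' S' ∧ Odd S'.card ∧ 3 ≤ S'.card) ∨ (S = Finset.univ ∧ Even S.card) := by
  classical
  rcases Nat.even_or_odd S.card with hev | hodd
  · by_cases huniv : S = Finset.univ
    · exact Or.inr ⟨huniv, hev⟩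
    obtain ⟨v, hv⟩ : ∃ v, v ∉ S := by
      by_contra hcon
      push Not at hcon
      exact huniv (Finset.eq_univ_of_forall hcon)
    obtain ⟨T', hT', hP⟩ := grow_one hf C h2 hT hS hev ha hv hc haT
    exact Or.inl ⟨T', _, hT', hP, by rw [Finset.card_insert_of_notMem hv]; exact hev.add_one,
      by rw [Finset.card_insert_of_notMem hv]; omega⟩
  · have h3 : 3 ≤ S.card := by
      obtain ⟨r, hr⟩ := hodd
      omega
    by_cases hall : ∀ j ∈ S, ∃ x, x ≠ 0 ∧ T j = Nc hf x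
    · exact Or.inl ⟨T, S, hT, ⟨hall, hS.2⟩, hodd, h3⟩
    simp only [not_forall] at hall
    obtain ⟨u, hu, huN⟩ := hall
    obtain ⟨-, c', d', hc', hd', hdc', huT⟩ := not_pure_kp hf (hS.1 u hu) huN
    obtain ⟨T', hT', hP⟩ := self_full hf C h2 hT hS hodd hu hc' hd' hdc' huT
    exact Or.inl ⟨T', S, hT', hP, hodd, h3⟩

/-- A pure odd support grows as long as two factors are free. -/
theorem pure_grow (C : GCtx (f := f) M) (h2 : (2 : F) ≠ 0) {T : J → ((Fin k → F) →ₗ[F] Fin k → F)} {S : Finset J}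
    (hT : Mem M T) (hS : PureOn hf T S) (hodd : Odd S.card) (h3 : 3 ≤ S.card) :
    ∃ T' S', Mem M T' ∧ PureOn hf T' S' ∧ Odd S'.card ∧ 3 ≤ S'.card ∧ Fintype.card J < S'.card + 2 := by
  classical
  suffices H : ∀ (d : ℕ) (T : J → ((Fin k → F) →ₗ[F] Fin k → F)) (S : Finset J), Mem M T → PureOn hf T S →
      Odd S.card → 3 ≤ S.card → Fintype.card J ≤ S.card + d →
      ∃ T' S', Mem M T' ∧ PureOn hf T' S' ∧ Odd S'.card ∧ 3 ≤ S'.card ∧ Fintype.card J < S'.card + 2 by
    exact H _ T S hT hS hodd h3 (Nat.le_add_left _ _)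
  intro d
  induction d using Nat.strong_induction_on with
  | _ d ih =>
    intro T S hT hS hodd h3 hd
    by_cases hbig : Fintype.card J < S.card + 2
    · exact ⟨T, S, hT, hS, hodd, h3, hbig⟩
    obtain ⟨v, hv, w, hw, hvw⟩ := Finset.one_lt_card.1 (show 1 < Sᶜ.card by rw [Finset.card_compl]; omega)
    rw [Finset.mem_compl] at hv hw
    obtain ⟨a, ha, b, hb, hab⟩ := Finset.one_lt_card.1 (show 1 < S.card by omega)
    obtain ⟨T', hT', hP⟩ := grow_two hf C h2 hT hS hodd ha hb hab hv hw hvw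
    have hcard : (insert v (insert w S)).card = S.card + 2 := by
      rw [Finset.card_insert_of_notMem (by simp [hvw, hv]), Finset.card_insert_of_notMem hw]
    exact ih (d - 2) (by omega) T' _ hT' hP (by rw [hcard]; exact hodd.add_even even_two)
      (by omega) (by omega)

/-- An odd number of factors: a pure displacement on all of them. -/
theorem pure_univ_of_odd (C : GCtx (f := f) M) (h2 : (2 : F) ≠ 0) (hJ : Odd (Fintype.card J))
    {T : J → ((Fin k → F) →ₗ[F] Fin k → F)} {S : Finset J} (hT : Mem M T) (hS : GoodOn hf T S) (hn : 2 ≤ S.card)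
    {a : J} (ha : a ∈ S) {c : Fin k → F} (hc : c ≠ 0) (haT : T a = Nc hf c) :
    ∃ T', Mem M T' ∧ PureOn hf T' Finset.univ := by
  rcases pure_start hf C h2 hT hS hn ha hc haT with ⟨T', S', hT', hP, hodd, h3⟩ | ⟨hu, hev⟩
  · obtain ⟨T'', S'', hT'', hP', hodd', -, hbig⟩ := pure_grow hf C h2 hT' hP hodd h3
    refine ⟨T'', hT'', ?_⟩
    have : S'' = Finset.univ := (Finset.card_eq_iff_eq_univ S'').1 (by
      have := S''.card_le_univ
      obtain ⟨p, hp⟩ := hJ
      obtain ⟨q, hq⟩ := hodd'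
      omega)
    rwa [this] at hP'
  · rw [hu, Finset.card_univ] at hev
    exact absurd hev (Nat.not_even_iff_odd.2 hJ)

/-- An even number of factors in odd characteristic. -/
theorem target_of_odd_char (C : GCtx (f := f) M) (h2 : (2 : F) ≠ 0) (hJ : Even (Fintype.card J))
    (hNo : ∀ T, Mem M T → ¬ PureOn hf T Finset.univ)
    {T : J → ((Fin k → F) →ₗ[F] Fin k → F)} {S : Finset J} (hT : Mem M T) (hS : GoodOn hf T S) (hn : 2 ≤ S.card)
    {a : J} (ha : a ∈ S) {c : Fin k → F} (hc : c ≠ 0) (haT : T a = Nc hf c) :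
    Target hf M ∨ (k = 2 ∧ ∃ (T' : J → ((Fin k → F) →ₗ[F] Fin k → F)) (m : J),
      Mem M T' ∧ PureOn hf T' (Finset.univ.erase m)) := by
  classical
  have hlast : ∀ (T' : J → ((Fin k → F) →ₗ[F] Fin k → F)) (v : J), Mem M T' →
      PureOn hf T' (Finset.univ.erase v) → 2 ≤ (Finset.univ.erase v).card →
      Target hf M ∨ (k = 2 ∧ ∃ (T' : J → ((Fin k → F) →ₗ[F] Fin k → F)) (m : J),
        Mem M T' ∧ PureOn hf T' (Finset.univ.erase m)) := by
    intro T' v hT' hP h2'
    by_cases hk4 : 4 ≤ k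
    · obtain ⟨a', ha', m, hm, ham⟩ := Finset.one_lt_card.1 (show 1 < (Finset.univ.erase v).card by omega)
      obtain ⟨c', hc', haT'⟩ := hP.1 a' ha'
      obtain ⟨T'', hT'', hG, hN⟩ := grow_slot hf C hk4 hT' (hP.good hf)
        (by rw [neg_one_pow_erase hf (Finset.mem_univ v), Finset.card_univ, hJ.neg_one_pow])
        ha' hm ham.symm (Finset.notMem_erase v _) hc' haT' (Or.inr (hP.1 m hm))
      have hins : insert v (Finset.univ.erase v) = Finset.univ := Finset.insert_erase (Finset.mem_univ v)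
      rw [hins] at hG hN
      rcases hG.1 m (Finset.mem_univ m) with ⟨x, hx, hmT⟩ | ⟨c₁, d₁, hc₁, hd₁, hdc₁, hmT⟩
      · refine absurd ⟨fun j hj => ?_, fun j hj => absurd (Finset.mem_univ j) hj⟩ (hNo T'' hT'')
        by_cases hjm : j = m
        · exact ⟨x, hx, hjm ▸ hmT⟩
        · exact hN j hj hjm
      · exact Or.inl (target_of hf hT'' (fun j hj => hN j (Finset.mem_univ j) hj) hc₁ hd₁ hdc₁ hmT)
    · refine Or.inr ⟨?_, T', v, hT', hP⟩
      obtain ⟨p, hp⟩ := TensorMax.S.even_card hf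
      rw [Fintype.card_fin] at hp
      have := C.hk0
      omega
  rcases pure_start hf C h2 hT hS hn ha hc haT with ⟨T', S', hT', hP, hodd, h3⟩ | ⟨hu, -⟩
  · obtain ⟨T'', S'', hT'', hP', hodd', h3', hbig⟩ := pure_grow hf C h2 hT' hP hodd h3
    obtain ⟨v, hv⟩ : ∃ v, v ∉ S'' := by
      by_contra hcon
      push Not at hcon
      rw [Finset.eq_univ_of_forall hcon, Finset.card_univ] at hodd'
      exact Nat.not_even_iff_odd.2 hodd' hJ
    have hS'' : S'' = Finset.univ.erase v := Finset.eq_of_subset_of_card_le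
      (fun j hj => Finset.mem_erase.2 ⟨ne_of_mem_of_not_mem hj hv, Finset.mem_univ j⟩) (by
        rw [Finset.card_erase_of_mem (Finset.mem_univ v), Finset.card_univ]; omega)
    subst hS''
    exact hlast T'' v hT'' hP' (by omega)
  · subst hu
    by_cases hcard : Fintype.card J = 2
    · obtain ⟨l, hla⟩ : ∃ l, (Finset.univ.erase a) = {l} := Finset.card_eq_one.1 (by
        rw [Finset.card_erase_of_mem (Finset.mem_univ a), Finset.card_univ, hcard])
      have hj : ∀ j, j ≠ a → j = l := fun j hj => Finset.mem_singleton.1 (by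
        rw [← hla]; exact Finset.mem_erase.2 ⟨hj, Finset.mem_univ j⟩)
      rcases hS.1 l (Finset.mem_univ l) with ⟨x, hx, hlT⟩ | ⟨c₁, d₁, hc₁, hd₁, hdc₁, hlT⟩
      · refine absurd ⟨fun j _ => ?_, fun j hj' => absurd (Finset.mem_univ j) hj'⟩ (hNo T hT)
        by_cases hja : j = a
        · exact ⟨c, hc, hja ▸ haT⟩
        · exact ⟨x, hx, hj j hja ▸ hlT⟩
      · exact Or.inl (target_of hf hT (fun j hjl => ⟨c, hc, by
          have hja : j = a := by_contra fun h => hjl (hj j h)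
          rw [hja, haT]⟩) hc₁ hd₁ hdc₁ hlT)
    rcases full_case hf C (Or.inr h2) hT hS hJ.neg_one_pow with h | ⟨T', hT', hP⟩ | ⟨-, T', m, hT', hP⟩
    · exact Or.inl h
    · exact absurd hP (hNo T' hT')
    · refine hlast T' m hT' hP ?_
      rw [Finset.card_erase_of_mem (Finset.mem_univ m), Finset.card_univ]
      rw [Finset.card_univ] at hn
      omega

/-- Characteristic two. -/
theorem target_of_two (C : GCtx (f := f) M) (h2 : (2 : F) = 0) (h6 : 6 ≤ k)
    (hNo : ∀ T, Mem M T → ¬ PureOn hf T Finset.univ)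
    {T : J → ((Fin k → F) →ₗ[F] Fin k → F)} {S : Finset J} (hT : Mem M T) (hS : GoodOn hf T S) (hn : 2 ≤ S.card)
    {a : J} (ha : a ∈ S) {c : Fin k → F} (hc : c ≠ 0) (haT : T a = Nc hf c) : Target hf M := by
  classical
  have hone : (-1 : F) = 1 := by linear_combination -h2
  suffices H : ∀ (d : ℕ) (T : J → ((Fin k → F) →ₗ[F] Fin k → F)) (S : Finset J) (a : J) (c : Fin k → F),
      Mem M T → GoodOn hf T S → 2 ≤ S.card → a ∈ S → c ≠ 0 → T a = Nc hf c →
      Fintype.card J ≤ S.card + d → Target hf M by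
    exact H _ T S a c hT hS hn ha hc haT (Nat.le_add_left _ _)
  intro d
  induction d with
  | zero =>
    intro T S a c hT hS _ _ _ _ hd
    obtain rfl : S = Finset.univ := Finset.eq_univ_of_card S (le_antisymm S.card_le_univ hd)
    rcases full_case hf C (Or.inl h6) hT hS (by rw [hone, one_pow]) with h | ⟨T', hT', hP⟩ | ⟨h, -⟩
    · exact h
    · exact absurd hP (hNo T' hT')
    · exact absurd h2 h
  | succ d ih =>
    intro T S a c hT hS hn ha hc haT hd
    by_cases hu : S = Finset.univ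
    · subst hu
      exact ih T _ a c hT hS hn ha hc haT (by rw [Finset.card_univ]; omega)
    obtain ⟨v, hv⟩ : ∃ v, v ∉ S := by
      by_contra hcon
      push Not at hcon
      exact hu (Finset.eq_univ_of_forall hcon)
    obtain ⟨m, hm, hma⟩ := Finset.exists_mem_ne hn a
    obtain ⟨T', hT', hG, hN⟩ := grow_slot hf C (by omega) hT hS (by rw [hone, one_pow]) ha hm hma hv hc haT
      (Or.inl h6)
    obtain ⟨x, hx, haT'⟩ := hN a (Finset.mem_insert_of_mem ha) hma.symm
    exact ih T' _ a x hT' hG (by rw [Finset.card_insert_of_notMem hv]; omega) (Finset.mem_insert_of_mem ha) hx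
      haT' (by rw [Finset.card_insert_of_notMem hv]; omega)

end Cfsg.Agent.FormWreath.Grow
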