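/-
A member with a centre or a middle that is not scalar yields a first pure displacement.
-/
import Cfsg.Agent.Lib.FormWreath.GrowShape

set_option autoImplicit false
set_option linter.unusedSectionVars false

namespace Cfsg.Agent.FormWreath.Grow

open scoped Matrix
open Matrix Cfsg.Agent.Transvec Cfsg.Agent.TensorMax Cfsg.Agent.WreathMax Cfsg.Agent.FormWreath
open Cfsg.Agent.UWreath (top top_ten top_comp top_one top_add_left top_add_right top_smul_left top_smul_right
  Has Loc loc_pten loc_comp loc_id loc_eq_zero loc_update_smul push_loc loc_eq_conj pull pull_conj has_tg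
  conj_top mvLin_kronGL mvLin_fac)

variable {F : Type*} [Field F] {k : ℕ} {f : (Fin k → F) → (Fin k → F) → F}
variable {J : Type} [Fintype J] [DecidableEq J]
variable (hf : Geo.IsSymplecticForm f)
include hf

theorem ctr_kr {α : Type} [Fintype α] [DecidableEq α] {b : GL (Fin k) F} (hb : b ∈ Iso f) (z : Fin k → F)
    (x : α × Fin k → F) :
    ctr (FormWreath.frow f (mv b z)) (mv (kronGL (1 : GL α F) b) x) = ctr (FormWreath.frow f z) x := by
  have e : (ctr (FormWreath.frow f (mv b z)) : (α × Fin k → F) →ₗ[F] α → F) ∘ₗ mvLin (kronGL (1 : GL α F) b) =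
      ctr (FormWreath.frow f z) := ext_ten fun u w => by
    rw [LinearMap.comp_apply, Matrix.toLin'_apply]
    show ctr _ (mv (kronGL 1 b) (ten u w)) = _
    rw [mv_kronGL, mv_one, ctr_ten, ctr_ten, fdot hf, fdot hf]
    exact congrArg (· • u) (hb w z)
  have := LinearMap.congr_fun e x
  rwa [LinearMap.comp_apply, Matrix.toLin'_apply] at this

omit hf in
theorem ctr_krL {α β : Type} [Fintype α] [DecidableEq α] [Fintype β] [DecidableEq β] (A : GL α F) (φ : β → F)
    (x : α × β → F) : ctr φ (mv (kronGL A (1 : GL β F)) x) = mv A (ctr φ x) := by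
  have e : (ctr φ : (α × β → F) →ₗ[F] α → F) ∘ₗ mvLin (kronGL A (1 : GL β F)) = mvLin A ∘ₗ ctr φ :=
    ext_ten fun u w => by
      rw [LinearMap.comp_apply, LinearMap.comp_apply, Matrix.toLin'_apply, Matrix.toLin'_apply]
      show ctr φ (mv (kronGL A 1) (ten u w)) = mv A (ctr φ (ten u w))
      rw [mv_kronGL, mv_one, ctr_ten, ctr_ten, mv_smul]
  have := LinearMap.congr_fun e x
  rwa [LinearMap.comp_apply, LinearMap.comp_apply, Matrix.toLin'_apply, Matrix.toLin'_apply] at this

/-- The tensor power seen in the splitting at i. -/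
def Bp (f : (Fin k → F) → (Fin k → F) → F) (i : J) (x y : Rest i k × Fin k → F) : F :=
  Bt (RingEquiv.refl F) f ((push i).symm x) ((push i).symm y)

theorem Bp_split (i : J) (x : Rest i k × Fin k → F) (w : Rest i k → F) (v : Fin k → F) :
    Bp f i x (ten w v) = Bt (RingEquiv.refl F) f (ctr (FormWreath.frow f v) x) w := by
  rw [Bp, Bt_split (sform hf), LinearEquiv.apply_symm_apply]

theorem ctr_zero_of (i : J) {x : Rest i k × Fin k → F} {v : Fin k → F}
    (h : ∀ w, Bp f i x (ten w v) = 0) : ctr (FormWreath.frow f v) x = 0 :=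
  (Bt_sf (sform hf)).nondeg _ fun w => by rw [← Bp_split hf]; exact h w

theorem Bp_sub_left (i : J) (x x' y : Rest i k × Fin k → F) : Bp f i (x - x') y = Bp f i x y - Bp f i x' y := by
  rw [Bp, map_sub]
  exact (Bt_sf (sform hf)).sub_left _ _ _

/-- An operator on a factor and an adjointness sign. -/
def Adj (A : (Fin k → F) →ₗ[F] Fin k → F) (δ : F) : Prop := ∀ x y, f (A x) y = δ * f x (A y)

theorem adj_loc {T : J → ((Fin k → F) →ₗ[F] Fin k → F)} {δ : J → F} (h : ∀ j, Adj (f := f) (T j) (δ j))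
    (u w : (J → Fin k) → F) :
    Bt (RingEquiv.refl F) f (Loc T u) w = (∏ j, δ j) * Bt (RingEquiv.refl F) f u (Loc T w) := by
  have hB := Bt_sf (J := J) (sform hf)
  have h1 : ∀ (z : J → Fin k → F) (u : (J → Fin k) → F),
      Bt (RingEquiv.refl F) f (Loc T u) (pten z) = (∏ j, δ j) * Bt (RingEquiv.refl F) f u (Loc T (pten z)) := by
    intro z u
    have e : (hB.formL (pten z)).comp (Loc T) = (∏ j, δ j) • hB.formL (Loc T (pten z)) := eq_of_pten fun x => by
      simp only [LinearMap.comp_apply, SF.formL_apply, LinearMap.smul_apply, smul_eq_mul, loc_pten]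
      rw [Bt_pten (sform hf), Bt_pten (sform hf), ← Finset.prod_mul_distrib]
      exact Finset.prod_congr rfl fun j _ => h j _ _
    exact LinearMap.congr_fun e u
  let L₁ : ((J → Fin k) → F) →ₗ[F] F :=
    { toFun := fun w => Bt (RingEquiv.refl F) f (Loc T u) w
      map_add' := fun a b => hB.add_right _ a b
      map_smul' := fun a b => hB.smul_right a _ b }
  let L₂ : ((J → Fin k) → F) →ₗ[F] F :=
    { toFun := fun w => (∏ j, δ j) * Bt (RingEquiv.refl F) f u (Loc T w)
      map_add' := fun a b => by rw [map_add, hB.add_right, mul_add]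
      map_smul' := fun a b => by
        rw [map_smul, hB.smul_right, RingEquiv.refl_apply, mul_left_comm]; rfl }
  exact LinearMap.congr_fun (eq_of_pten (f := L₁) (g := L₂) fun z => h1 z u) w

theorem adj_slot {A : (Fin k → F) →ₗ[F] Fin k → F} (hA : Slot hf A) :
    ∃ δ : F, (δ = 1 ∨ δ = -1) ∧ Adj (f := f) A δ ∧ ((¬ ∃ c, c ≠ 0 ∧ A = Nc hf c) → δ = 1) := by
  rcases hA with (⟨c, hc, rfl⟩ | ⟨c, d, -, -, -, rfl⟩) | rfl
  · refine ⟨-1, Or.inr rfl, fun x y => ?_, fun h => absurd ⟨c, hc, rfl⟩ h⟩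
    simp only [Nc_apply, hf.bilinear.smul_left, hf.bilinear.smul_right]
    rw [hf.skew c y]; ring
  · refine ⟨1, Or.inl rfl, fun x y => ?_, fun _ => rfl⟩
    simp only [Kp_apply, f_sub_left hf, f_sub_right hf, hf.bilinear.smul_left, hf.bilinear.smul_right]
    rw [hf.skew c y, hf.skew d y]; ring
  · exact ⟨1, Or.inl rfl, fun x y => by simp, fun _ => rfl⟩

theorem top_apply {α : Type} [Fintype α] [DecidableEq α] (R : (α → F) →ₗ[F] α → F) (p q : Fin k → F)
    (x : α × Fin k → F) : top R (av hf p q) x = ten (R (ctr (FormWreath.frow f q) x)) p := by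
  have e : top R (av hf p q) = (rho p).comp (R.comp (ctr (FormWreath.frow f q))) :=
    ext_ten fun u z => by simp [ctr_ten, fdot hf, ten_smul_left, ten_smul_right]
  exact LinearMap.congr_fun e x

/-- A tensor product of operators with adjointness signs. -/
theorem adj_top (i : J) {R : (Rest i k → F) →ₗ[F] Rest i k → F} {δ δ' : F}
    (hR : ∀ u w, Bt (RingEquiv.refl F) f (R u) w = δ * Bt (RingEquiv.refl F) f u (R w))
    {A : (Fin k → F) →ₗ[F] Fin k → F} (hA : Adj (f := f) A δ') (x y : Rest i k × Fin k → F) :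
    Bp f i (top R A x) y = δ * δ' * Bp f i x (top R A y) := by
  have hB := Bt_sf (J := J) (sform hf)
  let L₁ : (Rest i k × Fin k → F) →ₗ[F] (Rest i k × Fin k → F) →ₗ[F] F :=
    LinearMap.mk₂ F (fun x y => Bp f i (top R A x) y)
      (fun a b c => by rw [Bp, map_add, map_add]; exact hB.add_left _ _ _)
      (fun a b c => by rw [Bp, map_smul, map_smul]; exact hB.smul_left _ _ _)
      (fun a b c => by rw [Bp, map_add]; exact hB.add_right _ _ _)
      (fun a b c => by rw [Bp, map_smul]; exact hB.smul_right _ _ _)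
  let L₂ : (Rest i k × Fin k → F) →ₗ[F] (Rest i k × Fin k → F) →ₗ[F] F :=
    LinearMap.mk₂ F (fun x y => δ * δ' * Bp f i x (top R A y))
      (fun a b c => by rw [Bp, map_add, hB.add_left, mul_add]; rfl)
      (fun a b c => by rw [Bp, map_smul, hB.smul_left, smul_eq_mul, mul_left_comm]; rfl)
      (fun a b c => by rw [Bp, map_add, map_add, hB.add_right, mul_add]; rfl)
      (fun a b c => by rw [Bp, map_smul, map_smul, hB.smul_right, RingEquiv.refl_apply, smul_eq_mul,
        mul_left_comm]; rfl)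
  have e : L₁ = L₂ := ext_ten fun u z => ext_ten fun w z' => by
    show Bp f i (top R A (ten u z)) (ten w z') = δ * δ' * Bp f i (ten u z) (top R A (ten w z'))
    rw [top_ten, top_ten, Bp_split hf, Bp_split hf, ctr_ten, ctr_ten, fdot hf, fdot hf,
      (Bt_sf (sform hf)).smul_left, (Bt_sf (sform hf)).smul_left, hR, hA]
    ring
  exact LinearMap.congr_fun (LinearMap.congr_fun e x) y

theorem loc_not_scalar {T : J → ((Fin k → F) →ₗ[F] Fin k → F)} (hT : ∀ j, T j ≠ 0) {m : J}
    (hm : ∀ s : F, T m ≠ s • LinearMap.id) (s : F) : Loc T ≠ s • LinearMap.id := by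
  intro h
  refine top_ne_id (loc_ne_zero fun j : {j // j ≠ m} => hT j) hm ⟨s • LinearMap.id, ?_⟩
  rw [top_smul_left, top_one]
  refine LinearMap.ext fun y => ?_
  have e := congrArg (push m) (LinearMap.congr_fun h ((push m).symm y))
  simp only [push_loc, LinearEquiv.apply_symm_apply, LinearMap.smul_apply, LinearMap.id_apply, map_smul] at e
  simpa using e

variable {M : Subgroup (GL (J → Fin k) F)}

/-- Members of middle type. -/
def Mid (M : Subgroup (GL (J → Fin k) F)) (i : J) (c v : Fin k → F) (X : (Rest i k → F) →ₗ[F] Rest i k → F) :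
    Prop :=
  ∃ g ∈ M.map (tg i k F).toMonoidHom, (∀ u, mv g (ten u c) = ten u c) ∧
    ∀ x, ctr (FormWreath.frow f c) x = 0 → mv g x = x + ten (X (ctr (FormWreath.frow f v) x)) c

theorem kr_mem (hM : FacSU f M) (i : J) {b : GL (Fin k) F} (hb : b ∈ Iso f) :
    kronGL (1 : GL (Rest i k) F) b ∈ M.map (tg i k F).toMonoidHom := by
  rw [← tg_fac]; exact Subgroup.mem_map_of_mem _ (fac_mem hf hM i hb)

theorem mid_fam [Finite F] (hM : FacSU f M) (i : J) {c v : Fin k → F} (hc : c ≠ 0)
    (hv : v ∉ Submodule.span F {c}) (hvc : f v c = 0) : Fam f (Mid (f := f) M i c v) := by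
  have hcv : f c v = 0 := (f_eq_zero_comm hf).1 hvc
  have hp : ∀ (x : Rest i k × Fin k → F) (u : Rest i k → F),
      ctr (FormWreath.frow f c) (x + ten u c) = ctr (FormWreath.frow f c) x := fun x u => by
    rw [map_add, ctr_ten, fdot hf, hf.alternating, zero_smul, add_zero]
  refine ⟨?_, fun r X hX => ?_, ?_⟩
  · rintro X Y ⟨g, hg, hgf, hgx⟩ ⟨g', hg', hgf', hgx'⟩
    refine ⟨g * g', Subgroup.mul_mem _ hg hg', fun u => by rw [mv_mul, hgf', hgf], fun x hx => ?_⟩
    rw [mv_mul, hgx' x hx, hgx _ (by rw [hp, hx]), map_add, ctr_ten, fdot hf, hcv, zero_smul, add_zero,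
      LinearMap.add_apply, ten_add_left]
    abel
  · by_cases hr : r = 0
    · exact ⟨1, one_mem _, fun u => mv_one _, fun x _ => by simp [hr, ten_zero_left, mv_one]⟩
    obtain ⟨g, hg, hgf, hgx⟩ := hX
    obtain ⟨b, hb, hbc, hbv⟩ := TensorMax.S.exists_move_orth hf hc hv hvc (smul_ne_zero hr hc) (v' := v)
      (by rwa [Submodule.span_singleton_smul_eq (isUnit_iff_ne_zero.2 hr)])
      (by rw [hf.bilinear.smul_right, hvc, mul_zero])
    set K := kronGL (1 : GL (Rest i k) F) b with hK
    refine ⟨K * g * K⁻¹, Subgroup.mul_mem _ (Subgroup.mul_mem _ (kr_mem hf hM i hb) hg)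
      (Subgroup.inv_mem _ (kr_mem hf hM i hb)), fun u => ?_, fun x hx => ?_⟩
    · have e : mv K⁻¹ (ten u c) = ten (r • u) c -
          (ten (r • u) c - ten u (mv b⁻¹ c)) := by
        rw [hK, kronGL_inv, mv_kronGL, inv_one, mv_one, sub_sub_cancel]
      have hbi : mv b⁻¹ c = r⁻¹ • c := by
        rw [mv_eq_iff, inv_inv, mv_smul, hbc, smul_smul, inv_mul_cancel₀ hr, one_smul]
      rw [mv_mul, mv_mul, hK, kronGL_inv, mv_kronGL, inv_one, mv_one, hbi, ten_smul_right, mv_smul, hgf,
        ← ten_smul_right, mv_kronGL, mv_one, mv_smul, hbc, smul_smul, inv_mul_cancel₀ hr, one_smul]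
    · have hq := ctr_kr hf hb c (mv K⁻¹ x)
      rw [← hK, mv_mv_inv, hbc, show FormWreath.frow f (r • c) = r • FormWreath.frow f c from
        TensorMax.S.frow_smul hf r c, ctr_smul_vec, LinearMap.smul_apply, hx, smul_zero] at hq
      have hq' := ctr_kr hf hb v (mv K⁻¹ x)
      rw [← hK, mv_mv_inv, hbv] at hq'
      rw [mv_mul, mv_mul, hgx _ hq.symm, mv_add, mv_mv_inv, hK, mv_kronGL, mv_one, hbc, ← hq',
        LinearMap.smul_apply, ten_smul_right, ten_smul_left]
  · rintro j b hb X ⟨g, hg, hgf, hgx⟩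
    set K := kronGL (fac j b) (1 : GL (Fin k) F) with hK
    have hKM : K ∈ M.map (tg i k F).toMonoidHom := by
      rw [hK, ← WreathMax.tg_fac_other]; exact Subgroup.mem_map_of_mem _ (fac_mem hf hM (j : J) hb)
    refine ⟨K * g * K⁻¹, Subgroup.mul_mem _ (Subgroup.mul_mem _ hKM hg) (Subgroup.inv_mem _ hKM),
      fun u => ?_, fun x hx => ?_⟩
    · rw [mv_mul, mv_mul, hK, kronGL_inv, mv_kronGL, inv_one, mv_one, hgf, mv_kronGL, mv_one, mv_mv_inv]
    · obtain ⟨y, rfl⟩ : ∃ y, x = mv K y := ⟨mv K⁻¹ x, (mv_mv_inv _ x).symm⟩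
      have hy : ctr (FormWreath.frow f c) y = 0 := mv_inj (fac j b) (by rw [← ctr_krL, hx, mv_zero])
      rw [mv_mul, mv_mul, mv_inv_mv, hgx y hy, mv_add, hK, mv_kronGL, mv_one, ctr_krL]
      simp only [LinearMap.comp_apply, Matrix.toLin'_apply]
      show _ = _ + ten (mv (fac j b) (X (mv (fac j b)⁻¹ (mv (fac j b) _)))) c
      rw [mv_inv_mv]

/-- A middle that is not scalar gives a middle map that is not scalar. -/
theorem exists_mid [Finite F] (hM : FacSU f M)
    (hMf : ∀ g ∈ M, ∀ x y, Bt (RingEquiv.refl F) f (mv g x) (mv g y) = Bt (RingEquiv.refl F) f x y)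
    (h : ¬ MiddleScalar (sform hf) M) :
    ∃ (i : J) (c v : Fin k → F) (X : (Rest i k → F) →ₗ[F] Rest i k → F), c ≠ 0 ∧
      v ∉ Submodule.span F {c} ∧ f v c = 0 ∧ Mid (f := f) M i c v X ∧ ¬ ∃ s : F, X = s • LinearMap.id := by
  classical
  simp only [MiddleScalar, not_forall, not_exists, not_and] at h
  obtain ⟨i, c, hc, -, g₀, hg₀, hfix₀, hmid₀, hns₀⟩ := h
  set g := tg i k F g₀
  have hg : g ∈ M.map (tg i k F).toMonoidHom := Subgroup.mem_map_of_mem _ hg₀
  have hmv : ∀ x, mv g x = push i (mv g₀ ((push i).symm x)) := fun x => mv_tg' i g₀ x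
  have hfix : ∀ u, mv g (ten u c) = ten u c := fun u => by
    rw [hmv, hfix₀ _ (mem_Ln.2 (by rw [LinearEquiv.apply_symm_apply]; exact ten_mem_line _ _)),
      LinearEquiv.apply_symm_apply]
  have hperp0 : ∀ x, ctr (FormWreath.frow f c) x = 0 →
      (push i).symm x ∈ (Bt_sf (J := J) (sform hf)).perp (Ln i c) := fun x hx =>
    (mem_perp_Ln (sform hf)).2 (by rw [LinearEquiv.apply_symm_apply]; exact hx)
  have hmid : ∀ x, ctr (FormWreath.frow f c) x = 0 → mv g x - x ∈ line (Rest i k) c := fun x hx => by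
    have := mem_Ln.1 (hmid₀ _ (hperp0 x hx))
    rwa [map_sub, ← hmv, LinearEquiv.apply_symm_apply] at this
  have hns : ∀ φ : Fin k → F, φ ⬝ᵥ c = 0 →
      ∃ x, ctr (FormWreath.frow f c) x = 0 ∧ mv g x ≠ x + ten (ctr φ x) c := fun φ hφ => by
    obtain ⟨x, hx, hne⟩ := hns₀ φ hφ
    refine ⟨push i x, (mem_perp_Ln (sform hf)).1 hx, fun e => hne ?_⟩
    rw [mv_tg] at e
    apply (push i).injective
    rw [e, map_add, rk_apply, LinearEquiv.apply_symm_apply]
  obtain ⟨θ, hθ⟩ := exists_dot_one hc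
  set Z : (Rest i k × Fin k → F) →ₗ[F] Rest i k → F := (ctr θ).comp (mvLin g - LinearMap.id)
  have hZ : ∀ x, Z x = ctr θ (mv g x - x) := fun x => by
    show ctr θ (mvLin g x - x) = _
    rw [Matrix.toLin'_apply]
  have hgx : ∀ x, ctr (FormWreath.frow f c) x = 0 → mv g x = x + ten (Z x) c := fun x hx => by
    obtain ⟨u, hu⟩ := mem_line.1 (hmid x hx)
    rw [hZ, ← hu, ctr_ten, hθ, one_smul, hu, add_sub_cancel]
  obtain ⟨d, hdc⟩ := TensorMax.S.exists_pair hf hc
  obtain ⟨v, hv, hvns⟩ : ∃ v, f v c = 0 ∧ ∀ l : F, ∃ u, Z (ten u v) ≠ l • u := by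
    by_contra hcon
    push Not at hcon
    by_cases hα : IsEmpty (Rest i k)
    · obtain ⟨x, -, hne⟩ := hns 0 (zero_dotProduct c)
      exact hne (funext fun p => hα.elim p.1)
    obtain ⟨i₀⟩ := not_isEmpty_iff.1 hα
    set u₁ : Rest i k → F := Pi.single i₀ 1
    let ψ : (Fin k → F) →ₗ[F] F :=
      { toFun := fun v => Z (ten u₁ (v - f v c • d)) i₀
        map_add' := fun v w => by
          rw [hf.bilinear.add_left, add_smul, show v + w - (f v c • d + f w c • d) =
            (v - f v c • d) + (w - f w c • d) by abel, ten_add_right, map_add]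
          rfl
        map_smul' := fun a v => by
          rw [hf.bilinear.smul_left, mul_smul, ← smul_sub, ten_smul_right, map_smul]
          rfl }
    obtain ⟨φ, hφ⟩ := exists_vec ψ
    have hval : ∀ v, f v c = 0 → ∀ u, Z (ten u v) = (φ ⬝ᵥ v) • u := by
      intro v hv u
      obtain ⟨z, hz⟩ := hcon v hv
      have : φ ⬝ᵥ v = z := by
        rw [hφ]
        show Z (ten u₁ (v - f v c • d)) i₀ = z
        rw [hv, zero_smul, sub_zero, hz]
        simp [u₁]
      rw [this, hz]
    have hφc : φ ⬝ᵥ c = 0 := by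
      have := congrFun (hval c (hf.alternating c) u₁) i₀
      rw [hZ, hfix, sub_self, map_zero] at this
      simpa [u₁] using this.symm
    obtain ⟨x, hx, hne⟩ := hns φ hφc
    refine hne ?_
    let L : (Rest i k × Fin k → F) →ₗ[F] Rest i k × Fin k → F :=
      LinearMap.id - (rho d).comp (ctr (FormWreath.frow f c))
    have hLx : L x = x := by
      show x - ten (ctr (FormWreath.frow f c) x) d = x
      rw [hx, ten_zero_left, sub_zero]
    have e : Z.comp L = (ctr φ).comp L := ext_ten fun u w => by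
      have hL : L (ten u w) = ten u (w - f w c • d) := by
        funext p
        simp only [L, LinearMap.sub_apply, LinearMap.id_apply, LinearMap.comp_apply, rho_apply, ctr_ten,
          fdot hf, Pi.sub_apply, ten, Pi.smul_apply, smul_eq_mul]
        ring
      show Z (L (ten u w)) = ctr φ (L (ten u w))
      rw [hL, ctr_ten, hval _ (by rw [f_sub_left hf, hf.bilinear.smul_left, hdc, mul_one, sub_self])]
    have e' := LinearMap.congr_fun e x
    change Z (L x) = ctr φ (L x) at e'
    rw [hLx] at e'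
    rw [hgx x hx, e']
  have hvn : v ∉ Submodule.span F {c} := fun hm => by
    obtain ⟨a, rfl⟩ := Submodule.mem_span_singleton.1 hm
    obtain ⟨u, hu⟩ := hvns 0
    exact hu (by rw [zero_smul, hZ, ten_smul_right, mv_smul, hfix, sub_self, map_zero])
  refine ⟨i, c, v, Z.comp (rho v), hc, hvn, hv, ?_, fun ⟨s, hs⟩ => ?_⟩
  · set b := stv hf v (-1)
    have hb : b ∈ Iso f := stv_mem hf v (-1)
    have hcv : f c v = 0 := (f_eq_zero_comm hf).1 hv
    have hbc : mv b c = c := stv_fix hf _ _ hcv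
    set K := kronGL (1 : GL (Rest i k) F) b with hK
    have hKM := kr_mem hf hM i hb
    have hperp : ∀ y, ctr (FormWreath.frow f c) (mv g y - y) = 0 := fun y => ctr_zero_of hf i fun w => by
      rw [Bp_sub_left hf, sub_eq_zero]
      conv_lhs => rw [← hfix w]
      rw [Bp, Bp, hmv, hmv, LinearEquiv.symm_apply_apply, LinearEquiv.symm_apply_apply, hMf g₀ hg₀]
    refine ⟨K * g * K⁻¹ * g⁻¹, Subgroup.mul_mem _ (Subgroup.mul_mem _ (Subgroup.mul_mem _ hKM hg)
      (Subgroup.inv_mem _ hKM)) (Subgroup.inv_mem _ hg), fun u => ?_, fun x hx => ?_⟩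
    · have e1 : mv g⁻¹ (ten u c) = ten u c := by rw [mv_eq_iff, inv_inv, hfix]
      have e2 : mv K⁻¹ (ten u c) = ten u c := by rw [mv_eq_iff, inv_inv, hK, mv_kronGL, mv_one, hbc]
      rw [mv_mul, mv_mul, mv_mul, e1, e2, hfix, hK, mv_kronGL, mv_one, hbc]
    obtain ⟨y, hy⟩ : ∃ y, y = mv g⁻¹ x := ⟨_, rfl⟩
    have hgy : mv g y = x := by rw [hy, mv_mv_inv]
    have hpy : ctr (FormWreath.frow f c) y = 0 := by
      have e := hperp y
      rwa [map_sub, hgy, hx, zero_sub, neg_eq_zero] at e
    have hxy : x = y + ten (Z y) c := by rw [← hgx y hpy, hgy]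
    obtain ⟨y', hy'⟩ : ∃ y', y' = mv K⁻¹ y := ⟨_, rfl⟩
    have hpy' : ctr (FormWreath.frow f c) y' = 0 := by
      have := ctr_kr hf hb c y'
      rw [hbc, ← hK, hy', mv_mv_inv] at this
      rw [hy', ← this, hpy]
    have hKe : mvLin K⁻¹ = LinearMap.id + (rho v).comp (ctr (FormWreath.frow f v)) := by
      rw [hK, kronGL_inv, mvLin_kronGL, inv_one, mvLin_one', mvLin_stv_inv, neg_neg, one_smul,
        top_add_right, top_one, Nc]
      congr 1
      exact LinearMap.ext fun z => by rw [top_id_av]; rfl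
    have hKinv : y' = y + ten (ctr (FormWreath.frow f v) y) v := by
      have := LinearMap.congr_fun hKe y
      rw [Matrix.toLin'_apply] at this
      rw [hy']; exact this
    rw [mv_mul, mv_mul, mv_mul, ← hy, ← hy', hgx y' hpy', mv_add, hy', mv_mv_inv, ← hy', hK, mv_kronGL,
      mv_one, hbc, hKinv, map_add, hxy, map_add (ctr (FormWreath.frow f v)), ctr_ten, fdot hf, hcv, zero_smul,
      add_zero, ten_add_left]
    show _ = _ + ten (Z (ten (ctr (FormWreath.frow f v) y) v)) c
    abel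
  · obtain ⟨u, hu⟩ := hvns s
    exact hu (by simpa using LinearMap.congr_fun hs u)

/-- A centre that is not scalar. -/
theorem exists_cen [Finite F] (hk0 : 0 < k) (h6 : 6 ≤ k ∨ (2 : F) ≠ 0) (hM : FacSU f M)
    (hMf : ∀ g ∈ M, ∀ x y, Bt (RingEquiv.refl F) f (mv g x) (mv g y) = Bt (RingEquiv.refl F) f x y)
    (h : ¬ (ScalarRad (sform hf) M ∧ MiddleScalar (sform hf) M)) :
    ∃ (i : J) (c : Fin k → F) (Z : (Rest i k → F) →ₗ[F] Rest i k → F),
      c ≠ 0 ∧ Cen hf M i c Z ∧ ¬ ∃ s : F, Z = s • LinearMap.id := by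
  classical
  have hk : 4 ≤ k ∨ (2 : F) ≠ 0 := h6.imp_left fun h => by omega
  by_cases hSR : ScalarRad (sform hf) M
  swap
  · simp only [ScalarRad, not_forall, not_exists] at hSR
    obtain ⟨i, c, hc, -, g, hg, hfix, hrange, hns⟩ := hSR
    obtain ⟨d, hdc⟩ := TensorMax.S.exists_pair hf hc
    obtain ⟨θ, hθ⟩ := exists_dot_one hc
    set D : (Rest i k × Fin k → F) →ₗ[F] Rest i k × Fin k → F :=
      (push i).toLinearMap ∘ₗ (mvLin g - LinearMap.id) ∘ₗ (push i).symm.toLinearMap
    have hD : ∀ y, D y = push i (mv g ((push i).symm y) - (push i).symm y) := fun y => by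
      simp [D, mv]
    set Z := (ctr θ).comp (D.comp (rho d))
    have hDeq : D = top Z (Nc hf c) := LinearMap.ext fun y => by
      rw [Nc, top_apply hf]
      set p := ctr (FormWreath.frow f c) y
      have h0 : D (y - ten p d) = 0 := by
        rw [hD, hfix _ ((mem_perp_Ln (sform hf)).2 (by
          rw [LinearEquiv.apply_symm_apply, map_sub, ctr_ten, fdot hf, hdc, one_smul, sub_self])), sub_self,
          map_zero]
      rw [map_sub, sub_eq_zero] at h0
      rw [h0]
      obtain ⟨r, hr⟩ := mem_line.1 (show D (ten p d) ∈ line (Rest i k) c by rw [hD]; exact mem_Ln.1 (hrange _))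
      simp only [Z, LinearMap.comp_apply, rho_apply]
      rw [← hr, ctr_ten, hθ, one_smul]
    refine ⟨i, c, Z, hc, ⟨g, hg, fun x => ?_⟩, fun ⟨s, hs⟩ => ?_⟩
    · rw [← hDeq]
      simp only [pull, LinearMap.comp_apply, LinearEquiv.coe_coe]
      rw [hD, LinearEquiv.symm_apply_apply, LinearEquiv.symm_apply_apply, add_sub_cancel]
    · obtain ⟨x, hx⟩ := hns s
      refine hx ((push i).injective ?_)
      have e := LinearMap.congr_fun hDeq (push i x)
      rw [hD, LinearEquiv.symm_apply_apply, map_sub, hs, top_smul_left, LinearMap.smul_apply, Nc,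
        top_apply hf, LinearMap.id_apply, sub_eq_iff_eq_add'] at e
      rw [e, map_add, map_smul, rootN_apply, LinearEquiv.apply_symm_apply, one_smul]
  have hMS : ¬ MiddleScalar (sform hf) M := fun h' => h ⟨hSR, h'⟩
  obtain ⟨i, c, v, X, hc, hvn, hvc, hX, hXns⟩ := exists_mid hf hM hMf hMS
  have hcv : f c v = 0 := (f_eq_zero_comm hf).1 hvc
  obtain ⟨U, T, hU, hT1, hT2, g, hg, hgfix, hgx⟩ :=
    exists_good hf hk0 hk _ _ rfl _ (mid_fam hf hM i hc hvn hvc) X hX hXns
  have hslot : ∀ j, Slot hf (T j) := fun j => by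
    by_cases hj : j ∈ U
    · exact Or.inl (hT1 j hj)
    · exact Or.inr (hT2 j hj)
  choose δ hδ hadj hδ1 using fun j => adj_slot hf (hslot j)
  set D := ∏ j, δ j with hD
  have hD2 : D * D = 1 := by
    rw [hD, ← Finset.prod_mul_distrib]
    exact Finset.prod_eq_one fun j _ => by rcases hδ j with h | h <;> rw [h] <;> ring
  obtain ⟨p₀, hp₀⟩ := hU
  set R := Loc T
  have hRR : R ∘ₗ R = 0 := by rw [loc_comp]; exact loc_eq_zero _ ((hT1 p₀ hp₀).sq hf)
  set A : (Fin k → F) → (Fin k → F) →ₗ[F] Fin k → F := fun w => av hf c w + D • av hf w c with hA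
  have hAadj : Adj (f := f) (A v) (-D) := fun x y => by
    simp only [hA, LinearMap.add_apply, LinearMap.smul_apply, av_apply, hf.bilinear.add_left, hf.bilinear.add_right,
      hf.bilinear.smul_left, hf.bilinear.smul_right]
    rw [hf.skew c y, hf.skew v y]
    linear_combination (f x v * f y c) * hD2
  set X0 := top R (A v)
  have hskew : ∀ x y, Bp f i (X0 x) y = -Bp f i x (X0 y) := fun x y => by
    rw [adj_top hf i (adj_loc hf hadj) hAadj, ← hD, show D * -D = -1 by linear_combination -hD2, neg_one_mul]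
  have hX0X0 : ∀ w w', top R (A w) ∘ₗ top R (A w') = 0 := fun w w' => by
    rw [top_comp, hRR]; exact ext_ten fun u z => by simp [ten_zero_left]
  have hX00 : ∀ y, X0 (X0 y) = 0 := LinearMap.congr_fun (hX0X0 v v)
  have hX0app : ∀ y, X0 y = ten (R (ctr (FormWreath.frow f v) y)) c +
      D • ten (R (ctr (FormWreath.frow f c) y)) v := fun y => by
    simp only [X0, hA, top_add_right, top_smul_right, LinearMap.add_apply, LinearMap.smul_apply, top_apply hf]
  set E : (Rest i k × Fin k → F) →ₗ[F] Rest i k × Fin k → F :=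
    (LinearMap.id - X0) ∘ₗ mvLin g - LinearMap.id
  have hE : ∀ y, E y = mv g y - X0 (mv g y) - y := fun y => by simp [E, mv]
  have hEker : ∀ x, ctr (FormWreath.frow f c) x = 0 → E x = 0 := fun x hx => by
    rw [hE, hgx x hx, map_add, hX0app (ten _ c), ctr_ten, ctr_ten, fdot hf, fdot hf, hcv, hf.alternating,
      zero_smul, map_zero, ten_zero_left, hX0app x, hx, map_zero, ten_zero_left]
    simp
  obtain ⟨d, hdc⟩ := TensorMax.S.exists_pair hf hc
  obtain ⟨θ, hθ⟩ := exists_dot_one hc
  set Y := (ctr θ).comp (E.comp (rho d))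
  have hEeq : E = top Y (Nc hf c) := LinearMap.ext fun y => by
    rw [Nc, top_apply hf]
    set p := ctr (FormWreath.frow f c) y
    have h0 : E (y - ten p d) = 0 := hEker _ (by rw [map_sub, ctr_ten, fdot hf, hdc, one_smul, sub_self])
    rw [map_sub, sub_eq_zero] at h0
    rw [h0]
    obtain ⟨r, hr⟩ := mem_line.1 (show E (ten p d) ∈ line (Rest i k) c from mem_line_of_ctr hc fun φ hφ => by
      obtain ⟨z, rfl⟩ := TensorMax.S.frow_surj hf φ
      refine ctr_zero_of hf i fun w => ?_
      have hz : f z c = 0 := (f_eq_zero_comm hf).1 (by rw [← fdot hf z c]; exact hφ)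
      have h1 := hEker (ten w z) (by rw [ctr_ten, fdot hf, hz, zero_smul])
      rw [hE, sub_eq_zero] at h1
      have hiso : ∀ a b : Rest i k × Fin k → F, Bp f i (mv g a - X0 (mv g a)) (mv g b - X0 (mv g b)) =
          Bp f i a b := by
        intro a b
        have hsub : ∀ a b b' : Rest i k × Fin k → F, Bp f i a (b - b') = Bp f i a b - Bp f i a b' := by
          intro a b b'
          rw [Bp, map_sub]
          exact (Bt_sf (sform hf)).sub_right _ _ _
        rw [Bp_sub_left hf, hsub, hsub, hskew (mv g a) (mv g b), hskew (mv g a) (X0 (mv g b)), hX00]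
        obtain ⟨g', hg', hgg⟩ := hg
        have e : Bp f i (mv g a) (0 : Rest i k × Fin k → F) = 0 := by
          rw [Bp, map_zero]; exact (Bt_sf (sform hf)).zero_right _
        rw [e, neg_zero]
        have : Bp f i (mv g a) (mv g b) = Bp f i a b := by
          rw [← hgg, MulEquiv.coe_toMonoidHom]
          simp only [Bp, mv_tg', LinearEquiv.symm_apply_apply, hMf g' hg']
        linear_combination this
      rw [hE, Bp_sub_left hf, sub_eq_zero]
      calc Bp f i (mv g (ten p d) - X0 (mv g (ten p d))) (ten w z) =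
          Bp f i (mv g (ten p d) - X0 (mv g (ten p d))) (mv g (ten w z) - X0 (mv g (ten w z))) := by rw [h1]
        _ = Bp f i (ten p d) (ten w z) := hiso _ _)
    simp only [Y, LinearMap.comp_apply, rho_apply]
    rw [← hr, ctr_ten, hθ, one_smul]
  have hGy : ∀ y, mv g y = y + top Y (Nc hf c) y + X0 (y + top Y (Nc hf c) y) := fun y => by
    have h1 : mv g y - X0 (mv g y) = y + top Y (Nc hf c) y := by
      rw [← hEeq, hE]; abel
    have h2 : X0 (mv g y) = X0 (y + top Y (Nc hf c) y) := by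
      rw [← h1, map_sub, hX00, sub_zero]
    rw [← h2, ← h1]; abel
  have hcommut : ∀ w, f w c = 0 → ∀ b ∈ Iso f, mv b c = c → mv b v = v + w →
      Has M (pull i (top R (A w))) := by
    intro w hwc b hb hbc hbv
    set P := kronGL (1 : GL (Rest i k) F) b with hP
    have hPM := kr_mem hf hM i hb
    refine (has_tg i _).1 ⟨P * g * P⁻¹ * g⁻¹, Subgroup.mul_mem _ (Subgroup.mul_mem _
      (Subgroup.mul_mem _ hPM hg) (Subgroup.inv_mem _ hPM)) (Subgroup.inv_mem _ hg), fun x => ?_⟩
    obtain ⟨y, rfl⟩ : ∃ y, x = mv g y := ⟨mv g⁻¹ x, (mv_mv_inv g x).symm⟩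
    rw [mv_mul, mv_inv_mv, mv_mul, mv_mul, hGy (mv P⁻¹ y), hGy y]
    have hlin : ∀ (Q : (Rest i k → F) →ₗ[F] Rest i k → F) (C : (Fin k → F) →ₗ[F] Fin k → F) (z),
        mv P (top Q C (mv P⁻¹ z)) = top Q (cj b C) z := fun Q C z => by
      have := LinearMap.congr_fun (conj_top (1 : GL (Rest i k) F) b Q C) z
      simp only [LinearMap.comp_apply, Matrix.toLin'_apply, mvLin_one', inv_one] at this
      exact this
    have hN : cj b (Nc hf c) = Nc hf c := by rw [cj, Nc_conj_iso hf hb, hbc]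
    have hAb : cj b (A v) = A w + A v := by
      simp only [cj, hA, LinearMap.add_comp, LinearMap.comp_add, LinearMap.smul_comp, LinearMap.comp_smul,
        av_conj_iso hf hb, hbc, hbv]
      refine LinearMap.ext fun z => ?_
      simp only [LinearMap.add_apply, LinearMap.smul_apply, av_apply, hf.bilinear.add_right]
      module
    rw [mv_add, mv_add, mv_mv_inv, hlin, hN]
    simp only [X0, map_add, mv_add, hlin, hAb]
    have hPX : mv P (top R (A v) (top Y (Nc hf c) (mv P⁻¹ y))) =
        top R (A w + A v) (top Y (Nc hf c) y) := by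
      have e1 : top Y (Nc hf c) (mv P⁻¹ y) = mv P⁻¹ (top Y (Nc hf c) y) := by
        rw [← hN, ← hlin Y (Nc hf c) y, mv_inv_mv, hN]
      rw [e1, hlin, hAb]
    rw [hPX]
    have z : ∀ y, top R (A w) (top R (A v) y) = 0 := LinearMap.congr_fun (hX0X0 w v)
    simp only [top_add_right, LinearMap.add_apply, z]
    abel
  by_cases hD1 : D = -1
  swap
  · have hD' : D = 1 := by
      rcases eq_or_ne D 1 with h' | h'
      · exact h'
      · exact absurd (mul_eq_zero.1 (show (D - 1) * (D + 1) = 0 by linear_combination hD2)) fun h'' => by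
          rcases h'' with h'' | h''
          · exact h' (sub_eq_zero.1 h'')
          · exact hD1 (eq_neg_of_add_eq_zero_left h'')
    have h2 : (2 : F) ≠ 0 := fun h2 => hD1 (by rw [hD']; linear_combination h2)
    have hvc' : v + c ∉ Submodule.span F {c} := fun hm => hvn (by
      simpa using Submodule.sub_mem _ hm (Submodule.mem_span_singleton_self c))
    obtain ⟨b, hb, hbc, hbv⟩ := TensorMax.S.exists_move_orth hf hc hvn hvc hc hvc'
      (by rw [hf.bilinear.add_left, hvc, hf.alternating, add_zero])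
    refine ⟨i, c, (2 : F) • R, hc, ?_, fun ⟨s, hs⟩ => ?_⟩
    · have := hcommut c (hf.alternating c) b hb hbc hbv
      rw [show A c = (2 : F) • Nc hf c by rw [hA, hD']; simp only [one_smul, Nc]; module, top_smul_right,
        ← top_smul_left] at this
      exact this
    · refine loc_not_scalar hf (fun j => Slot.ne_zero hf hk0 (hslot j)) (m := p₀)
        (fun s => (hT1 p₀ hp₀).not_scalar hf s) (2⁻¹ * s) ?_
      rw [mul_smul, ← hs, smul_smul, inv_mul_cancel₀ h2, one_smul]
  -- the symmetrised slot at i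
  obtain ⟨u, hu, hvu⟩ := TensorMax.S.exists_with hf hvn
  have hcu : f c u = 0 := hu c (Submodule.mem_span_singleton_self c)
  have hun : u ∉ Submodule.span F {c} := fun hm => by
    obtain ⟨a, rfl⟩ := Submodule.mem_span_singleton.1 hm
    rw [hf.bilinear.smul_right, hvc, mul_zero] at hvu
    exact zero_ne_one hvu
  have huc : f u c = 0 := (f_eq_zero_comm hf).1 hcu
  have hK := hcommut u huc (stv hf u 1) (stv_mem hf u 1) (stv_fix hf _ _ hcu)
    (by rw [mv_stv, hvu, mul_one, one_smul])
  rw [show A u = Kp hf c u by rw [hA, hD1, Kp]; module] at hK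
  have hgi : Good hf (Kp hf c u) := Or.inr ⟨c, u, hc, hun, huc, rfl⟩
  set T' : J → ((Fin k → F) →ₗ[F] Fin k → F) := fun j => if hj : j = i then Kp hf c u else T ⟨j, hj⟩ with hT'
  have hT'i : T' i = Kp hf c u := dif_pos rfl
  have hT'loc : Loc T' = pull i (top R (Kp hf c u)) := by
    rw [loc_eq_conj i, hT'i]
    simp only [pull]
    congr 3
    exact congrArg Loc (funext fun j => dif_neg j.2)
  have hT'0 : ∀ j, T' j ≠ 0 := fun j => by
    by_cases hj : j = i
    · subst hj; rw [hT'i]; exact hgi.ne_zero hf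
    · simp only [hT', dif_neg hj]; exact Slot.ne_zero hf hk0 (hslot _)
  by_cases hN : ∃ p, ∃ x, x ≠ 0 ∧ T p = Nc hf x
  · obtain ⟨p, x, hx, hpx⟩ := hN
    have hp : T' p = Nc hf x := by simp only [hT', dif_neg p.2]; exact hpx
    refine ⟨(p : J), x, Loc fun j : {j // j ≠ (p : J)} => T' j, hx, ?_, fun ⟨s, hs⟩ => ?_⟩
    · show Has M _
      rw [← loc_update_pull (p : J) T', ← hp, Function.update_eq_self, hT'loc]
      exact hK
    · exact loc_not_scalar hf (fun j : {j // j ≠ (p : J)} => hT'0 j) (m := ⟨i, p.2.symm⟩)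
        (fun s => by rw [hT'i]; exact hgi.not_scalar hf s) s hs
  -- only rank two slots, characteristic two
  have hKs : ∀ j ∈ U, ∃ c d, c ≠ 0 ∧ d ∉ Submodule.span F {c} ∧ f d c = 0 ∧ T j = Kp hf c d := fun j hj => by
    rcases hT1 j hj with h' | h'
    · exact absurd ⟨j, h'⟩ hN
    · exact h'
  have h2 : (2 : F) = 0 := by
    have : D = 1 := Finset.prod_eq_one fun j _ => hδ1 j fun h' => hN ⟨j, h'⟩
    linear_combination this.symm.trans hD1
  have hk6 : 6 ≤ k := h6.resolve_right fun h' => h' h2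
  obtain ⟨bi, hbi, Ai, rfl, q1, q2, q3, q4⟩ := Kp_pair hf hc hun huc
  obtain ⟨bm, hbm, Am, rfl, -, hYns⟩ := exists_sym hf (hT1 p₀ hp₀) (by omega)
  have hpairs : ∀ j : {j // j ≠ i}, ∃ b ∈ Iso f, (j ∈ U → ∃ y, y ≠ 0 ∧
      T j ∘ₗ cj b (T j) = Nc hf y ∧ cj b (T j) ∘ₗ T j = Nc hf y) := fun j => by
    by_cases hj : j ∈ U
    · obtain ⟨c', d', hc', hd', hdc', hTj⟩ := hKs j hj
      obtain ⟨b, hb, A', rfl, r1, r2, -, -⟩ := Kp_pair hf hc' hd' hdc'
      refine ⟨b, hb, fun _ => ⟨d', fun h => hd' (h ▸ zero_mem _), ?_, by rw [hTj]; exact r2⟩⟩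
      rw [hTj]
      refine r1.trans (LinearMap.ext fun z => ?_)
      rw [LinearMap.neg_apply]
      have : (2 : F) • Nc hf d' z = 0 := by rw [h2, zero_smul]
      linear_combination (norm := module) -this
    · exact ⟨1, one_mem _, fun h => absurd h hj⟩
  choose bj hbj hbjN using hpairs
  set B : J → GL (Fin k) F := fun j => if hj : j = i then bi else if (⟨j, hj⟩ : {j // j ≠ i}) = p₀ then bm
    else bj ⟨j, hj⟩ with hB
  obtain ⟨g', hg', hg'1, hg'2⟩ := exists_loc hf hM B fun j => by
    simp only [hB]; split_ifs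
    · exact hbi
    · exact hbm
    · exact hbj _
  set T'' : J → ((Fin k → F) →ₗ[F] Fin k → F) := fun j => cj (B j) (T' j) with hT''
  have hX : Has M (Loc T') := by rw [hT'loc]; exact hK
  have hY : Has M (Loc T'') := by
    have := UWreath.Has.conj hX hg'
    rw [hg'1, hg'2, loc_comp, loc_comp] at this
    exact this
  have hBi : B i = bi := dif_pos rfl
  have hT''i : T'' i = cj bi (Kp hf c u) := by simp only [hT'', hBi, hT'i]
  have h := has_comm hX hY
    (by rw [loc_comp, loc_eq_zero _ (show T' i ∘ₗ T' i = 0 by rw [hT'i, hgi.sq hf])])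
    (by rw [loc_comp, loc_eq_zero _ (show T'' i ∘ₗ T'' i = 0 by rw [hT''i]; exact (hgi.conj hf hbi).sq hf)])
    (by rw [loc_comp, loc_comp, loc_eq_zero _ (show T' i ∘ₗ T'' i ∘ₗ T' i = 0 by rw [hT''i, hT'i]; exact q3)])
    (by rw [loc_comp, loc_comp, loc_eq_zero _ (show T'' i ∘ₗ T' i ∘ₗ T'' i = 0 by rw [hT''i, hT'i]; exact q4)])
  have hneg : ∀ {V : Type _} [AddCommGroup V] [Module F V] (x : V), -x = x := fun {V} _ _ x => by
    have : (2 : F) • x = 0 := by rw [h2, zero_smul]
    linear_combination (norm := module) -this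
  set m : {j // j ≠ i} := p₀
  set S' : {j // j ≠ i} → ((Fin k → F) →ₗ[F] Fin k → F) := fun j => T' j ∘ₗ T'' j with hS'
  set Ym := T m ∘ₗ cj bm (T m) + cj bm (T m) ∘ₗ T m
  have hm' : T' m = T m ∧ T'' m = cj bm (T m) := by
    constructor
    · simp only [hT', dif_neg m.2]
    · simp only [hT'', hB, hT', dif_neg m.2, m, if_true]
  have hcomm : ∀ j : {j // j ≠ i}, j ≠ m → T'' j ∘ₗ T' j = S' j ∧ S' j ≠ 0 := fun j hjm => by
    have e1 : T' j = T j := by simp only [hT', dif_neg j.2]
    have e2 : T'' j = cj (bj j) (T j) := by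
      simp only [hT'', hB, e1, dif_neg j.2, Subtype.coe_eta, if_neg hjm]
    simp only [hS', e1, e2]
    by_cases hj : j ∈ U
    · obtain ⟨y, hy, r1, r2⟩ := hbjN j hj
      rw [r1, r2]
      exact ⟨rfl, Good.ne_zero hf (Or.inl ⟨y, hy, rfl⟩)⟩
    · rw [hT2 j hj, cj_id, LinearMap.id_comp]
      exact ⟨rfl, Slot.ne_zero hf hk0 (Or.inr rfl)⟩
  refine ⟨i, u, Loc (Function.update S' m Ym), fun h0 => hun (h0 ▸ zero_mem _), ?_,
    fun ⟨s, hs⟩ => loc_not_scalar hf (fun j => ?_) (m := m)
      (fun s => by rw [Function.update_self]; exact hYns (Or.inl hk6) s) s hs⟩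
  · show Has M _
    convert h using 1
    rw [loc_comp, loc_comp, loc_update_add, top_add_left, pull_add, sub_eq_add_neg, hneg]
    congr 1
    · rw [← hm'.2, ← hm'.1, show T' m ∘ₗ T'' m = S' m from rfl, Function.update_eq_self,
        ← loc_update_pull i (fun j => T' j ∘ₗ T'' j)]
      refine congrArg Loc (funext fun j => ?_)
      by_cases hj : j = i
      · subst hj; rw [Function.update_self, hT'i, hT''i]; exact (q1.trans (hneg _)).symm
      · rw [Function.update_of_ne hj]
    · have e : Function.update S' m (cj bm (T m) ∘ₗ T m) = fun j : {j // j ≠ i} => T'' j ∘ₗ T' j := funext fun j => by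
        by_cases hjm : j = m
        · subst hjm; rw [Function.update_self, hm'.1, hm'.2]
        · rw [Function.update_of_ne hjm, (hcomm j hjm).1]
      rw [e, ← loc_update_pull i (fun j => T'' j ∘ₗ T' j) (Nc hf u)]
      refine congrArg Loc (funext fun j => ?_)
      by_cases hj : j = i
      · subst hj; rw [Function.update_self, hT'i, hT''i]; exact q2.symm
      · rw [Function.update_of_ne hj]
  · by_cases hjm : j = m
    · subst hjm; rw [Function.update_self]; exact fun h0 => hYns (Or.inl hk6) 0 (h0.trans (zero_smul F _).symm)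
    · rw [Function.update_of_ne hjm]; exact (hcomm j hjm).2

/-- A first pure displacement. -/
theorem exists_start [Finite F] (h6 : 6 ≤ k ∨ (2 : F) ≠ 0) (C : GCtx (f := f) M)
    (h : ¬ (ScalarRad (sform hf) M ∧ MiddleScalar (sform hf) M)) :
    ∃ (T : J → ((Fin k → F) →ₗ[F] Fin k → F)) (S : Finset J) (a : J) (c : Fin k → F),
      Mem M T ∧ GoodOn hf T S ∧ 2 ≤ S.card ∧ a ∈ S ∧ c ≠ 0 ∧ T a = Nc hf c := by
  classical
  obtain ⟨i, c, Z, hc, hZ, hns⟩ := exists_cen hf C.hk0 h6 C.facs C.pres h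
  obtain ⟨U, T, hU, hT1, hT2, hST⟩ := exists_good hf C.hk0 C.hk _ _ rfl _ (cen_fam hf C.facs i hc) Z hZ hns
  set T' : J → ((Fin k → F) →ₗ[F] Fin k → F) := fun j => if hj : j = i then Nc hf c else T ⟨j, hj⟩ with hT'
  refine ⟨T', insert i (U.map (Function.Embedding.subtype _)), i, c, fun r => ?_, ⟨fun j hj => ?_, fun j hj => ?_⟩,
    ?_, Finset.mem_insert_self _ _, hc, dif_pos rfl⟩
  · have := (cen_fam hf C.facs i hc).sm r hST
    rw [Cen, top_smul_left, pull_smul] at this
    convert this using 2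
    rw [loc_eq_conj i]
    simp only [pull, hT', dif_pos]
    congr 3
    exact congrArg Loc (funext fun j => dif_neg j.2)
  · by_cases hji : j = i
    · simp only [hT', dif_pos hji]; exact Or.inl ⟨c, hc, rfl⟩
    · obtain ⟨l, hl, rfl⟩ := Finset.mem_map.1 ((Finset.mem_insert.1 hj).resolve_left hji)
      simpa [hT', l.2] using hT1 l hl
  · rw [Finset.mem_insert, not_or] at hj
    simp only [hT', dif_neg hj.1]
    exact hT2 _ fun hm => hj.2 (Finset.mem_map.2 ⟨_, hm, rfl⟩)
  · rw [Finset.card_insert_of_notMem (by simp), Finset.card_map]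
    have := hU.card_pos
    omega

end Cfsg.Agent.FormWreath.Grow
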