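/-
A centre or a middle that is not scalar gives the whole symplectic group of a tensor power.
-/
import Cfsg.Agent.Lib.FormWreath.GrowStart

set_option autoImplicit false
set_option linter.unusedSectionVars false

namespace Cfsg.Agent.FormWreath.Grow

open scoped Matrix
open Matrix Cfsg.Agent.Transvec Cfsg.Agent.TensorMax Cfsg.Agent.WreathMax Cfsg.Agent.FormWreath
open Cfsg.Agent.UWreath (top Has Loc loc_pten)

variable {F : Type*} [Field F] {k : ℕ} {f : (Fin k → F) → (Fin k → F) → F}
variable {J : Type} [Fintype J] [DecidableEq J]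

theorem symp_of_uform (hU : UForm (RingEquiv.refl F) (-1) f) : Geo.IsSymplecticForm f := by
  obtain ⟨-, -, halt⟩ := hU.cases.resolve_right fun h => h.1 rfl
  exact {
    bilinear := ⟨hU.add_left, hU.smul_left, hU.add_right, fun a x y => hU.smul_right a x y⟩
    skew := fun x y => by rw [hU.symm x y, RingEquiv.refl_apply, neg_one_mul]
    alternating := halt
    nondegenerate := fun v hv => by
      have h1 : ∃ y, f v y ≠ 0 := by
        by_contra h
        push Not at h
        exact hv (hU.nondeg v h)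
      obtain ⟨y, hy⟩ := h1
      exact ⟨⟨y, fun h => hy (hU.comm.1 h)⟩, ⟨y, hy⟩⟩ }

theorem exists_three (h2 : (2 : F) ≠ 0) {V : Type*} [AddCommGroup V] [Module F V] (φ : Fin 3 → (V →ₗ[F] F))
    (h : ∀ r, φ r ≠ 0) : ∃ x, ∀ r, φ r x ≠ 0 := by
  have h' : ∀ r, ∃ x, φ r x ≠ 0 := fun r => by
    by_contra hcon
    push Not at hcon
    exact h r (LinearMap.ext hcon)
  obtain ⟨a, ha⟩ := h' 0
  obtain ⟨b, hb⟩ := h' 1
  obtain ⟨x₁, e0, e1⟩ : ∃ x, φ 0 x ≠ 0 ∧ φ 1 x ≠ 0 := by
    by_cases h1 : φ 1 a = 0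
    · by_cases h0 : φ 0 b = 0
      · exact ⟨a + b, by rw [map_add, h0, add_zero]; exact ha, by rw [map_add, h1, zero_add]; exact hb⟩
      · exact ⟨b, h0, hb⟩
    · exact ⟨a, ha, h1⟩
  by_cases e2 : φ 2 x₁ = 0
  swap
  · exact ⟨x₁, fun r => by fin_cases r <;> assumption⟩
  obtain ⟨x₃, hx₃⟩ := h' 2
  by_cases hp : φ 0 (x₁ + x₃) ≠ 0 ∧ φ 1 (x₁ + x₃) ≠ 0
  · exact ⟨x₁ + x₃, fun r => by
      fin_cases r
      · exact hp.1
      · exact hp.2
      · show φ 2 _ ≠ 0
        rw [map_add, e2, zero_add]; exact hx₃⟩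
  by_cases hm : φ 0 (x₁ - x₃) ≠ 0 ∧ φ 1 (x₁ - x₃) ≠ 0
  · exact ⟨x₁ - x₃, fun r => by
      fin_cases r
      · exact hm.1
      · exact hm.2
      · show φ 2 _ ≠ 0
        rw [map_sub, e2, zero_sub]; exact neg_ne_zero.2 hx₃⟩
  rw [map_add, map_add] at hp
  rw [map_sub, map_sub] at hm
  have key : ∀ r, φ r x₁ ≠ 0 → φ r x₁ + φ r x₃ = 0 ∨ φ r x₁ - φ r x₃ = 0 → φ r x₃ ≠ 0 := by
    intro r hr hd h0
    rw [h0, add_zero, sub_zero, or_self] at hd
    exact hr hd
  have hboth : ∀ r, φ r x₁ ≠ 0 → ¬ (φ r x₁ + φ r x₃ = 0 ∧ φ r x₁ - φ r x₃ = 0) := fun r hr hd =>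
    mul_ne_zero h2 hr (by linear_combination hd.1 + hd.2)
  simp only [not_and_or, not_not, ne_eq] at hp hm
  refine ⟨x₃, fun r => ?_⟩
  fin_cases r
  · refine key 0 e0 ?_
    rcases hp with h | h
    · exact Or.inl h
    · exact Or.inr (hm.resolve_right fun h' => hboth 1 e1 ⟨h, h'⟩)
  · refine key 1 e1 ?_
    rcases hp with h | h
    · exact Or.inr (hm.resolve_left fun h' => hboth 0 e0 ⟨h, h'⟩)
    · exact Or.inl h
  · exact hx₃

/-- Three functionals are avoided by a pure tensor. -/
theorem exists_pten_three (h2 : (2 : F) ≠ 0) : ∀ (n : ℕ) (J : Type) [Fintype J] [DecidableEq J],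
    Fintype.card J = n → ∀ φ : Fin 3 → (((J → Fin k) → F) →ₗ[F] F), (∀ r, φ r ≠ 0) →
      ∃ w : J → Fin k → F, ∀ r, φ r (pten w) ≠ 0 := by
  intro n
  induction n with
  | zero =>
    intro J _ _ hJ φ hφ
    haveI : IsEmpty J := Fintype.card_eq_zero_iff.1 hJ
    refine ⟨fun j => isEmptyElim j, fun r h => hφ r (eq_of_pten fun y => ?_)⟩
    rw [show y = fun j => isEmptyElim j from funext fun j => isEmptyElim j, h, LinearMap.zero_apply]
  | succ n ih =>
    intro J _ _ hJ φ hφ
    classical
    obtain ⟨i⟩ : Nonempty J := Fintype.card_pos_iff.1 (by omega)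
    let Φ : Fin 3 → (Fin k → F) → ((Rest i k → F) →ₗ[F] F) := fun r u =>
      (φ r).comp ((push i).symm.toLinearMap.comp (rho u))
    have hw : ∀ r, ∃ w : Rest i k → F,
        (φ r).comp ((push i).symm.toLinearMap.comp (lam w)) ≠ (0 : (Fin k → F) →ₗ[F] F) := by
      intro r
      by_contra hcon
      push Not at hcon
      refine hφ r (LinearMap.ext fun x => ?_)
      rw [← (push i).symm_apply_apply x]
      exact LinearMap.congr_fun (show (φ r).comp (push i).symm.toLinearMap = 0 from ext_ten fun w u => by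
        simpa using LinearMap.congr_fun (hcon w) u) (push i x)
    choose w hw using hw
    obtain ⟨u, hu⟩ := exists_three h2 _ hw
    obtain ⟨z, hz⟩ := ih {j // j ≠ i} (by
      rw [Fintype.card_subtype_compl, Fintype.card_subtype_eq, hJ, Nat.add_sub_cancel]) (fun r => Φ r u)
      fun r h => hu r (by simpa [Φ] using LinearMap.congr_fun h (w r))
    refine ⟨fun j => if hj : j = i then u else z ⟨j, hj⟩, fun r => ?_⟩
    have := hz r
    simp only [Φ, LinearMap.comp_apply, rho_apply, LinearEquiv.coe_coe] at this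
    convert this using 2
    apply (push i).injective
    rw [LinearEquiv.apply_symm_apply, push_pten, dif_pos rfl]
    congr 1
    exact congrArg pten (funext fun j => by rw [dif_neg j.2])

variable (hf : Geo.IsSymplecticForm f)
include hf

theorem bt_symp (h2 : (2 : F) ≠ 0) (hJ : Odd (Fintype.card J)) :
    Geo.IsSymplecticForm (Bt (J := J) (RingEquiv.refl F) f) := by
  have h := Bt_sf (J := J) (sform hf)
  have hs : ∀ x y, Bt (J := J) (RingEquiv.refl F) f x y = -Bt (RingEquiv.refl F) f y x := fun x y => by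
    rw [h.symm x y, hJ.neg_one_pow, RingEquiv.refl_apply, neg_one_mul]
  exact {
    bilinear := ⟨h.add_left, h.smul_left, h.add_right, fun a x y => h.smul_right a x y⟩
    skew := hs
    alternating := fun x => (mul_eq_zero.1 (show 2 * Bt (RingEquiv.refl F) f x x = 0 by
      linear_combination hs x x)).resolve_left h2
    nondegenerate := fun v hv => by
      have h1 : ∃ y, Bt (RingEquiv.refl F) f v y ≠ 0 := by
        by_contra h'
        push Not at h'
        exact hv (h.nondeg v h')
      obtain ⟨y, hy⟩ := h1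
      exact ⟨⟨y, fun h' => hy (h.comm.1 h')⟩, ⟨y, hy⟩⟩ }

/-- Transvections at the pure tensors generate. -/
theorem le_of_pten (h2 : (2 : F) ≠ 0) (hJ : Odd (Fintype.card J)) {M : Subgroup (GL (J → Fin k) F)}
    (hM : ∀ (x : J → Fin k → F) (r : F), stv (bt_symp hf h2 hJ) (pten x) r ∈ M) :
    preserving (Units.coeHom (Matrix (J → Fin k) (J → Fin k) F)) (Bt (RingEquiv.refl F) f) ≤ M := by
  set hB := bt_symp (J := J) hf h2 hJ
  set P : ((J → Fin k) → F) → Prop := fun v => ∀ r : F, stv hB v r ∈ M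
  have hadd : ∀ {u v}, P u → P v → Bt (RingEquiv.refl F) f u v ≠ 0 → ∀ a : F, P (u + a • v) := by
    intro u v hu hv huv a r
    set g := stv hB v (a / Bt (RingEquiv.refl F) f u v)
    have hg : g ∈ M := hv _
    have h := stv_conj hB (g := g) one_ne_zero (fun x y => ((stv_mem hB v _) x y).trans (one_mul _).symm) u r
    rw [div_one, mv_stv, div_mul_cancel₀ _ huv] at h
    rw [← h]
    exact M.mul_mem (M.mul_mem hg (hu r)) (M.inv_mem hg)
  have h0 : P 0 := fun r => by
    rw [show stv hB 0 r = 1 from ext_mv fun x => by rw [mv_stv, smul_zero, add_zero, mv_one]]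
    exact M.one_mem
  have hsm : ∀ {v}, P v → ∀ a : F, P (a • v) := fun hv a r => by rw [stv_smul]; exact hv _
  have hsum : ∀ v, P v → ∀ x : J → Fin k → F, P (v + pten x) := by
    intro v hv x
    have hp : P (pten x) := hM x
    by_cases hv0 : v = 0
    · rw [hv0, zero_add]; exact hp
    by_cases hp0 : pten x = 0
    · rw [hp0, add_zero]; exact hv
    by_cases hs : v + pten x = 0
    · rw [hs]; exact h0
    by_cases hvp : Bt (RingEquiv.refl F) f v (pten x) = 0
    swap
    · have := hadd hv hp hvp 1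
      rwa [one_smul] at this
    have hne : ∀ {y : (J → Fin k) → F}, y ≠ 0 → (Bt_sf (sform hf)).formL y ≠ (0 : _ →ₗ[F] F) := fun hy h =>
      hy ((Bt_sf (sform hf)).nondeg _ fun z => (Bt_sf (sform hf)).comm.1 (LinearMap.congr_fun h z))
    obtain ⟨w, hw⟩ := exists_pten_three h2 _ J rfl
      ![(Bt_sf (sform hf)).formL v, (Bt_sf (sform hf)).formL (pten x), (Bt_sf (sform hf)).formL (v + pten x)]
      (fun r => by fin_cases r <;> first | exact hne hv0 | exact hne hp0 | exact hne hs)
    have w0 : Bt (RingEquiv.refl F) f (pten w) v ≠ 0 := hw 0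
    have w1 : Bt (RingEquiv.refl F) f (pten w) (pten x) ≠ 0 := hw 1
    have w2 : Bt (RingEquiv.refl F) f (pten w) (v + pten x) ≠ 0 := hw 2
    have e1 := hadd hv (hM w) (fun h => w0 ((f_eq_zero_comm hB).1 h)) 1
    rw [one_smul] at e1
    have e2 := hadd e1 hp (by rw [hB.bilinear.add_left, hvp, zero_add]; exact w1) 1
    rw [one_smul] at e2
    have e3 := hadd e2 (hM w) (by
      rw [show v + pten w + pten x = v + pten x + pten w by abel, hB.bilinear.add_left, hB.alternating, add_zero]
      exact fun h => w2 ((f_eq_zero_comm hB).1 h)) (-1)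
    rwa [show v + pten w + pten x + (-1 : F) • pten w = v + pten x by module] at e3
  refine preserving_le hB fun v r => ?_
  suffices H : P v from H r
  classical
  haveI : Nonempty J := Fintype.card_pos_iff.1 hJ.pos
  obtain ⟨j₀⟩ := ‹Nonempty J›
  suffices H : ∀ s : Finset (J → Fin k), P (∑ a ∈ s, Pi.single a (v a)) by
    have := H Finset.univ
    rwa [Finset.univ_sum_single] at this
  intro s
  induction s using Finset.induction with
  | empty => simpa using h0
  | insert a s ha ih =>
    rw [Finset.sum_insert ha, add_comm]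
    have e : pten (Function.update (fun j => (Pi.single (a j) (1 : F) : Fin k → F)) j₀
        ((v a) • Pi.single (a j₀) 1)) = Pi.single a (v a) := by
      rw [pten_update_smul, Function.update_eq_self]
      funext b
      unfold pten
      by_cases hb : b = a
      · subst hb; simp
      · obtain ⟨j, hj⟩ := Function.ne_iff.1 hb
        rw [Pi.single_eq_of_ne hb, Pi.smul_apply, Finset.prod_eq_zero (Finset.mem_univ j)
          (Pi.single_eq_of_ne hj _), smul_zero]
    rw [← e]
    exact hsum _ ih _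

theorem loc_nc_univ {T : J → ((Fin k → F) →ₗ[F] Fin k → F)} {x : J → Fin k → F} (hT : ∀ j, T j = Nc hf (x j))
    (y : (J → Fin k) → F) : Loc T y = Bt (RingEquiv.refl F) f y (pten x) • pten x := by
  have e : Loc T = ((Bt_sf (sform hf)).formL (pten x)).smulRight (pten x) := eq_of_pten fun z => by
    rw [loc_pten, LinearMap.smulRight_apply, SF.formL_apply, Bt_pten (sform hf)]
    funext a
    simp [hT, pten, Finset.prod_mul_distrib]
  rw [e]; rfl

omit hf in
/-- A centre or a middle that is not scalar gives the whole symplectic group. -/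
theorem sp_le_of_not_scalar [Finite F] (hU : UForm (RingEquiv.refl F) (-1) f) (h2 : (2 : F) ≠ 0) (hk : 2 ≤ k)
    (hJ : Odd (Fintype.card J)) {M : Subgroup (GL (J → Fin k) F)}
    (hM : M ≤ preserving (Units.coeHom (Matrix (J → Fin k) (J → Fin k) F)) (Bt (RingEquiv.refl F) f))
    (hFac : FacSU f M) (hmono : ∀ π : Equiv.Perm J, ∃ g ∈ M, MonoOf π g)
    (h : ¬ (ScalarRad hU.toSF M ∧ MiddleScalar hU.toSF M)) :
    preserving (Units.coeHom (Matrix (J → Fin k) (J → Fin k) F)) (Bt (RingEquiv.refl F) f) ≤ M := by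
  classical
  have hf := symp_of_uform hU
  have C : GCtx (f := f) M := ⟨by omega, Or.inr h2, hFac, fun g hg => hM hg, fun _ => hmono⟩
  obtain ⟨T, S, a, c, hT, hS, hn, ha, hc, haT⟩ := exists_start hf (Or.inr h2) C h
  obtain ⟨T', hT', hP⟩ := pure_univ_of_odd hf C h2 hJ hT hS hn ha hc haT
  have hx' : ∀ j, ∃ x, x ≠ 0 ∧ T' j = Nc hf x := fun j => hP.1 j (Finset.mem_univ j)
  choose x hx hxT using hx'
  have hbase : ∀ r : F, stv (bt_symp hf h2 hJ) (pten x) r ∈ M := by
    intro r
    obtain ⟨g, hg, hgx⟩ := hT' r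
    convert hg using 1
    refine ext_mv fun y => ?_
    rw [mv_stv, hgx, LinearMap.smul_apply, loc_nc_univ hf hxT, smul_smul]
  refine le_of_pten hf h2 hJ fun z r => ?_
  by_cases hz : ∃ j, z j = 0
  · obtain ⟨j, hj⟩ := hz
    have e : pten z = 0 := funext fun b => Finset.prod_eq_zero (Finset.mem_univ j) (by rw [hj]; rfl)
    rw [e, show stv (bt_symp hf h2 hJ) 0 r = 1 from ext_mv fun y => by rw [mv_stv, smul_zero, add_zero, mv_one]]
    exact M.one_mem
  push Not at hz
  choose b hb hbx using fun j => exists_move_nondeg hf (K := Iso f) (nondeg_top hf)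
    (fun v _ s => stv_mem hf v s) Submodule.mem_top Submodule.mem_top (hx j) (hz j)
  obtain ⟨g, hg, hg1, -⟩ := exists_loc hf hFac b hb
  have hgx : mv g (pten x) = pten z := by
    have := LinearMap.congr_fun hg1 (pten x)
    rw [Matrix.toLin'_apply, loc_pten] at this
    refine this.trans (congrArg pten (funext fun j => ?_))
    rw [Matrix.toLin'_apply]
    exact (hbx j).1
  have := stv_conj (bt_symp hf h2 hJ) (g := g) one_ne_zero (fun u v => (hM hg u v).trans (one_mul _).symm) (pten x) r
  rw [hgx, div_one] at this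
  rw [← this]
  exact M.mul_mem (M.mul_mem hg (hbase r)) (M.inv_mem hg)

end Cfsg.Agent.FormWreath.Grow
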