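/-
Root elements at pure tensors of a tensor power inside an orthogonal group.
-/
import Cfsg.Agent.Lib.FormWreath.GrowSp
import Cfsg.Agent.Lib.Transvec.QuadGen

set_option autoImplicit false
set_option linter.unusedSectionVars false

namespace Cfsg.Agent.FormWreath.Grow

open scoped Matrix
open Matrix Cfsg.Agent.Transvec Cfsg.Agent.TensorMax Cfsg.Agent.WreathMax Cfsg.Agent.FormWreath
open Cfsg.Agent.UWreath (top Has Loc loc_pten loc_update_smul)

variable {F : Type*} [Field F] [Finite F] {k : ℕ} {f : (Fin k → F) → (Fin k → F) → F}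
variable {J : Type} [Fintype J] [DecidableEq J]
variable {Q : ((J → Fin k) → F) → F} {M : Subgroup (GL (J → Fin k) F)}

/-- A tensor power of a symplectic form as the polar form of a quadratic form. -/
structure OCtx (f : (Fin k → F) → (Fin k → F) → F) (Q : ((J → Fin k) → F) → F)
    (M : Subgroup (GL (J → Fin k) F)) : Prop where
  hf : Geo.IsSymplecticForm f
  hQ : Geo.IsNondegenerateQuadraticForm Q
  hpol : ∀ x y, Orth.pol Q x y = Bt (RingEquiv.refl F) f x y
  hpure : ∀ x, Q (pten x) = 0
  le : M ≤ Geo.omegaGL Q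
  facs : FacSU f M
  mono : k = 2 ∨ 3 ≤ Fintype.card J → ∀ π : Equiv.Perm J, ∃ g ∈ M, MonoOf π g

namespace OCtx

variable (O : OCtx f Q M)
include O

theorem mem_iso {g : GL (J → Fin k) F} (hg : g ∈ M) : g ∈ isometryGroup F Q :=
  Orth.omega_le_isometry O.hQ (O.le hg)

theorem pres (g : GL (J → Fin k) F) (hg : g ∈ M) (x y : (J → Fin k) → F) :
    Bt (RingEquiv.refl F) f (mv g x) (mv g y) = Bt (RingEquiv.refl F) f x y := by
  rw [← O.hpol, ← O.hpol, Orth.pol_mv O.hQ (O.mem_iso hg)]

theorem no_pure (hk : 0 < k) (T : J → ((Fin k → F) →ₗ[F] Fin k → F)) (hT : Mem M T) :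
    ¬ PureOn O.hf T Finset.univ := by
  intro hP
  choose x hx hxT using fun j => hP.1 j (Finset.mem_univ j)
  obtain ⟨g, hg, hgx⟩ := hT 1
  have h := Orth.mem_isometry.1 (O.mem_iso hg)
  have hz : ∀ y, Bt (RingEquiv.refl F) f y (pten x) = 0 := fun y => by
    have e := h y
    rw [hgx, one_smul, loc_nc_univ O.hf hxT, Orth.q_add O.hQ, Orth.q_smul O.hQ, O.hpure,
      Orth.pol_smul_right O.hQ, O.hpol] at e
    exact mul_self_eq_zero.1 (by linear_combination e)
  exact pten_ne_zero hx ((Bt_sf (sform O.hf)).nondeg _ fun y => (Bt_sf (sform O.hf)).comm.1 (hz y))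

end OCtx

/-- An admissible pair of one factor. -/
def Cond (f : (Fin k → F) → (Fin k → F) → F) (c d : Fin k → F) : Prop :=
  (4 ≤ k ∧ d ∉ Submodule.span F {c} ∧ f d c = 0) ∨ (k = 2 ∧ f d c = 1)

/-- Root elements at u and all multiples of y lie in M. -/
def Sg (Q : ((J → Fin k) → F) → F) (M : Subgroup (GL (J → Fin k) F)) (u y : (J → Fin k) → F) : Prop :=
  Orth.pol Q u y = 0 ∧ ∀ t : F, ∃ g ∈ M, Orth.IsSiegel Q g u (t • y)

/-- The second vectors of root elements at a singular u. -/
def sgSub (hQ : Geo.IsNondegenerateQuadraticForm Q) {u : (J → Fin k) → F} (hu : Q u = 0)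
    (M : Subgroup (GL (J → Fin k) F)) : Submodule F ((J → Fin k) → F) where
  carrier := {y | Sg Q M u y}
  zero_mem' := ⟨Orth.pol_zero_right hQ u, fun t => ⟨1, M.one_mem, by rw [smul_zero]; exact Orth.isSiegel_zero hQ u⟩⟩
  add_mem' {y y'} h h' := ⟨by rw [Orth.pol_add_right hQ, h.1, h'.1, add_zero], fun t => by
    obtain ⟨a, ha, has⟩ := h.2 t
    obtain ⟨b, hb, hbs⟩ := h'.2 t
    refine ⟨a * b, M.mul_mem ha hb, ?_⟩
    rw [smul_add]
    exact Orth.isSiegel_mul hQ hu (by rw [Orth.pol_smul_right hQ, h.1, mul_zero])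
      (by rw [Orth.pol_smul_right hQ, h'.1, mul_zero]) has hbs⟩
  smul_mem' a y h := ⟨by rw [Orth.pol_smul_right hQ, h.1, mul_zero], fun t => by rw [smul_smul]; exact h.2 _⟩

theorem mem_sgSub {hQ : Geo.IsNondegenerateQuadraticForm Q} {u y : (J → Fin k) → F} {hu : Q u = 0} :
    y ∈ sgSub hQ hu M ↔ Sg Q M u y := Iff.rfl

/-- All root elements at pure tensors differing in one factor. -/
def Roots (f : (Fin k → F) → (Fin k → F) → F) (Q : ((J → Fin k) → F) → F)
    (M : Subgroup (GL (J → Fin k) F)) : Prop :=
  ∀ (x : J → Fin k → F) (l : J) (d : Fin k → F), (∀ j, x j ≠ 0) → Cond f (x l) d →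
    Sg Q M (pten x) (pten (Function.update x l d))

theorem pten_update_add (x : J → Fin k → F) (i : J) (a b : Fin k → F) :
    pten (Function.update x i (a + b)) = pten (Function.update x i a) + pten (Function.update x i b) := by
  funext p
  simp only [Pi.add_apply, pten, ← Finset.mul_prod_erase Finset.univ _ (Finset.mem_univ i), Function.update_self]
  rw [Finset.prod_congr rfl fun j hj => show Function.update x i (a + b) j (p j) = x j (p j) by
      rw [Function.update_of_ne (Finset.ne_of_mem_erase hj)],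
    Finset.prod_congr rfl fun j hj => show Function.update x i a j (p j) = x j (p j) by
      rw [Function.update_of_ne (Finset.ne_of_mem_erase hj)],
    Finset.prod_congr rfl fun j hj => show Function.update x i b j (p j) = x j (p j) by
      rw [Function.update_of_ne (Finset.ne_of_mem_erase hj)]]
  ring

theorem pten_zero_slot {x : J → Fin k → F} {i : J} (h : x i = 0) : pten x = 0 :=
  funext fun a => Finset.prod_eq_zero (Finset.mem_univ i) (by rw [h]; rfl)

/-- A subspace containing the tensors of good vectors contains those of their sums. -/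
theorem split_slots (W : Submodule F ((J → Fin k) → F)) (adm good : J → (Fin k → F) → Prop)
    (hsplit : ∀ i v, adm i v → good i v ∨ ∃ a b, v = a + b ∧ good i a ∧ good i b ∧ adm i a ∧ adm i b)
    (h : ∀ z, (∀ i, adm i (z i) ∧ good i (z i)) → pten z ∈ W) :
    ∀ z, (∀ i, adm i (z i)) → pten z ∈ W := by
  suffices H : ∀ U : Finset J, ∀ z, (∀ i, adm i (z i)) → (∀ i, i ∉ U → good i (z i)) → pten z ∈ W by
    exact fun z hz => H Finset.univ z hz fun i hi => absurd (Finset.mem_univ i) hi
  intro U
  induction U using Finset.induction with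
  | empty => exact fun z hz hg => h z fun i => ⟨hz i, hg i (Finset.notMem_empty i)⟩
  | insert i U hi ih =>
    intro z hz hg
    have hgo : ∀ v, adm i v → good i v → pten (Function.update z i v) ∈ W := fun v hv hv' =>
      ih _ (fun l => by
        by_cases hl : l = i
        · subst hl; rwa [Function.update_self]
        · rw [Function.update_of_ne hl]; exact hz l) (fun l hl' => by
        by_cases hl : l = i
        · subst hl; rwa [Function.update_self]
        · rw [Function.update_of_ne hl]; exact hg l (by simp [hl, hl']))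
    rw [← Function.update_eq_self i z]
    rcases hsplit i _ (hz i) with hgi | ⟨a, b, e, ha, hb, ha', hb'⟩
    · exact hgo _ (hz i) hgi
    · rw [e, pten_update_add]
      exact W.add_mem (hgo a ha' ha) (hgo b hb' hb)

namespace OCtx

variable (O : OCtx f Q M)
include O

theorem kp_neg_id (hk : k = 2) {c d : Fin k → F} (hdc : f d c = 1) : Kp O.hf c d = -LinearMap.id := by
  have hc : c ≠ 0 := fun h => by rw [h, f_zero_right O.hf] at hdc; exact zero_ne_one hdc
  have hcd : f c d = -1 := by rw [O.hf.skew c d, hdc]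
  refine LinearMap.ext fun z => ?_
  obtain ⟨w, hw⟩ : ∃ w, w = z + f z d • c - f z c • d := ⟨_, rfl⟩
  have hwc : f w c = 0 := by
    simp [hw, f_sub_left O.hf, O.hf.bilinear.add_left, O.hf.bilinear.smul_left, O.hf.alternating, hdc]
  have hwd : f w d = 0 := by
    simp [hw, f_sub_left O.hf, O.hf.bilinear.add_left, O.hf.bilinear.smul_left, O.hf.alternating, hcd]
  have hw0 : w = 0 := by
    by_contra hne
    by_cases hm : w ∈ Submodule.span F {c}
    · obtain ⟨a, ha⟩ := Submodule.mem_span_singleton.1 hm
      rw [← ha, O.hf.bilinear.smul_left, hcd, mul_neg, mul_one, neg_eq_zero] at hwd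
      exact hne (by rw [← ha, hwd, zero_smul])
    · have := TensorMax.S.four_of_orth O.hf hc hm hwc
      rw [Fintype.card_fin] at this
      omega
  rw [Kp_apply, LinearMap.neg_apply, LinearMap.id_apply]
  linear_combination (norm := module) hw0 - hw

theorem sg_of_mem {x : J → Fin k → F} {l : J} {d : Fin k → F} (hd : f d (x l) = 0 ∨ ∃ i, i ≠ l)
    (h : Mem M (Function.update (fun j => Nc O.hf (x j)) l (Kp O.hf (x l) d))) :
    Sg Q M (pten x) (pten (Function.update x l d)) := by
  have hB := Bt_sf (J := J) (sform O.hf)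
  refine ⟨?_, fun t => ?_⟩
  · rw [O.hpol, Bt_pten (sform O.hf)]
    rcases hd with hd | ⟨i, hi⟩
    · refine Finset.prod_eq_zero (Finset.mem_univ l) ?_
      rw [Function.update_self]; exact (f_eq_zero_comm O.hf).1 hd
    · refine Finset.prod_eq_zero (Finset.mem_univ i) ?_
      rw [Function.update_of_ne hi, O.hf.alternating]
  obtain ⟨g, hg, hgx⟩ := h (-t)
  refine ⟨g, hg, fun z => ?_⟩
  have e : Loc (Function.update (fun j => Nc O.hf (x j)) l (Kp O.hf (x l) d)) =
      (hB.formL (pten (Function.update x l d))).smulRight (pten x) -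
        (hB.formL (pten x)).smulRight (pten (Function.update x l d)) := eq_of_pten fun y => by
    simp only [LinearMap.sub_apply, LinearMap.smulRight_apply, SF.formL_apply, loc_pten]
    rw [Bt_pten (sform O.hf), Bt_pten (sform O.hf)]
    funext a
    simp only [pten, Pi.sub_apply, Pi.smul_apply, smul_eq_mul, ← Finset.mul_prod_erase Finset.univ _ (Finset.mem_univ l),
      Function.update_self, Kp_apply]
    rw [Finset.prod_congr rfl fun j hj => show
        Function.update (fun j => Nc O.hf (x j)) l (Kp O.hf (x l) d) j (y j) (a j) = f (y j) (x j) * x j (a j) by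
          rw [Function.update_of_ne (Finset.ne_of_mem_erase hj)]; rfl,
      Finset.prod_congr rfl fun j hj => show Function.update x l d j (a j) = x j (a j) by
          rw [Function.update_of_ne (Finset.ne_of_mem_erase hj)],
      Finset.prod_congr rfl fun j hj => show f (y j) (Function.update x l d j) = f (y j) (x j) by
          rw [Function.update_of_ne (Finset.ne_of_mem_erase hj)],
      Finset.prod_mul_distrib]
    ring
  rw [hgx, e]
  simp only [LinearMap.smul_apply, LinearMap.sub_apply, LinearMap.smulRight_apply, SF.formL_apply,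
    Orth.pol_smul_right O.hQ, Orth.q_smul O.hQ, O.hpure, O.hpol]
  module

theorem gctx (hk : 4 ≤ k ∨ (2 : F) ≠ 0) (hk0 : 0 < k) : GCtx (f := f) M :=
  ⟨hk0, hk, O.facs, O.pres, O.mono⟩

/-- With two factors the roots of one factor give those of the other. -/
theorem sg_cross (hk : 4 ≤ k) (hJ : Fintype.card J = 2) {j l : J} (hjl : j ≠ l)
    (hR : ∀ (x : J → Fin k → F) (d : Fin k → F), (∀ i, x i ≠ 0) → d ∉ Submodule.span F {x j} → f d (x j) = 0 →
      Sg Q M (pten x) (pten (Function.update x j d)))
    {x : J → Fin k → F} {d : Fin k → F} (hx : ∀ i, x i ≠ 0) (hdc : f d (x l) = 0) :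
    Sg Q M (pten x) (pten (Function.update x l d)) := by
  have hall : ∀ i, i = j ∨ i = l := fun i => by
    by_contra hcon
    rw [not_or] at hcon
    have h1 := Finset.card_le_univ ({i, j, l} : Finset J)
    rw [Finset.card_eq_three.2 ⟨i, j, l, hcon.1, hcon.2, hjl, rfl⟩] at h1
    omega
  obtain ⟨d', hd', hd'c⟩ := TensorMax.S.exists_perp_out O.hf (P := Submodule.span F {x j}) (by
    rw [finrank_span_singleton (hx j), Fintype.card_fin]; omega)
  have hd'x : f d' (x j) = 0 := (f_eq_zero_comm O.hf).1 (hd'c _ (Submodule.mem_span_singleton_self _))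
  obtain ⟨e', he', he'd⟩ := TensorMax.S.exists_with O.hf hd'
  have hje' : f (x j) e' = 0 := he' _ (Submodule.mem_span_singleton_self _)
  have he'n : e' ∉ Submodule.span F {x j} := fun hm => by
    obtain ⟨r, rfl⟩ := Submodule.mem_span_singleton.1 hm
    rw [O.hf.bilinear.smul_right, hd'x, mul_zero] at he'd
    exact zero_ne_one he'd
  have hw := hR x d' hx hd' hd'x
  have key : ∀ z₁, f (x l) z₁ ≠ 0 →
      pten (Function.update x l z₁) ∈ sgSub O.hQ (O.hpure x) M := fun z₁ hz₁ => by
    set z := Function.update x l z₁ with hz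
    have hzj : z j = x j := by rw [hz, Function.update_of_ne hjl]
    have hz0 : ∀ i, z i ≠ 0 := fun i => by
      rcases hall i with rfl | rfl
      · rw [hzj]; exact hx _
      · rw [hz, Function.update_self]; exact fun h => hz₁ (by rw [h, f_zero_right O.hf])
    obtain ⟨g, hg', hgs⟩ := (hR z e' hz0 (by rwa [hzj]) (by rw [hzj]; exact (f_eq_zero_comm O.hf).1 hje')).2 1
    rw [one_smul] at hgs
    have hBs := sform O.hf
    have e1 : Orth.pol Q (pten x) (pten z) = 0 := by
      rw [O.hpol, Bt_pten hBs]
      exact Finset.prod_eq_zero (Finset.mem_univ j) (by rw [hzj, O.hf.alternating])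
    have e2 : Orth.pol Q (pten x) (pten (Function.update z j e')) = 0 := by
      rw [O.hpol, Bt_pten hBs]
      exact Finset.prod_eq_zero (Finset.mem_univ j) (by rw [Function.update_self, hje'])
    have e3 : Orth.pol Q (pten (Function.update x j d')) (pten z) = 0 := by
      rw [O.hpol, Bt_pten hBs]
      exact Finset.prod_eq_zero (Finset.mem_univ j) (by rw [Function.update_self, hzj, hd'x])
    have e4 : Orth.pol Q (pten (Function.update x j d')) (pten (Function.update z j e')) ≠ 0 := by
      rw [O.hpol, Bt_pten hBs, Finset.prod_ne_zero_iff]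
      intro i _
      rcases hall i with rfl | rfl
      · rw [Function.update_self, Function.update_self, he'd]; exact one_ne_zero
      · rw [Function.update_of_ne hjl.symm, Function.update_of_ne hjl.symm, hz, Function.update_self]
        exact hz₁
    have k1 : mv g (pten x) = pten x := Orth.isSiegel_fix O.hQ hgs e1 e2
    have k2 : mv g (pten (Function.update x j d')) = pten (Function.update x j d') -
        Orth.pol Q (pten (Function.update x j d')) (pten (Function.update z j e')) • pten z := by
      rw [hgs, e3, zero_smul, add_zero, mul_zero, add_zero]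
    have h3 : Sg Q M (pten x) (mv g (pten (Function.update x j d'))) := by
      refine ⟨?_, fun t => ?_⟩
      · rw [← k1, Orth.pol_mv O.hQ (O.mem_iso hg'), hw.1]
      · obtain ⟨e, he, hes⟩ := hw.2 t
        refine ⟨g * e * g⁻¹, M.mul_mem (M.mul_mem hg' he) (M.inv_mem hg'), ?_⟩
        have := Orth.isSiegel_conj O.hQ (O.mem_iso hg') hes
        rwa [k1, mv_smul] at this
    have h4 : pten (Function.update x j d') - mv g (pten (Function.update x j d')) ∈
        sgSub O.hQ (O.hpure x) M := Submodule.sub_mem _ hw h3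
    rw [k2, sub_sub_cancel] at h4
    have h5 := Submodule.smul_mem _
      (Orth.pol Q (pten (Function.update x j d')) (pten (Function.update z j e')))⁻¹ h4
    rwa [smul_smul, inv_mul_cancel₀ e4, one_smul] at h5
  obtain ⟨h, hh⟩ := TensorMax.S.exists_pair O.hf (hx l)
  have hxh : f (x l) h = -1 := by rw [O.hf.skew, hh]
  have hxd : f (x l) d = 0 := (f_eq_zero_comm O.hf).1 hdc
  have h1 := key (d + h) (by rw [O.hf.bilinear.add_right, hxd, hxh, zero_add]; exact neg_ne_zero.2 one_ne_zero)
  have h2 := key h (by rw [hxh]; exact neg_ne_zero.2 one_ne_zero)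
  rw [pten_update_add] at h1
  exact mem_sgSub.1 ((Submodule.add_mem_iff_left _ h2).1 h1)

/-- A centre or a middle that is not scalar gives all roots at pure tensors. -/
theorem roots_of_not_scalar (hk : 2 ≤ k) (hJ2 : 2 ≤ Fintype.card J) (hodd : (2 : F) ≠ 0 → Even (Fintype.card J))
    (heven : (2 : F) = 0 → 6 ≤ k) (h : ¬ (ScalarRad (sform O.hf) M ∧ MiddleScalar (sform O.hf) M)) :
    Roots f Q M := by
  classical
  have h6 : 6 ≤ k ∨ (2 : F) ≠ 0 := by
    by_cases h2 : (2 : F) = 0
    · exact Or.inl (heven h2)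
    · exact Or.inr h2
  have C := O.gctx (h6.imp_left fun h => by omega) (by omega)
  obtain ⟨T, S, a, c, hT, hS, hn, ha, hc, haT⟩ := exists_start O.hf h6 C h
  have hno := O.no_pure (by omega : 0 < k)
  have hother : ∀ l : J, ∃ i, i ≠ l := fun l => Fintype.exists_ne_of_one_lt_card hJ2 l
  have key : Target O.hf M ∨ (k = 2 ∧ ∃ (T' : J → ((Fin k → F) →ₗ[F] Fin k → F)) (m : J),
      Mem M T' ∧ PureOn O.hf T' (Finset.univ.erase m)) := by
    by_cases h2 : (2 : F) = 0
    · exact Or.inl (target_of_two O.hf C h2 (heven h2) hno hT hS hn ha hc haT)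
    · exact target_of_odd_char O.hf C h2 (hodd h2) hno hT hS hn ha hc haT
  intro x l d hx hcond
  have hmove : ∀ {u w : Fin k → F}, u ≠ 0 → w ≠ 0 → ∃ b ∈ Iso f, cj b (Nc O.hf u) = Nc O.hf w := fun hu hw => by
    obtain ⟨b, hb, hbu, -⟩ := exists_move_nondeg O.hf (K := Iso f) (nondeg_top O.hf)
      (fun z _ s => stv_mem O.hf z s) Submodule.mem_top Submodule.mem_top hu hw
    exact ⟨b, hb, by rw [cj, Nc_conj_iso O.hf hb, hbu]⟩
  rcases key with ⟨l₀, x₀, d₀, hx₀, hd₀, hd₀c, hM₀⟩ | ⟨hk2, T', m, hT', hP⟩
  · have hk4 : 4 ≤ k := by simpa using TensorMax.S.four_of_orth O.hf (hx₀ l₀) hd₀ hd₀c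
    have hmoved : ∀ (x : J → Fin k → F) (l : J) (d : Fin k → F), (∀ j, x j ≠ 0) → d ∉ Submodule.span F {x l} →
        f d (x l) = 0 → (∃ g ∈ M, MonoOf (Equiv.swap l l₀) g) →
        Mem M (Function.update (fun j => Nc O.hf (x j)) l (Kp O.hf (x l) d)) := by
      intro x l d hx hd hdc hπ
      set π := Equiv.swap l l₀
      set T₀ := Function.update (fun j => Nc O.hf (x₀ j)) l₀ (Kp O.hf (x₀ l₀) d₀)
      have hb : ∀ j, ∃ b ∈ Iso f, cj b (T₀ (π j)) =
          Function.update (fun j => Nc O.hf (x j)) l (Kp O.hf (x l) d) j := by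
        intro j
        by_cases hj : j = l
        · subst hj
          obtain ⟨b, hb, hbc, hbd⟩ := TensorMax.S.exists_move_orth O.hf (hx₀ l₀) hd₀ hd₀c (hx j) hd hdc
          refine ⟨b, hb, ?_⟩
          simp only [π, T₀, Equiv.swap_apply_left, Function.update_self]
          rw [cj, Kp_conj_iso O.hf hb, hbc, hbd]
        · obtain ⟨b, hb, hbj⟩ := hmove (hx₀ (π j)) (hx j)
          refine ⟨b, hb, ?_⟩
          have : π j ≠ l₀ := fun h => hj (π.injective (h.trans (Equiv.swap_apply_left l l₀).symm))
          simp only [T₀, Function.update_of_ne this, Function.update_of_ne hj, hbj]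
      choose B hB hBT using hb
      have := mem_move O.hf C.hk0 C.facs C.pres hπ hM₀ (fun j => by
        simp only [T₀]
        by_cases hj : j = l₀
        · subst hj; rw [Function.update_self]; exact Or.inl (Or.inr ⟨_, _, hx₀ j, hd₀, hd₀c, rfl⟩)
        · rw [Function.update_of_ne hj]; exact Or.inl (Or.inl ⟨_, hx₀ j, rfl⟩)) B hB
      rwa [show (fun j => cj (B j) (T₀ (π j))) = Function.update (fun j => Nc O.hf (x j)) l (Kp O.hf (x l) d) from
        funext hBT] at this
    obtain ⟨-, hd, hdc⟩ := hcond.resolve_right fun h => by omega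
    by_cases hperm : l = l₀ ∨ 3 ≤ Fintype.card J
    · refine O.sg_of_mem (Or.inr (hother l)) (hmoved x l d hx hd hdc ?_)
      rcases hperm with rfl | h3
      · exact ⟨1, M.one_mem, by rw [Equiv.swap_self]; exact monoOf_one⟩
      · exact O.mono (Or.inr h3) _
    · rw [not_or] at hperm
      refine O.sg_cross hk4 (j := l₀) (by omega) (fun h => hperm.1 h.symm) (fun x' d' hx' hd' hd'c => ?_) hx hdc
      exact O.sg_of_mem (Or.inr (hother l₀)) (hmoved x' l₀ d' hx' hd' hd'c
        ⟨1, M.one_mem, by rw [Equiv.swap_self]; exact monoOf_one⟩)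
  · obtain ⟨-, hdc⟩ := hcond.resolve_left fun h => by omega
    set π := Equiv.swap l m
    have hb : ∀ j, ∃ b ∈ Iso f, cj b (T' (π j)) = Function.update (fun j => Nc O.hf (x j)) l LinearMap.id j := by
      intro j
      by_cases hj : j = l
      · subst hj
        exact ⟨1, one_mem _, by rw [cj_one, Equiv.swap_apply_left, hP.2 m (Finset.notMem_erase m _),
          Function.update_self]⟩
      · have : π j ≠ m := fun h => hj (π.injective (h.trans (Equiv.swap_apply_left l m).symm))
        obtain ⟨u, hu, hTu⟩ := hP.1 (π j) (Finset.mem_erase.2 ⟨this, Finset.mem_univ _⟩)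
        obtain ⟨b, hb, hbj⟩ := hmove hu (hx j)
        exact ⟨b, hb, by rw [Function.update_of_ne hj, hTu, hbj]⟩
    choose B hB hBT using hb
    refine O.sg_of_mem (Or.inr (hother l)) ?_
    have := mem_move O.hf C.hk0 C.facs C.pres (O.mono (Or.inl hk2) π) hT' ((hP.good O.hf).slot O.hf) B hB
    rw [show (fun j => cj (B j) (T' (π j))) = Function.update (fun j => Nc O.hf (x j)) l LinearMap.id from
      funext hBT] at this
    intro r
    convert this (-r) using 1
    rw [O.kp_neg_id hk2 hdc, ← neg_one_smul F (LinearMap.id : (Fin k → F) →ₗ[F] Fin k → F), loc_update_smul,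
      smul_smul, mul_neg, mul_one]

end OCtx

end Cfsg.Agent.FormWreath.Grow
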