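/-
A centre or a middle that is not scalar gives the commutator subgroup of the orthogonal group of a tensor power.
-/
import Cfsg.Agent.Lib.FormWreath.GrowRoots

set_option autoImplicit false
set_option linter.unusedSectionVars false

namespace Cfsg.Agent.FormWreath.Grow

open scoped Matrix
open Matrix Cfsg.Agent.Transvec Cfsg.Agent.TensorMax Cfsg.Agent.WreathMax Cfsg.Agent.FormWreath

variable {F : Type*} [Field F] [Finite F] {k : ℕ} {f : (Fin k → F) → (Fin k → F) → F}
variable {J : Type} [Fintype J] [DecidableEq J]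
variable {Q : ((J → Fin k) → F) → F} {M : Subgroup (GL (J → Fin k) F)}

namespace OCtx

variable (O : OCtx f Q M)
include O

theorem exists_indep_orth (hk : 4 ≤ k) {c : Fin k → F} (hc : c ≠ 0) :
    ∃ h, h ∉ Submodule.span F {c} ∧ f h c = 0 := by
  obtain ⟨z, hz, hz'⟩ := TensorMax.S.exists_perp_out O.hf (P := Submodule.span F {c}) (by
    rw [finrank_span_singleton hc, Fintype.card_fin]; omega)
  exact ⟨z, hz, (f_eq_zero_comm O.hf).1 (hz' c (Submodule.mem_span_singleton_self c))⟩

theorem two_or_four (hk : 2 ≤ k) : k = 2 ∨ 4 ≤ k := by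
  obtain ⟨p, hp⟩ := TensorMax.S.even_card O.hf
  rw [Fintype.card_fin] at hp
  omega

theorem one_slot (hk : 2 ≤ k) (hR : Roots f Q M) {c : J → Fin k → F} (hc : ∀ j, c j ≠ 0) (l : J) {d : Fin k → F}
    (hd : f d (c l) = 0 ∨ k = 2) :
    pten (Function.update c l d) ∈ sgSub O.hQ (O.hpure c) M := by
  have hspan : d ∈ Submodule.span F {c l} → pten (Function.update c l d) ∈ sgSub O.hQ (O.hpure c) M := by
    intro hm
    obtain ⟨a, rfl⟩ := Submodule.mem_span_singleton.1 hm
    rw [pten_update_smul, Function.update_eq_self]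
    refine Submodule.smul_mem _ _ ⟨?_, fun t => ⟨1, M.one_mem, ?_⟩⟩
    · rw [Orth.pol_self O.hQ, O.hpure, mul_zero]
    · have h := Orth.isSiegel_add_self O.hQ (O.hpure c) (Orth.pol_zero_right O.hQ _) t
        (Orth.isSiegel_zero O.hQ (pten c))
      rwa [zero_add] at h
  rcases O.two_or_four hk with hk2 | hk4
  · by_cases hdc : f d (c l) = 0
    · refine hspan (by_contra fun hm => ?_)
      have := TensorMax.S.four_of_orth O.hf (hc l) hm hdc
      rw [Fintype.card_fin] at this
      omega
    · have h := hR c l ((f d (c l))⁻¹ • d) hc (Or.inr ⟨hk2, by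
        rw [O.hf.bilinear.smul_left, inv_mul_cancel₀ hdc]⟩)
      have h' := Submodule.smul_mem (sgSub O.hQ (O.hpure c) M) (f d (c l)) h
      rwa [pten_update_smul, smul_smul, mul_inv_cancel₀ hdc, one_smul] at h'
  · have hd0 := hd.resolve_right (by omega)
    by_cases hm : d ∈ Submodule.span F {c l}
    · exact hspan hm
    · exact hR c l d hc (Or.inl ⟨hk4, hm, hd0⟩)

/-- From one second vector to those sharing an orthogonality. -/
theorem step (hk : 2 ≤ k) (hR : Roots f Q M) {c w : J → Fin k → F} (hw0 : ∀ j, w j ≠ 0)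
    (hw : pten w ∈ sgSub O.hQ (O.hpure c) M) {s j : J} (hsj : j ≠ s) (hcj : c j ≠ 0)
    (hwj : w j ∉ Submodule.span F {c j})
    {z : J → Fin k → F} (hzs : f (z s) (w s) = 0) (hzj : f (z j) (c j) = 0) :
    pten z ∈ sgSub O.hQ (O.hpure c) M := by
  obtain ⟨h₀, hh₀, hwh₀⟩ := TensorMax.S.exists_with O.hf hwj
  have hhc : f h₀ (c j) = 0 :=
    (f_eq_zero_comm O.hf).1 (hh₀ (c j) (Submodule.mem_span_singleton_self _))
  have hh0w : f h₀ (w j) = -1 := by rw [O.hf.skew, hwh₀]
  set adm : J → (Fin k → F) → Prop := fun i v =>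
    (i = s → f v (w i) = 0) ∧ (i = j → f v (c i) = 0) with hadm
  set good : J → (Fin k → F) → Prop := fun i v =>
    v ≠ 0 ∧ (i ≠ s → f (w i) v ≠ 0) ∧ (i = s → k = 2 ∨ w i ∉ Submodule.span F {v}) with hgood
  refine split_slots (sgSub O.hQ (O.hpure c) M) (fun i v => adm i v) (fun i v => good i v ∨ v = 0) ?_ ?_ z
    (fun i => ⟨fun e => by subst e; exact hzs, fun e => by subst e; exact hzj⟩)
  · intro i v hv
    by_cases hv0 : v = 0
    · exact Or.inl (Or.inr hv0)
    by_cases hg : good i v
    · exact Or.inl (Or.inl hg)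
    refine Or.inr ?_
    by_cases his : i = s
    · subst his
      have hsk : ¬ k = 2 ∧ w i ∈ Submodule.span F {v} := by
        simp only [hgood, hv0, ne_eq, not_false_iff, not_true, false_implies, true_and, forall_const, not_or,
          not_not] at hg
        exact hg
      obtain ⟨hk2, hm⟩ := hsk
      obtain ⟨h₁, hh₁, hh₁w⟩ := O.exists_indep_orth ((O.two_or_four hk).resolve_left hk2) (hw0 i)
      have hvw : v ∈ Submodule.span F {w i} := by
        obtain ⟨a, ha⟩ := Submodule.mem_span_singleton.1 hm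
        have ha0 : a ≠ 0 := fun h => hw0 i (by rw [← ha, h, zero_smul])
        exact Submodule.mem_span_singleton.2 ⟨a⁻¹, by rw [← ha, smul_smul, inv_mul_cancel₀ ha0, one_smul]⟩
      have hgood' : ∀ u, u ∉ Submodule.span F {w i} → f u (w i) = 0 → good i u := fun u hu hu' =>
        ⟨fun h => hu (h ▸ zero_mem _), fun h => absurd rfl h, fun _ => Or.inr fun hm' => by
          obtain ⟨a, ha⟩ := Submodule.mem_span_singleton.1 hm'
          have ha0 : a ≠ 0 := fun h => hw0 i (by rw [← ha, h, zero_smul])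
          exact hu (Submodule.mem_span_singleton.2
            ⟨a⁻¹, by rw [← ha, smul_smul, inv_mul_cancel₀ ha0, one_smul]⟩)⟩
      refine ⟨v + h₁, -h₁, by abel, Or.inl (hgood' _ (fun h => hh₁ ?_) ?_), Or.inl (hgood' _ (fun h => hh₁ ?_) ?_),
        ⟨fun _ => ?_, fun e => absurd e.symm hsj⟩, ⟨fun _ => ?_, fun e => absurd e.symm hsj⟩⟩
      · simpa using Submodule.sub_mem _ h hvw
      · rw [O.hf.bilinear.add_left, hv.1 rfl, hh₁w, add_zero]
      · simpa using Submodule.neg_mem _ h
      · rw [f_neg_left O.hf, hh₁w, neg_zero]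
      · rw [O.hf.bilinear.add_left, hv.1 rfl, hh₁w, add_zero]
      · rw [f_neg_left O.hf, hh₁w, neg_zero]
    · have hwv : f (w i) v = 0 := by
        simp only [hgood, hv0, his, ne_eq, not_false_iff, false_implies, and_true, true_and, forall_const,
          not_not] at hg
        exact hg
      obtain ⟨h₁, hh₁, hh₁c⟩ : ∃ h₁, f (w i) h₁ = 1 ∧ (i = j → f h₁ (c i) = 0) := by
        by_cases hij : i = j
        · subst hij; exact ⟨h₀, hwh₀, fun _ => hhc⟩
        · obtain ⟨e, he⟩ := TensorMax.S.exists_pair O.hf (hw0 i)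
          exact ⟨-e, by rw [f_neg_right O.hf, O.hf.skew, he, neg_neg], fun e => absurd e hij⟩
      have hne : ∀ u, f (w i) u ≠ 0 → good i u := fun u hu =>
        ⟨fun h => hu (by rw [h, f_zero_right O.hf]), fun _ => hu, fun e => absurd e his⟩
      refine ⟨v + h₁, -h₁, by abel, Or.inl (hne _ ?_), Or.inl (hne _ ?_),
        ⟨fun e => absurd e his, fun e => ?_⟩, ⟨fun e => absurd e his, fun e => ?_⟩⟩
      · rw [O.hf.bilinear.add_right, hwv, hh₁, zero_add]; exact one_ne_zero
      · rw [f_neg_right O.hf, hh₁]; exact neg_ne_zero.2 one_ne_zero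
      · rw [O.hf.bilinear.add_left, hv.2 e, hh₁c e, add_zero]
      · rw [f_neg_left O.hf, hh₁c e, neg_zero]
  intro z hz
  by_cases hz0 : ∃ i, z i = 0
  · obtain ⟨i, hi⟩ := hz0
    rw [pten_zero_slot hi]
    exact zero_mem _
  push Not at hz0
  have hg : ∀ i, good i (z i) := fun i => (hz i).2.resolve_right (hz0 i)
  have hzs' : f (z s) (w s) = 0 := (hz s).1.1 rfl
  have hzj' : f (z j) (c j) = 0 := (hz j).1.2 rfl
  obtain ⟨e', he'c, hwe'⟩ : ∃ e', Cond f (z s) e' ∧ f (w s) e' ≠ 0 := by
    rcases O.two_or_four hk with hk2 | hk4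
    · obtain ⟨e, he⟩ := TensorMax.S.exists_pair O.hf (hz0 s)
      refine ⟨e, Or.inr ⟨hk2, he⟩, fun h => ?_⟩
      by_cases hm : w s ∈ Submodule.span F {z s}
      · obtain ⟨a, ha⟩ := Submodule.mem_span_singleton.1 hm
        rw [← ha, O.hf.bilinear.smul_left, O.hf.skew (z s) e, he, mul_neg, mul_one, neg_eq_zero] at h
        exact hw0 s (by rw [← ha, h, zero_smul])
      · have := TensorMax.S.four_of_orth O.hf (hz0 s) hm ((f_eq_zero_comm O.hf).1 hzs')
        rw [Fintype.card_fin] at this
        omega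
    · have hm : w s ∉ Submodule.span F {z s} := ((hg s).2.2 rfl).resolve_left (by omega)
      obtain ⟨e, he, hwe⟩ := TensorMax.S.exists_with O.hf hm
      refine ⟨e, Or.inl ⟨hk4, fun hm' => ?_, (f_eq_zero_comm O.hf).1 (he _ (Submodule.mem_span_singleton_self _))⟩,
        by rw [hwe]; exact one_ne_zero⟩
      obtain ⟨a, rfl⟩ := Submodule.mem_span_singleton.1 hm'
      rw [O.hf.bilinear.smul_right, (f_eq_zero_comm O.hf).1 hzs', mul_zero] at hwe
      exact zero_ne_one hwe
  obtain ⟨g, hg', hgs⟩ := (hR z s e' hz0 he'c).2 1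
  rw [one_smul] at hgs
  have hB := Bt_sf (J := J) (sform O.hf)
  have e1 : Orth.pol Q (pten c) (pten z) = 0 := by
    rw [O.hpol, Bt_pten (sform O.hf)]
    exact Finset.prod_eq_zero (Finset.mem_univ j) ((f_eq_zero_comm O.hf).1 hzj')
  have e2 : Orth.pol Q (pten c) (pten (Function.update z s e')) = 0 := by
    rw [O.hpol, Bt_pten (sform O.hf)]
    exact Finset.prod_eq_zero (Finset.mem_univ j) (by
      rw [Function.update_of_ne hsj]; exact (f_eq_zero_comm O.hf).1 hzj')
  have e3 : Orth.pol Q (pten w) (pten z) = 0 := by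
    rw [O.hpol, Bt_pten (sform O.hf)]
    exact Finset.prod_eq_zero (Finset.mem_univ s) ((f_eq_zero_comm O.hf).1 hzs')
  have e4 : Orth.pol Q (pten w) (pten (Function.update z s e')) ≠ 0 := by
    rw [O.hpol, Bt_pten (sform O.hf), Finset.prod_ne_zero_iff]
    intro i _
    by_cases his : i = s
    · subst his; rwa [Function.update_self]
    · rw [Function.update_of_ne his]; exact (hg i).2.1 his
  have k1 : mv g (pten c) = pten c := Orth.isSiegel_fix O.hQ hgs e1 e2
  have k2 : mv g (pten w) = pten w - Orth.pol Q (pten w) (pten (Function.update z s e')) • pten z := by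
    rw [hgs, e3, zero_smul, add_zero, mul_zero, add_zero]
  have h3 : Sg Q M (pten c) (mv g (pten w)) := by
    refine ⟨?_, fun t => ?_⟩
    · rw [← k1, Orth.pol_mv O.hQ (O.mem_iso hg'), (mem_sgSub.1 hw).1]
    · obtain ⟨e, he, hes⟩ := (mem_sgSub.1 hw).2 t
      refine ⟨g * e * g⁻¹, M.mul_mem (M.mul_mem hg' he) (M.inv_mem hg'), ?_⟩
      have := Orth.isSiegel_conj O.hQ (O.mem_iso hg') hes
      rwa [k1, mv_smul] at this
  have h4 : pten w - mv g (pten w) ∈ sgSub O.hQ (O.hpure c) M := Submodule.sub_mem _ hw h3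
  rw [k2, sub_sub_cancel] at h4
  have h5 := Submodule.smul_mem _ (Orth.pol Q (pten w) (pten (Function.update z s e')))⁻¹ h4
  rwa [smul_smul, inv_mul_cancel₀ e4, one_smul] at h5

theorem two_slots (hk : 2 ≤ k) (hR : Roots f Q M) {c : J → Fin k → F} (hc : ∀ j, c j ≠ 0) {a b : J} (hab : a ≠ b)
    {z : J → Fin k → F} (hza : f (z a) (c a) = 0) (hzb : f (z b) (c b) = 0) :
    pten z ∈ sgSub O.hQ (O.hpure c) M := by
  obtain ⟨d, hd, hdc⟩ : ∃ d, d ∉ Submodule.span F {c a} ∧ (f d (c a) = 0 ∨ k = 2) := by
    rcases O.two_or_four hk with hk2 | hk4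
    · obtain ⟨d, hd⟩ := TensorMax.S.exists_pair O.hf (hc a)
      refine ⟨d, fun hm => ?_, Or.inr hk2⟩
      obtain ⟨r, rfl⟩ := Submodule.mem_span_singleton.1 hm
      rw [O.hf.bilinear.smul_left, O.hf.alternating, mul_zero] at hd
      exact zero_ne_one hd
    · obtain ⟨d, hd, hdc⟩ := O.exists_indep_orth hk4 (hc a)
      exact ⟨d, hd, Or.inl hdc⟩
  refine O.step hk hR (w := Function.update c a d) (fun j => ?_) (O.one_slot hk hR hc a hdc) (s := b) (j := a)
    hab (hc a) (by rwa [Function.update_self]) ?_ hza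
  · by_cases hj : j = a
    · subst hj; rw [Function.update_self]; exact fun h => hd (h ▸ zero_mem _)
    · rw [Function.update_of_ne hj]; exact hc j
  · rwa [Function.update_of_ne hab.symm]

theorem orth_slot (hk : 2 ≤ k) (hJ2 : 2 ≤ Fintype.card J) (heven : k = 2 → Even (Fintype.card J))
    (hR : Roots f Q M) {c : J → Fin k → F} (hc : ∀ j, c j ≠ 0) {a : J} {z : J → Fin k → F}
    (hza : f (z a) (c a) = 0) : pten z ∈ sgSub O.hQ (O.hpure c) M := by
  classical
  obtain ⟨b, hba⟩ := Fintype.exists_ne_of_one_lt_card hJ2 a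
  by_cases hzb : z b = 0
  · rw [pten_zero_slot hzb]; exact zero_mem _
  rcases O.two_or_four hk with hk2 | hk4
  · have hspan : z a ∈ Submodule.span F {c a} := by_contra fun hm => by
      have := TensorMax.S.four_of_orth O.hf (hc a) hm hza
      rw [Fintype.card_fin] at this
      omega
    by_cases hcard : Fintype.card J = 2
    · have hothers : ∀ i, i ≠ a → i = b := fun i hi => by
        have h1 : (Finset.univ.erase a).card = 1 := by
          rw [Finset.card_erase_of_mem (Finset.mem_univ a), Finset.card_univ, hcard]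
        exact Finset.card_le_one.1 h1.le i (Finset.mem_erase.2 ⟨hi, Finset.mem_univ i⟩) b
          (Finset.mem_erase.2 ⟨hba, Finset.mem_univ b⟩)
      obtain ⟨r, hr⟩ := Submodule.mem_span_singleton.1 hspan
      have e : z = Function.update (Function.update c b (z b)) a (r • c a) := funext fun i => by
        by_cases hi : i = a
        · subst hi; rw [Function.update_self, hr]
        · rw [Function.update_of_ne hi, hothers i hi, Function.update_self]
      rw [e, pten_update_smul, ← show Function.update c b (z b) a = c a from Function.update_of_ne hba.symm _ _,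
        Function.update_eq_self]
      exact Submodule.smul_mem _ _ (O.one_slot hk hR hc b (Or.inr hk2))
    · obtain ⟨p, hp⟩ := heven hk2
      have h2 : 1 < ((Finset.univ.erase a).erase b).card := by
        rw [Finset.card_erase_of_mem (Finset.mem_erase.2 ⟨hba, Finset.mem_univ b⟩),
          Finset.card_erase_of_mem (Finset.mem_univ a), Finset.card_univ]
        omega
      obtain ⟨l, hl, l', hl', hll⟩ := Finset.one_lt_card.1 h2
      simp only [Finset.mem_erase, Finset.mem_univ, and_true] at hl hl'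
      obtain ⟨e, he⟩ := TensorMax.S.exists_pair O.hf (hc a)
      have he' : e ∉ Submodule.span F {c a} := fun hm => by
        obtain ⟨r, rfl⟩ := Submodule.mem_span_singleton.1 hm
        rw [O.hf.bilinear.smul_left, O.hf.alternating, mul_zero] at he
        exact zero_ne_one he
      set w := Function.update (Function.update c a e) b (z b) with hw
      have hwa : w a = e := by simp [hw, hba.symm]
      refine O.step hk hR (w := w) (fun i => ?_) (O.two_slots hk hR hc hll ?_ ?_) (s := b) (j := a) hba.symm (hc a)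
        (by rwa [hwa]) (by simp [hw, O.hf.alternating]) hza
      · by_cases hi : i = b
        · subst hi; simpa [hw] using hzb
        · by_cases hi' : i = a
          · subst hi'; rw [hwa]; exact fun h => he' (h ▸ zero_mem _)
          · simpa [hw, hi, hi'] using hc i
      · simp [hw, hl.1, hl.2, O.hf.alternating]
      · simp [hw, hl'.1, hl'.2, O.hf.alternating]
  · obtain ⟨d, hd, hdc⟩ := O.exists_indep_orth hk4 (hc a)
    obtain ⟨wb, hwb0, hwb⟩ := TensorMax.S.exists_perp_ne_zero O.hf (P := Submodule.span F {c b, z b}) (by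
      rw [Fintype.card_fin]
      exact lt_of_le_of_lt (TensorMax.S.finrank_span_le_two (c b) (z b)) (by omega))
    set w := Function.update (Function.update c a d) b wb with hw
    have hwa : w a = d := by simp [hw, hba.symm]
    refine O.step hk hR (w := w) (fun i => ?_) (O.two_slots hk hR hc hba ?_ ?_) (s := b) (j := a) hba.symm (hc a)
      (by rwa [hwa]) ?_ hza
    · by_cases hi : i = b
      · subst hi; simpa [hw] using hwb0
      · by_cases hi' : i = a
        · subst hi'; rw [hwa]; exact fun h => hd (h ▸ zero_mem _)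
        · simpa [hw, hi, hi'] using hc i
    · rw [show w b = wb by simp [hw]]
      exact (f_eq_zero_comm O.hf).1 (hwb _ (Submodule.subset_span (Set.mem_insert _ _)))
    · rw [hwa]; exact hdc
    · rw [show w b = wb by simp [hw]]
      exact hwb _ (Submodule.subset_span (Set.mem_insert_of_mem _ rfl))

/-- All vectors orthogonal to a pure tensor. -/
theorem sg_pure (hk : 2 ≤ k) (hJ2 : 2 ≤ Fintype.card J) (heven : k = 2 → Even (Fintype.card J))
    (hR : Roots f Q M) {c : J → Fin k → F} (hc : ∀ j, c j ≠ 0) {y : (J → Fin k) → F}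
    (hy : Orth.pol Q y (pten c) = 0) : Sg Q M (pten c) y := by
  classical
  set W := sgSub O.hQ (O.hpure c) M
  have hB := Bt_sf (J := J) (sform O.hf)
  choose e he using fun j => TensorMax.S.exists_pair O.hf (hc j)
  have hstep : ∀ (U : Finset J) (z : J → Fin k → F),
      pten z - (∏ i ∈ U, f (z i) (c i)) • pten (fun i => if i ∈ U then e i else z i) ∈ W := by
    intro U
    induction U using Finset.induction with
    | empty => intro z; simp
    | insert i U hi ih =>
      intro z
      set z' : J → Fin k → F := fun l => if l ∈ U then e l else z l with hz'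
      have h1 : pten (Function.update z' i (z i - f (z i) (c i) • e i)) ∈ W := O.orth_slot hk hJ2 heven hR hc (a := i) (by
        rw [Function.update_self, f_sub_left O.hf, O.hf.bilinear.smul_left, he, mul_one, sub_self])
      rw [sub_eq_add_neg, ← neg_smul, pten_update_add, pten_update_smul] at h1
      rw [show Function.update z' i (z i) = z' from by
          rw [show z i = z' i by simp [hz', hi]]; exact Function.update_eq_self i z',
        show Function.update z' i (e i) = fun l => if l ∈ insert i U then e l else z l from funext fun l => by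
          by_cases hl : l = i
          · subst hl; simp
          · simp [hz', hl]] at h1
      have h2 := W.add_mem (ih z) (W.smul_mem (∏ l ∈ U, f (z l) (c l)) h1)
      convert h2 using 1
      rw [Finset.prod_insert hi]
      simp only [← hz']
      module
  let L : ((J → Fin k) → F) →ₗ[F] (J → Fin k) → F := LinearMap.id - (hB.formL (pten c)).smulRight (pten e)
  have htop : W.comap L = ⊤ := by
    refine Submodule.eq_top_iff'.2 fun v => ?_
    rw [← Finset.univ_sum_single v]
    refine Submodule.sum_mem _ fun a _ => ?_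
    have e1 : pten (fun j => (Pi.single (a j) (1 : F) : Fin k → F)) = Pi.single a 1 := by
      funext b
      unfold pten
      by_cases hb : b = a
      · subst hb; simp
      · obtain ⟨j, hj⟩ := Function.ne_iff.1 hb
        rw [Pi.single_eq_of_ne hb]
        exact Finset.prod_eq_zero (Finset.mem_univ j) (Pi.single_eq_of_ne hj _)
    rw [show (Pi.single a (v a) : (J → Fin k) → F) = v a • Pi.single a 1 by
      rw [← Pi.single_smul, smul_eq_mul, mul_one], ← e1]
    refine Submodule.smul_mem _ _ ?_
    show L _ ∈ W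
    have h := hstep Finset.univ fun j => Pi.single (a j) (1 : F)
    simp only [Finset.mem_univ, if_true] at h
    rw [← Bt_pten (sform O.hf)] at h
    exact h
  have hmem : y ∈ W.comap L := htop ▸ Submodule.mem_top
  have hLy : L y = y := by
    show y - Bt (RingEquiv.refl F) f y (pten c) • pten e = y
    rw [← O.hpol, hy, zero_smul, sub_zero]
  rw [Submodule.mem_comap, hLy] at hmem
  exact hmem

/-- All root elements. -/
theorem omega_le (hk : 2 ≤ k) (hn : 7 ≤ Fintype.card (J → Fin k)) (hJ2 : 2 ≤ Fintype.card J)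
    (heven : k = 2 → Even (Fintype.card J)) (hR : Roots f Q M) : Geo.omegaGL Q ≤ M := by
  classical
  refine le_of_eq (Orth.eq_omega O.hQ hn O.le fun u y hu huy => ?_).symm
  by_cases hu0 : u = 0
  · refine ⟨1, M.one_mem, fun z => ?_⟩
    rw [mv_one, hu0, Orth.pol_zero_right O.hQ]
    simp
  have hB := Bt_sf (J := J) (sform O.hf)
  obtain ⟨x, hp⟩ : ∃ x, Orth.pol Q u (pten x) ≠ 0 := by
    by_contra hcon
    push Not at hcon
    refine hu0 (hB.nondeg u fun y => ?_)
    have : hB.formL u = 0 := eq_of_pten fun z => by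
      rw [SF.formL_apply, ← O.hpol, Orth.pol_comm, hcon, LinearMap.zero_apply]
    have := LinearMap.congr_fun this y
    rw [SF.formL_apply, LinearMap.zero_apply] at this
    exact hB.comm.1 this
  have hx : ∀ j, x j ≠ 0 := fun j h => hp (by rw [pten_zero_slot h, Orth.pol_zero_right O.hQ])
  choose p hp' using fun j => TensorMax.S.exists_pair O.hf (hx j)
  have hd' : Orth.pol Q (pten p) (pten x) = 1 := by
    rw [O.hpol, Bt_pten (sform O.hf)]; exact Finset.prod_eq_one fun j _ => hp' j
  obtain ⟨l, hl⟩ : ∃ l, l = (Orth.pol Q u (pten x))⁻¹ := ⟨_, rfl⟩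
  have hl0 : l ≠ 0 := hl ▸ inv_ne_zero hp
  have hu1 : Orth.pol Q (l • u) (pten x) = 1 := by
    rw [Orth.pol_smul_left O.hQ, hl, inv_mul_cancel₀ hp]
  obtain ⟨yy, hyy, -, hmove⟩ := Orth.exists_move_along O.hQ (v := pten x) (u := l • u) (w := pten p)
    (O.hpure x) (by rw [Orth.q_smul O.hQ, hu, O.hpure, mul_zero]) hu1 hd'
  obtain ⟨g, hg, hgs⟩ := (O.sg_pure hk hJ2 heven hR hx (by rw [Orth.pol_comm, hyy])).2 1
  rw [one_smul] at hgs
  have hgu : mv g (l • u) = pten p := hmove g hgs
  have hp0 : ∀ j, p j ≠ 0 := fun j h => by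
    have := hp' j
    rw [h, f_zero_left O.hf] at this
    exact zero_ne_one this
  obtain ⟨e, he, hes⟩ := (O.sg_pure hk hJ2 heven hR hp0 (y := mv g y) (by
    rw [← hgu, Orth.pol_mv O.hQ (O.mem_iso hg), Orth.pol_smul_right O.hQ, Orth.pol_comm, huy, mul_zero])).2 l⁻¹
  refine ⟨g⁻¹ * e * g, M.mul_mem (M.mul_mem (M.inv_mem hg) he) hg, ?_⟩
  have h2 := Orth.isSiegel_conj O.hQ (O.mem_iso (M.inv_mem hg)) hes
  rw [inv_inv, ← hgu, mv_inv_mv, mv_smul, mv_inv_mv] at h2
  intro w
  rw [h2, Orth.q_smul O.hQ]
  simp only [Orth.pol_smul_right O.hQ, smul_smul]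
  field_simp

end OCtx

/-- A centre or a middle that is not scalar gives the commutator subgroup of the orthogonal group. -/
theorem omega_le_of_not_scalar (hU : UForm (RingEquiv.refl F) (-1) f) (hQ : Geo.IsNondegenerateQuadraticForm Q)
    (hpol : ∀ x y, Orth.pol Q x y = Bt (RingEquiv.refl F) f x y) (hpure : ∀ x, Q (pten x) = 0)
    (hk : 2 ≤ k) (hn : 7 ≤ Fintype.card (J → Fin k)) (hJ2 : 2 ≤ Fintype.card J)
    (hodd : (2 : F) ≠ 0 → Even (Fintype.card J)) (heven : (2 : F) = 0 → 6 ≤ k)
    (hM : M ≤ Geo.omegaGL Q) (hFac : FacSU f M) 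
    (hmono : k = 2 ∨ 3 ≤ Fintype.card J → ∀ π : Equiv.Perm J, ∃ g ∈ M, MonoOf π g)
    (h : ¬ (ScalarRad hU.toSF M ∧ MiddleScalar hU.toSF M)) : Geo.omegaGL Q ≤ M := by
  have hf := symp_of_uform hU
  have O : OCtx f Q M := ⟨hf, hQ, hpol, hpure, hM, hFac, hmono⟩
  refine O.omega_le hk hn hJ2 (fun hk2 => hodd fun h2 => ?_) (O.roots_of_not_scalar hk hJ2 hodd heven h)
  have := heven h2
  omega

end Cfsg.Agent.FormWreath.Grow
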