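/-
A group of similitudes of a tensor power of an alternating form with scalar radicals and middles, containing the
isometries and the permutations of the slots, consists of monomial members.
-/
import Cfsg.Agent.Lib.FormWreath.BadOdd
import Cfsg.Agent.Lib.FormWreath.BadEven
import Cfsg.Agent.Lib.UWreath.Left

set_option autoImplicit false
set_option linter.unusedSectionVars false

namespace Cfsg.Agent.FormWreath

open scoped Matrix
open Matrix Cfsg.Agent.Transvec Cfsg.Agent.TensorMax Cfsg.Agent.WreathMax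

variable {F : Type*} [Field F] [Finite F] {k : ℕ} {f : (Fin k → F) → (Fin k → F) → F}

namespace Mon

/-- One step: with monomial left parts every member is monomial. -/
theorem mono_step {J : Type} [Fintype J] [DecidableEq J] [Nonempty J] {M : Subgroup (GL (J → Fin k) F)}
    (C : Mon f M) (ih : LeftMono M) {g : GL (J → Fin k) F} (hg : g ∈ M) : Mono g := by
  classical
  obtain ⟨i₀⟩ := ‹Nonempty J›
  set c₀ : Fin k → F := Pi.single ⟨0, by have := C.hk; omega⟩ 1
  have hc₀ : c₀ ≠ 0 := Pi.single_ne_zero_iff.2 one_ne_zero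
  have hT₀ : IsoLn f (Ln (J := J) i₀ c₀) := ⟨i₀, c₀, hc₀, C.alt _, rfl⟩
  by_contra hno
  have hbad₀ : ¬IsoLn f ((Ln i₀ c₀).map (mvLin g)) := by
    rintro ⟨l, e, he, -, h⟩
    exact hno (C.mono_of_line ih hg hc₀ he h)
  let Q : ℕ → Prop := fun n => ∃ g ∈ M, ∃ S T, IsoLn f S ∧ IsoLn f T ∧ ¬IsoLn f (T.map (mvLin g)) ∧
    Module.finrank F ↥(T.map (mvLin g) ⊓ S) = n
  have hQ₀ : Q (Module.finrank F ↥((Ln i₀ c₀).map (mvLin g) ⊓ Ln i₀ c₀)) :=
    ⟨g, hg, _, _, hT₀, hT₀, hbad₀, rfl⟩
  set m := Nat.findGreatest Q (Module.finrank F ((J → Fin k) → F))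
  have hmax : MaxMeet M (IsoLn f) m := fun g hg S T hS hT hbad =>
    Nat.le_findGreatest (Submodule.finrank_le _) ⟨g, hg, S, T, hS, hT, hbad, rfl⟩
  obtain ⟨g₁, hg₁, S, T, hS, hT, hbad, hm⟩ := Nat.findGreatest_spec (P := Q) (Submodule.finrank_le _) hQ₀
  obtain ⟨i, c, hc, -, rfl⟩ := hS
  obtain ⟨l, e, he, -, hTe⟩ := hT
  have Pr := pair_of_max (C.family ih) hmax hg₁ ⟨i, c, hc, C.alt c, rfl⟩ ⟨l, e, he, C.alt e, hTe⟩ hbad hm.ge
    (C.root hc) (hTe ▸ C.root he)
  by_cases h2 : (2 : F) = 0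
  · exact C.even_false' ih hmax h2 hg₁ hc ⟨l, e, he, C.alt e, hTe⟩ hbad Pr hm.ge
  · exact C.odd_false ih hmax h2 hc hbad Pr hm.ge

/-- Every member is monomial. -/
theorem all_mono {J : Type} [Fintype J] [DecidableEq J] [Nonempty J] {M : Subgroup (GL (J → Fin k) F)}
    (C : Mon f M) : ∀ g ∈ M, Mono g := by
  suffices H : ∀ (n : ℕ) (J : Type) [Fintype J] [DecidableEq J], Fintype.card J = n → 1 ≤ n →
      ∀ M : Subgroup (GL (J → Fin k) F), Mon f M → ∀ g ∈ M, Mono g from
    H _ J rfl Fintype.card_pos M C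
  intro n
  induction n using Nat.strong_induction_on with
  | _ n ih =>
    intro J _ _ hcard hn M C g hg
    classical
    haveI : Nonempty J := Fintype.card_pos_iff.1 (by omega)
    by_cases h1 : n = 1
    · haveI : Subsingleton J := Fintype.card_le_one_iff_subsingleton.1 (by omega)
      letI : Unique J := uniqueOfSubsingleton (Classical.arbitrary J)
      exact UWreath.mono_of_single g
    refine C.mono_step (fun i B hB => ?_) hg
    have hc' : Fintype.card {j // j ≠ i} = n - 1 := by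
      rw [Fintype.card_subtype_compl, Fintype.card_subtype_eq, hcard]
    exact ih (n - 1) (by omega) _ hc' (by omega) _ (C.left' i) B hB

end Mon

end Cfsg.Agent.FormWreath
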