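/-
The stabiliser of a tensor power of a symplectic form is maximal in the symplectic group.
-/
import Cfsg.Agent.Lib.FormWreath.Main
import Cfsg.Agent.Lib.FormWreath.GrowSp
import Cfsg.Agent.Lib.UWreath.Main

set_option autoImplicit false
set_option linter.unusedSectionVars false

namespace Cfsg.Agent.FormWreath

open scoped Matrix
open Matrix Cfsg.Agent.Transvec Cfsg.Agent.TensorMax Cfsg.Agent.WreathMax

variable {F : Type*} [Field F] {k : ℕ} {f : (Fin k → F) → (Fin k → F) → F}

local notation "σ₁" => RingEquiv.refl F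

section Members

variable [Finite F] {J : Type} [Fintype J] [DecidableEq J]

/-- A map preserving the tensor power on pure tensors preserves it. -/
theorem pres_of_pten (h : SF σ₁ (-1) f) {g : GL (J → Fin k) F}
    (H : ∀ x y : J → Fin k → F,
      Bt σ₁ f (mv g (pten x)) (mv g (pten y)) = Bt σ₁ f (pten x) (pten y))
    (x y : (J → Fin k) → F) : Bt σ₁ f (mv g x) (mv g y) = Bt σ₁ f x y := by
  have hB := Bt_sf (J := J) h
  have h1 : ∀ (q : J → Fin k → F) u, Bt σ₁ f (mv g u) (mv g (pten q)) = Bt σ₁ f u (pten q) := fun q u =>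
    LinearMap.congr_fun (eq_of_pten (f := (hB.formL (mv g (pten q))).comp (mvLin g)) (g := hB.formL (pten q))
      fun z => H z q) u
  have h2 := LinearMap.congr_fun (eq_of_pten (f := (hB.formL (mv g x)).comp (mvLin g)) (g := hB.formL x)
    fun z => show Bt σ₁ f (mv g (pten z)) (mv g x) = Bt σ₁ f (pten z) x by
      rw [hB.symm, h1, ← hB.symm]) y
  exact (hB.symm (mv g x) (mv g y)).trans ((congrArg _ h2).trans (hB.symm x y).symm)

theorem pm_pres (h : SF σ₁ (-1) f) (π : Equiv.Perm J) (x y : (J → Fin k) → F) :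
    Bt σ₁ f (mv (pm π) x) (mv (pm π) y) = Bt σ₁ f x y := by
  refine pres_of_pten h (fun x y => ?_) x y
  rw [UWreath.mv_pm_pten, UWreath.mv_pm_pten, Bt_pten h, Bt_pten h]
  exact Fintype.prod_equiv (π.symm) _ _ fun j => rfl

theorem fac_pres (h : SF σ₁ (-1) f) (i : J) {A : GL (Fin k) F} (hA : ∀ x y, f (mv A x) (mv A y) = f x y)
    (x y : (J → Fin k) → F) : Bt σ₁ f (mv (fac i A) x) (mv (fac i A) y) = Bt σ₁ f x y := by
  refine pres_of_pten h (fun x y => ?_) x y
  rw [mv_fac, mv_fac, Bt_pten h, Bt_pten h]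
  refine Finset.prod_congr rfl fun j _ => ?_
  rcases eq_or_ne j i with rfl | hj
  · rw [Function.update_self, Function.update_self, hA]
  · rw [Function.update_of_ne hj, Function.update_of_ne hj]

/-- A monomial map does not add a pure tensor to an opposite one. -/
theorem not_mono_transvection [Nontrivial J] (h : SF σ₁ (-1) f) (halt : ∀ v, f v v = 0) (hk : 0 < k) :
    ∃ v y : J → Fin k → F, Bt σ₁ f (pten y) (pten v) = 1 ∧ ∀ g : GL (J → Fin k) F,
      mv g (pten y) = pten y + pten v → ¬Mono g := by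
  classical
  set c : Fin k → F := Pi.single ⟨0, hk⟩ 1
  have hc : c ≠ 0 := Pi.single_ne_zero_iff.2 one_ne_zero
  obtain ⟨z, hz⟩ : ∃ z, f z c ≠ 0 := by
    by_contra hcon
    push Not at hcon
    exact hc (h.nondeg c fun y => h.comm.1 (hcon y))
  set d := (f z c)⁻¹ • z
  have hd : f d c = 1 := by rw [h.smul_left, inv_mul_cancel₀ hz]
  refine ⟨fun _ => c, fun _ => d, by rw [Bt_pten h]; exact Finset.prod_eq_one fun _ _ => hd, fun g hg => ?_⟩
  rintro ⟨π, A, hA⟩
  obtain ⟨i⟩ := (inferInstance : Nonempty J)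
  haveI : Nonempty {j // j ≠ i} := let ⟨j, hj⟩ := exists_ne i; ⟨⟨j, hj⟩⟩
  rw [hA] at hg
  set u := fun j => mv (A j) ((fun _ : J => d) (π j))
  have hcn : c ∉ Submodule.span F {d} := fun hm => by
    obtain ⟨r, hr⟩ := Submodule.mem_span_singleton.1 hm
    rw [← hr, h.smul_right, halt, mul_zero] at hd
    exact zero_ne_one hd
  have hdn : d ∉ Submodule.span F {c} := fun hm => by
    obtain ⟨r, hr⟩ := Submodule.mem_span_singleton.1 hm
    rw [← hr, h.smul_left, halt, mul_zero] at hd
    exact zero_ne_one hd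
  obtain ⟨θ, hθ, hθc⟩ := exists_dot hcn
  obtain ⟨η, hη, hηd⟩ := exists_dot hdn
  have hθd := hθ d (Submodule.mem_span_singleton_self d)
  have hηc := hη c (Submodule.mem_span_singleton_self c)
  set C : Rest i k → F := pten fun _ : {j // j ≠ i} => c
  set D : Rest i k → F := pten fun _ : {j // j ≠ i} => d
  set U : Rest i k → F := pten fun q : {j // j ≠ i} => u q
  have e : ten U (u i) = ten D d + ten C c := by
    have := congrArg (push i) hg
    rwa [map_add, push_pten, push_pten, push_pten] at this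
  have e1 := congrArg (ctr θ) e
  have e2 := congrArg (ctr η) e
  simp only [map_add, ctr_ten, hθc, hθd, hηc, hηd, one_smul, zero_smul, zero_add, add_zero] at e1 e2
  have hne : θ ⬝ᵥ u i ≠ 0 := fun h0 => by
    rw [h0, zero_smul] at e1
    exact pten_ne_zero (fun _ => hc) e1.symm
  have e3 : D = ((η ⬝ᵥ u i) / (θ ⬝ᵥ u i)) • C := by
    rw [← e1, ← e2, smul_smul, div_mul_cancel₀ _ hne]
  have h1 : Bt σ₁ f D C = 1 := by rw [Bt_pten h]; exact Finset.prod_eq_one fun _ _ => hd
  rw [e3, (Bt_sf h).smul_left, Bt_pten h, Finset.prod_eq_zero (Finset.mem_univ (Classical.arbitrary _)) (halt c),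
    mul_zero] at h1
  exact zero_ne_one h1

end Members

/-- The monomial isometries form a maximal subgroup of the symplectic group. -/
theorem sp_maximal_std [Fintype F] {t : ℕ} (hk : 2 ≤ k) (ht : Odd t) (ht3 : 3 ≤ t) (h2 : (2 : F) ≠ 0)
    (hq : k = 2 → ∃ a : F, a ≠ 0 ∧ a * a ≠ 1) (hf : Geo.IsSymplecticForm f) :
    Geo.IsMaximalIn (preserving (Units.coeHom (Matrix (Fin t → Fin k) (Fin t → Fin k) F)) (Bt (RingEquiv.refl F) f))
      (Geo.tensorWreathStandard k t F ⊓
        preserving (Units.coeHom (Matrix (Fin t → Fin k) (Fin t → Fin k) F)) (Bt (RingEquiv.refl F) f)) := by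
  classical
  haveI : Nonempty (Fin t) := ⟨⟨0, by omega⟩⟩
  haveI : Nontrivial (Fin t) := Fin.nontrivial_iff_two_le.2 (by omega)
  have hs := Grow.sform hf
  have hJ : Odd (Fintype.card (Fin t)) := by rwa [Fintype.card_fin]
  refine ⟨lt_of_le_of_ne inf_le_right fun heq => ?_, fun M h1 hM2 => ?_⟩
  · obtain ⟨v, y, hyv, hnot⟩ := not_mono_transvection (J := Fin t) hs hf.alternating (by omega)
    have hB := Grow.bt_symp (J := Fin t) hf h2 hJ
    have hg := stv_mem hB (pten v) (1 : F)
    rw [← heq] at hg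
    exact hnot _ (by rw [mv_stv, hyv, mul_one, one_smul]) ((mem_standard_iff _).1 hg.1)
  have hU : UForm σ₁ (-1) f := ⟨hs, Or.inl ⟨fun _ => rfl, rfl, hf.alternating⟩⟩
  have hFac : FacSU f M := fun i A hA _ =>
    h1 ⟨(mem_standard_iff _).2 ⟨1, monoOf_fac i A⟩, fac_pres hs i hA⟩
  have hmono : ∀ π : Equiv.Perm (Fin t), ∃ g ∈ M, MonoOf π g := fun π =>
    ⟨pm π⁻¹, h1 ⟨(mem_standard_iff _).2 ⟨_, monoOf_pm π⁻¹⟩, pm_pres hs _⟩, by
      have := monoOf_pm (F := F) (m := k) π⁻¹
      rwa [inv_inv] at this⟩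
  by_cases hRM : ScalarRad hU.toSF M ∧ MiddleScalar hU.toSF M
  · have C : Mon f M :=
      { hf := hs
        alt := hf.alternating
        hk := hk
        hq := hq
        sim := fun g hg => ⟨1, one_ne_zero, fun x y => by rw [one_mul]; exact hM2 hg x y⟩
        hM := hFac
        rad := hRM.1
        mid := fun i c hc g hg _ h3 h4 => hRM.2 i c hc (hf.alternating c) g hg h3 h4
        perm := fun _ => hmono
        big := fun h => absurd h h2 }
    exact Or.inl (le_antisymm (fun g hg => ⟨(mem_standard_iff g).2 (C.all_mono g hg), hM2 hg⟩) h1)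
  · exact Or.inr (le_antisymm hM2 (Grow.sp_le_of_not_scalar hU h2 hk hJ hM2 hFac hmono hRM))

/-- The stabiliser of a symplectic tensor power decomposition is maximal in the symplectic group. -/
theorem symp_tensor_wreath_maximal [Fintype F] (m : ℕ) (hm : 7 ≤ m) (hodd : Odd (Fintype.card F)) (k' t : ℕ)
    (ht : Odd t) (ht3 : 3 ≤ t) (hex : ¬ (Fintype.card F = 3 ∧ k' = 2)) (e : (Fin m ⊕ Fin m) ≃ (Fin t → Fin k'))
    (P : GL (Fin m ⊕ Fin m) F) (f₁ : (Fin k' → F) → (Fin k' → F) → F) (hf₁ : Geo.IsSymplecticForm f₁)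
    (hT : Geo.IsTensorPowerFormStructure id (sympForm m F) f₁ e P) :
    Geo.IsMaximalIn (spGL m F) (Geo.tensorWreathSubgroup k' t e P ⊓ spGL m F) := by
  classical
  have hcard : m + m = k' ^ t := by simpa using Fintype.card_congr e
  have hk : 2 ≤ k' := by
    by_contra hlt
    interval_cases k'
    · rw [zero_pow (by omega)] at hcard; omega
    · rw [one_pow] at hcard; omega
  have h2 : (2 : F) ≠ 0 := Orth.two_ne_zero_of_odd_card hodd
  have hq : k' = 2 → ∃ a : F, a ≠ 0 ∧ a * a ≠ 1 := fun hk2 => by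
    by_contra hcon
    push Not at hcon
    have h3 : (Finset.univ : Finset F) ⊆ {0, 1, -1} := fun a _ => by
      by_cases ha : a = 0
      · simp [ha]
      · rcases mul_self_eq_one_iff.1 (hcon a ha) with h | h <;> simp [h]
    have h4 := (Finset.card_le_card h3).trans Finset.card_le_three
    rw [Finset.card_univ] at h4
    have h5 := Fintype.one_lt_card (α := F)
    obtain ⟨r, hr⟩ := hodd
    exact hex ⟨by omega, hk2⟩
  obtain ⟨c, hc, hT⟩ := hT
  have h := sp_maximal_std (f := f₁) (t := t) hk ht ht3 h2 hq hf₁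
  have hmap := UWreath.map_isometries (h := Bt (J := Fin t) (RingEquiv.refl F) f₁) e P (f' := sympForm m F) hc
    (fun x y => hT x y)
  have h' := TensorMax.isMaximalIn_map (MulAut.conj P) (TensorMax.isMaximalIn_map (Geo.glReindex e.symm) h)
  simp only [Subgroup.map_inf _ _ (Geo.glReindex (F := F) e.symm).toMonoidHom (Geo.glReindex e.symm).injective,
    Subgroup.map_inf _ _ (MulAut.conj P).toMonoidHom (MulAut.conj P).injective] at h'
  rw [hmap] at h'
  exact h'

end Cfsg.Agent.FormWreath
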