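/-
Permutations of at least three slots lie in the commutator subgroup of the orthogonal group of a tensor power of a
symplectic form: in odd characteristic a transposition is a square, in characteristic two it is an involution with
totally singular image.
-/
import Cfsg.Agent.Lib.FormWreath.SpMax
import Cfsg.Agent.Lib.FormWreath.GrowOmega
import Cfsg.Agent.Lib.TensorMax.SMain
import Cfsg.Agent.Lib.LinearBlock.LinSympInvolution
import Cfsg.Agent.Lib.Orthogonal.OmegaIndex
import Cfsg.Agent.Lib.OrthEvenMax.Base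

set_option autoImplicit false
set_option linter.unusedSectionVars false

namespace Cfsg.Agent.FormWreath

open scoped Matrix
open Matrix Cfsg.Agent.Transvec Cfsg.Agent.TensorMax Cfsg.Agent.WreathMax

variable {F : Type*} [Field F]

section General

variable {ι : Type} [Fintype ι] [DecidableEq ι] {Q : (ι → F) → F}

/-- Squares of isometries lie in the commutator subgroup. -/
theorem mul_self_mem_omega [Fintype F] (hQ : Geo.IsNondegenerateQuadraticForm Q) (hn : 5 ≤ Fintype.card ι)
    {g : GL ι F} (hg : g ∈ isometryGroup F Q) : g * g ∈ Geo.omegaGL Q := by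
  obtain ⟨χ, hker, -, -⟩ := Cfsg.Agent.Orth.exists_matrix_spinor (OrthEvenMax.qMap hQ)
    (OrthEvenMax.qMap_nondeg hQ) (by omega) (Or.inr (by omega))
  set x : isometryGroup F ⇑(OrthEvenMax.qMap hQ) := ⟨g, hg⟩
  refine ⟨x * x, ?_, rfl⟩
  show x * x ∈ Omega F ⇑(OrthEvenMax.qMap hQ)
  rw [← hker, MonoidHom.mem_ker, map_mul]
  refine Prod.ext ?_ ?_
  · show (χ x).1 * (χ x).1 = 1
    exact (show ∀ a : Multiplicative (ZMod 2), a * a = 1 by decide) _
  · show (χ x).2 * (χ x).2 = 1
    obtain ⟨u, hu⟩ := QuotientGroup.mk_surjective (χ x).2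
    rw [← hu, ← QuotientGroup.mk_mul, QuotientGroup.eq_one_iff]
    exact ⟨u, pow_two u⟩

/-- In characteristic two an involution with totally singular image lies in the commutator subgroup. -/
theorem mem_omega_of_singular [Finite F] (hQ : Geo.IsNondegenerateQuadraticForm Q) (hn : 11 ≤ Fintype.card ι)
    (h2 : (2 : F) = 0) {g : GL ι F} (hg : g ∈ isometryGroup F Q)
    (hgg : ∀ x, mv g (mv g x) = x) (hQN : ∀ x, Q (mv g x - x) = 0) : g ∈ Geo.omegaGL Q := by
  classical
  set N : (ι → F) →ₗ[F] ι → F := mvLin g - LinearMap.id with hN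
  have hNx : ∀ x, N x = mv g x - x := fun x => rfl
  have hneg : ∀ x : ι → F, -x = x := fun x =>
    neg_eq_of_add_eq_zero_left (by rw [← two_smul F x, h2, zero_smul])
  have hNN : ∀ x, N (N x) = 0 := fun x => by
    rw [hNx, hNx, mv_sub, hgg, sub_eq_zero, ← neg_sub, hneg]
  have hadj : ∀ x y, Transvec.Orth.pol Q (N x) y = Transvec.Orth.pol Q x (N y) := fun x y => by
    rw [hNx, hNx, Transvec.Orth.pol_sub_left hQ, ← Transvec.Orth.pol_mv hQ hg (mv g x) y, hgg]
    rw [sub_eq_add_neg (mv g y) y, hneg, Transvec.Orth.pol_add_right hQ]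
    have : ∀ a : F, -a = a := fun a => by linear_combination -(a * h2)
    rw [sub_eq_add_neg, this]
  set W := LinearMap.range N with hW
  set b := Module.finBasis F W
  set P : (ι → F) →ₗ[F] Fin (Module.finrank F W) → F :=
    (b.equivFun.toLinearMap).comp N.rangeRestrict with hP
  set R : (Fin (Module.finrank F W) → F) →ₗ[F] ι → F := W.subtype.comp b.equivFun.symm.toLinearMap with hR
  have hRP : ∀ x, R (P x) = N x := fun x => by simp [hP, hR]
  have hRinj : Function.Injective R := fun a a' h => b.equivFun.symm.injective (Subtype.ext h)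
  have hPsurj : Function.Surjective P :=
    b.equivFun.surjective.comp (LinearMap.surjective_rangeRestrict N)
  obtain ⟨pre, hpre⟩ := P.exists_rightInverse_of_surjective (LinearMap.range_eq_top.2 hPsurj)
  have hPpre : ∀ a, P (pre a) = a := fun a => LinearMap.congr_fun hpre a
  have hRN : ∀ a, R a = N (pre a) := fun a => by rw [← hRP, hPpre]
  set f : (Fin (Module.finrank F W) → F) → (Fin (Module.finrank F W) → F) → F :=
    fun p a => Transvec.Orth.pol Q (pre p) (R a) with hfdef
  have hkey : ∀ x a, Transvec.Orth.pol Q x (R a) = f (P x) a := fun x a => by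
    show _ = Transvec.Orth.pol Q (pre (P x)) (R a)
    rw [hRN, ← hadj, ← hadj, ← hRP x, ← hRP (pre (P x)), hPpre]
  have halt : ∀ p, f p p = 0 := fun p => by
    show Transvec.Orth.pol Q (pre p) (R p) = 0
    rw [hRN]
    have e := Transvec.Orth.mem_isometry.1 hg (pre p)
    rw [show mv g (pre p) = pre p + N (pre p) by rw [hNx, add_sub_cancel], Transvec.Orth.q_add hQ,
      show Q (N (pre p)) = 0 from hQN _, add_zero, add_eq_left] at e
    exact e
  have hbil : Geo.IsBilinearForm f := ⟨fun p p' a => by simp [hfdef, Transvec.Orth.pol_add_left hQ],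
    fun r p a => by simp [hfdef, Transvec.Orth.pol_smul_left hQ],
    fun a p p' => by simp [hfdef, Transvec.Orth.pol_add_right hQ],
    fun r a p => by simp [hfdef, Transvec.Orth.pol_smul_right hQ]⟩
  have hskew : ∀ p a, f p a = -f a p := fun p a => by
    have := halt (p + a)
    rw [hbil.add_left, hbil.add_right, hbil.add_right, halt, halt] at this
    linear_combination this
  have hf : Geo.IsSymplecticForm f := ⟨hbil, hskew, halt, fun v hv => by
    obtain ⟨⟨y, hy⟩, -⟩ := hQ.nondegenerate (R v) fun h => hv (hRinj (h.trans (map_zero R).symm))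
    have hy' : f (P y) v ≠ 0 := fun h => hy ((hkey y v).trans h)
    exact ⟨⟨P y, hy'⟩, ⟨P y, fun h => hy' (by rw [hskew, h, neg_zero])⟩⟩⟩
  refine S.omega_of_alt hQ hn hf R P (fun a => by rw [hRN, hNx]; exact hQN _) hkey (fun a => ?_) 1 g fun x => ?_
  · refine hRinj ?_
    rw [hRP, hRN, hNN, map_zero]
  · rw [hRP, one_smul, hNx, add_sub_cancel]

/-- A quadratic form invariant on spanning vectors and its polar form is invariant. -/
theorem isometry_of_span (hQ : Geo.IsNondegenerateQuadraticForm Q) {g : GL ι F}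
    (hpol : ∀ x y, Transvec.Orth.pol Q (mv g x) (mv g y) = Transvec.Orth.pol Q x y) {S : Set (ι → F)}
    (hS : Submodule.span F S = ⊤) (h : ∀ x ∈ S, Q (mv g x) = Q x) : g ∈ isometryGroup F Q := by
  refine Transvec.Orth.mem_isometry.2 fun x => ?_
  have hx : x ∈ Submodule.span F S := hS ▸ Submodule.mem_top
  induction hx using Submodule.span_induction with
  | mem v hv => exact h v hv
  | zero => rw [mv_zero]
  | add u v _ _ hu hv => rw [mv_add, Transvec.Orth.q_add hQ, Transvec.Orth.q_add hQ, hu, hv, hpol]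
  | smul r u _ hu => rw [mv_smul, Transvec.Orth.q_smul hQ, Transvec.Orth.q_smul hQ, hu]

/-- An involution commuting with an isometry squaring to the negative of the identity is a square. -/
theorem exists_sqrt [Finite F] (hQ : Geo.IsNondegenerateQuadraticForm Q) (h2 : (2 : F) ≠ 0)
    {x w : GL ι F} (hx : x ∈ isometryGroup F Q) (hw : w ∈ isometryGroup F Q) (hxx : ∀ v, mv x (mv x v) = v)
    (hww : ∀ v, mv w (mv w v) = -v) (hcomm : ∀ v, mv x (mv w v) = mv w (mv x v)) :
    ∃ y ∈ isometryGroup F Q, y * y = x := by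
  set L : (ι → F) →ₗ[F] ι → F :=
    (2 : F)⁻¹ • (LinearMap.id + mvLin x + mvLin w - (mvLin x).comp (mvLin w)) with hLdef
  have hL : ∀ v, L v = (2 : F)⁻¹ • (v + mv x v + mv w v - mv x (mv w v)) := fun v => rfl
  have hLL : ∀ v, L (L v) = mv x v := fun v => by
    rw [hL v, map_smul, map_sub, map_add, map_add, hL, hL, hL, hL]
    simp only [hxx, hww, hcomm, mv_neg]
    match_scalars <;> field_simp <;> ring
  have hinj : Function.Injective L := fun u v h => mv_inj x (by rw [← hLL, ← hLL, h])
  have hdet : IsUnit (LinearMap.toMatrix' L) := by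
    rw [← Matrix.mulVec_injective_iff_isUnit]
    intro u v h
    exact hinj (by simpa [LinearMap.toMatrix'_mulVec] using h)
  obtain ⟨y, hy⟩ := hdet
  have hyv : ∀ v, mv y v = L v := fun v => by
    show (y : Matrix ι ι F) *ᵥ v = _
    rw [hy, LinearMap.toMatrix'_mulVec]
  have hpol : ∀ u v, Transvec.Orth.pol Q (L u) (L v) = Transvec.Orth.pol Q u v := fun u v => by
    have a1 := Transvec.Orth.pol_mv hQ hx u v
    have a2 := Transvec.Orth.pol_mv hQ hx u (mv w v)
    have a3 := Transvec.Orth.pol_mv hQ hx (mv w u) v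
    have a4 := Transvec.Orth.pol_mv hQ hx (mv w u) (mv w v)
    have a5 := Transvec.Orth.pol_mv hQ hw u v
    have a6 := Transvec.Orth.pol_mv hQ hx (mv x u) v
    have a7 := Transvec.Orth.pol_mv hQ hx (mv x u) (mv w v)
    have a8 := Transvec.Orth.pol_mv hQ hx (mv x (mv w u)) v
    have a9 := Transvec.Orth.pol_mv hQ hx (mv x (mv w u)) (mv w v)
    simp only [hxx] at a6 a7 a8 a9
    rw [hL, hL]
    simp only [Transvec.Orth.pol_smul_left hQ, Transvec.Orth.pol_smul_right hQ, Transvec.Orth.pol_add_left hQ, Transvec.Orth.pol_add_right hQ,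
      Transvec.Orth.pol_sub_left hQ, Transvec.Orth.pol_sub_right hQ]
    field_simp
    have a10 := Transvec.Orth.pol_mv hQ hw (mv x u) v
    rw [← hcomm u] at a10
    linear_combination a1 - a2 - a3 + a4 + 2 * a5 + a6 - a7 - 2 * a10 + a8 - a9
  refine ⟨y, Transvec.Orth.mem_isometry.2 fun v => mul_left_cancel₀ h2 ?_, ext_mv fun v => by
    rw [mv_mul, hyv, hyv, hLL]⟩
  rw [← Transvec.Orth.pol_self hQ, ← Transvec.Orth.pol_self hQ, hyv, hpol]

end General

section Slots

variable [Finite F] {k : ℕ} {f : (Fin k → F) → (Fin k → F) → F} {J : Type} [Fintype J] [DecidableEq J]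
variable {Q : ((J → Fin k) → F) → F}

/-- Pure tensors span. -/
theorem span_pten : Submodule.span F (Set.range (pten : (J → Fin k → F) → (J → Fin k) → F)) = ⊤ := by
  have h : (Submodule.span F (Set.range (pten : (J → Fin k → F) → (J → Fin k) → F))).mkQ = 0 :=
    eq_of_pten fun x => (Submodule.Quotient.mk_eq_zero _).2 (Submodule.subset_span ⟨x, rfl⟩)
  rw [← Submodule.ker_mkQ (Submodule.span F (Set.range (pten : (J → Fin k → F) → (J → Fin k) → F))), h,
    LinearMap.ker_zero]

/-- An element preserving the tensor power and the pure tensors preserves the quadratic form. -/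
theorem isometry_of_pure (hQ : Geo.IsNondegenerateQuadraticForm Q)
    (hpol : ∀ x y, Transvec.Orth.pol Q x y = Bt (RingEquiv.refl F) f x y) (hpure : ∀ x, Q (pten x) = 0)
    {g : GL (J → Fin k) F}
    (hB : ∀ x y, Bt (RingEquiv.refl F) f (mv g x) (mv g y) = Bt (RingEquiv.refl F) f x y) (hg : Mono g) :
    g ∈ isometryGroup F Q := by
  refine isometry_of_span hQ (fun x y => by rw [hpol, hpol, hB]) span_pten ?_
  rintro _ ⟨x, rfl⟩
  obtain ⟨σ, A, hA⟩ := hg
  rw [hA, hpure, hpure]

/-- In characteristic two an involutory isometry with singular displacements of pure tensors lies in the commutator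
subgroup. -/
theorem mem_omega_of_pure (hQ : Geo.IsNondegenerateQuadraticForm Q) (hn : 11 ≤ Fintype.card (J → Fin k))
    (h2 : (2 : F) = 0) {x : GL (J → Fin k) F} (hx : x ∈ isometryGroup F Q) (hxx : ∀ v, mv x (mv x v) = v)
    (hp : ∀ z, Q (mv x (pten z) - pten z) = 0) : x ∈ Geo.omegaGL Q := by
  refine mem_omega_of_singular hQ hn h2 hx hxx fun v => ?_
  have hzero : ∀ u v, Transvec.Orth.pol Q (mv x u - u) (mv x v - v) = 0 := fun u v => by
    rw [Transvec.Orth.pol_sub_left hQ, Transvec.Orth.pol_sub_right hQ, Transvec.Orth.pol_sub_right hQ,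
      Transvec.Orth.pol_mv hQ hx]
    have := Transvec.Orth.pol_mv hQ hx u (mv x v)
    rw [hxx] at this
    rw [this]
    linear_combination (Transvec.Orth.pol Q u v - Transvec.Orth.pol Q u (mv x v)) * h2
  have hv : v ∈ Submodule.span F (Set.range (pten : (J → Fin k → F) → (J → Fin k) → F)) := by
    rw [span_pten]; trivial
  induction hv using Submodule.span_induction with
  | mem v hv =>
    obtain ⟨z, rfl⟩ := hv
    exact hp z
  | zero => rw [mv_zero, sub_zero]; exact Transvec.Orth.q_zero hQ
  | add u v _ _ hu hv =>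
    rw [mv_add, show mv x u + mv x v - (u + v) = (mv x u - u) + (mv x v - v) by abel, Transvec.Orth.q_add hQ, hu,
      hv, hzero, zero_add, zero_add]
  | smul r u _ hu => rw [mv_smul, ← smul_sub, Transvec.Orth.q_smul hQ, hu, mul_zero]

/-- Members of one slot preserving the symplectic form lie in the commutator subgroup. -/
theorem fac_mem_omega (hf : Geo.IsSymplecticForm f) (hQ : Geo.IsNondegenerateQuadraticForm Q)
    (hpol : ∀ x y, Transvec.Orth.pol Q x y = Bt (RingEquiv.refl F) f x y) (hpure : ∀ x, Q (pten x) = 0)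
    (hn : 11 ≤ Fintype.card (J → Fin k)) (i : J) {A : GL (Fin k) F}
    (hA : ∀ u v, f (mv A u) (mv A v) = f u v) : fac i A ∈ Geo.omegaGL Q := by
  haveI : Fintype F := Fintype.ofFinite F
  have hs := Grow.sform hf
  let L : GL (Fin k) F →* GL (J → Fin k) F := MonoidHom.mk' (fun A => fac i A) fun A B => fac_mul i A B
  refine preserving_le hf (M := (Geo.omegaGL Q).comap L) (fun v s => ?_) (show A ∈ _ from hA)
  show fac i (stv hf v s) ∈ Geo.omegaGL Q
  have hiso : ∀ r, fac i (stv hf v r) ∈ isometryGroup F Q := fun r =>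
    isometry_of_pure hQ hpol hpure (fac_pres hs i (fun u w => stv_mem hf v r u w)) ⟨1, monoOf_fac i _⟩
  by_cases h2 : (2 : F) = 0
  · refine mem_omega_of_pure hQ hn h2 (hiso s) (fun u => ?_) fun z => ?_
    · rw [← mv_mul, ← fac_mul, stv_add, show s + s = 0 by linear_combination s * h2, stv_zero, fac_one, mv_one]
    · rw [mv_fac, mv_stv, Grow.pten_update_add, Function.update_eq_self, add_sub_cancel_left, hpure]
  · have e : fac i (stv hf v s) = fac i (stv hf v (s / 2)) * fac i (stv hf v (s / 2)) := by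
      rw [← fac_mul, stv_add, ← add_div, ← two_mul, mul_div_cancel_left₀ _ h2]
    rw [e]
    exact mul_self_mem_omega hQ (by omega) (hiso _)

/-- A transposition of slots with a third one left fixed lies in the commutator subgroup. -/
theorem pm_swap_mem (hf : Geo.IsSymplecticForm f) (hQ : Geo.IsNondegenerateQuadraticForm Q)
    (hpol : ∀ x y, Transvec.Orth.pol Q x y = Bt (RingEquiv.refl F) f x y) (hpure : ∀ x, Q (pten x) = 0)
    (hn : 11 ≤ Fintype.card (J → Fin k)) {a b c : J} (hca : c ≠ a) (hcb : c ≠ b) :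
    pm (Equiv.swap a b) ∈ Geo.omegaGL Q := by
  haveI : Fintype F := Fintype.ofFinite F
  have hs := Grow.sform hf
  set x : GL (J → Fin k) F := pm (Equiv.swap a b) with hxdef
  have hx : x ∈ isometryGroup F Q :=
    isometry_of_pure hQ hpol hpure (pm_pres hs _) ⟨_, monoOf_pm _⟩
  have hxx : ∀ v, mv x (mv x v) = v := fun v => by
    rw [← mv_mul, hxdef, pm_mul, Equiv.swap_mul_self, pm_one, mv_one]
  by_cases h2 : (2 : F) = 0
  · refine mem_omega_of_pure hQ hn h2 hx hxx fun z => ?_
    have hneg : ∀ x : (J → Fin k) → F, -x = x := fun x =>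
      neg_eq_of_add_eq_zero_left (by rw [← two_smul F x, h2, zero_smul])
    rw [sub_eq_add_neg, hneg, Transvec.Orth.q_add hQ, hxdef, UWreath.mv_pm_pten, hpure, hpure, zero_add, zero_add,
      hpol, Bt_pten hs]
    refine Finset.prod_eq_zero (Finset.mem_univ c) ?_
    simp [Equiv.swap_apply_of_ne_of_ne hca hcb, hf.alternating]
  · obtain ⟨m, hm⟩ := TensorMax.S.even_card hf
    rw [Fintype.card_fin] at hm
    obtain ⟨E, -, -, -, hE⟩ := LBLinSympInv.exists_transport hf (m := m) (by omega)
    have hJJ : E (Matrix.J (Fin m) F) * E (Matrix.J (Fin m) F) = -1 := by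
      rw [← map_mul, Matrix.J_squared, map_neg, map_one]
    have hJpres : ∀ u v, sympForm m F (Matrix.J (Fin m) F *ᵥ u) (Matrix.J (Fin m) F *ᵥ v) =
        1 * sympForm m F u v := fun u v => by
      rw [one_mul, sympForm, sympForm, Matrix.mulVec_mulVec, Matrix.J_squared, Matrix.neg_mulVec,
        Matrix.one_mulVec, dotProduct_neg, dotProduct_comm, Matrix.dotProduct_mulVec, ← Matrix.mulVec_transpose,
        Matrix.J_transpose, Matrix.neg_mulVec, neg_dotProduct, neg_neg, dotProduct_comm]
    have hunit : IsUnit (E (Matrix.J (Fin m) F)) := by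
      rw [Matrix.isUnit_iff_isUnit_det]
      refine IsUnit.of_mul_eq_one (-(E (Matrix.J (Fin m) F))).det ?_
      rw [← Matrix.det_mul, mul_neg, hJJ, neg_neg, Matrix.det_one]
    obtain ⟨w, hw⟩ := hunit
    have hwv : ∀ v, mv w (mv w v) = -v := fun v => by
      show (w : Matrix (Fin k) (Fin k) F) *ᵥ ((w : Matrix (Fin k) (Fin k) F) *ᵥ v) = -v
      rw [Matrix.mulVec_mulVec, hw, hJJ, Matrix.neg_mulVec, Matrix.one_mulVec]
    have hwf : ∀ u v, f (mv w u) (mv w v) = f u v := fun u v => by
      show f ((w : Matrix (Fin k) (Fin k) F) *ᵥ u) ((w : Matrix (Fin k) (Fin k) F) *ᵥ v) = _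
      rw [hw, hE _ 1 hJpres, one_mul]
    have hW : fac c w ∈ isometryGroup F Q :=
      isometry_of_pure hQ hpol hpure (fac_pres hs c hwf) ⟨1, monoOf_fac c w⟩
    have hWW : ∀ v, mv (fac c w) (mv (fac c w) v) = -v := fun v => by
      have e : (mvLin (fac c w)).comp (mvLin (fac c w)) = -LinearMap.id := eq_of_pten fun z => by
        show mv (fac c w) (mv (fac c w) (pten z)) = -pten z
        rw [mv_fac, mv_fac, Function.update_self, Function.update_idem, hwv,
          ← neg_one_smul F (z c), pten_update_smul, Function.update_eq_self, neg_one_smul]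
      exact LinearMap.congr_fun e v
    have hcomm : ∀ v, mv x (mv (fac c w) v) = mv (fac c w) (mv x v) := fun v => by
      have := UWreath.fac_conj_pm (Equiv.swap a b) c w
      rw [Equiv.swap_apply_of_ne_of_ne hca hcb, mul_inv_eq_iff_eq_mul] at this
      rw [← mv_mul, ← mv_mul, hxdef, this]
    obtain ⟨y, hy, hyx⟩ := exists_sqrt hQ h2 hx hW hxx hWW hcomm
    rw [← hyx]
    exact mul_self_mem_omega hQ (by omega) hy

/-- With three slots every permutation of slots lies in the commutator subgroup. -/
theorem pm_mem_omega (hf : Geo.IsSymplecticForm f) (hQ : Geo.IsNondegenerateQuadraticForm Q)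
    (hpol : ∀ x y, Transvec.Orth.pol Q x y = Bt (RingEquiv.refl F) f x y) (hpure : ∀ x, Q (pten x) = 0)
    (hn : 11 ≤ Fintype.card (J → Fin k)) (hJ : 3 ≤ Fintype.card J) (π : Equiv.Perm J) :
    pm π ∈ Geo.omegaGL Q := by
  induction π using Equiv.Perm.swap_induction_on with
  | one => rw [pm_one]; exact Subgroup.one_mem _
  | swap_mul π a b _ ih =>
    rw [← pm_mul]
    refine Subgroup.mul_mem _ ?_ ih
    obtain ⟨c, hc⟩ : ∃ c, c ∉ ({a, b} : Finset J) := by
      by_contra hcon
      push Not at hcon
      have h1 : (Finset.univ : Finset J) ⊆ {a, b} := fun c _ => hcon c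
      have := (Finset.card_le_card h1).trans Finset.card_le_two
      rw [Finset.card_univ] at this
      omega
    simp only [Finset.mem_insert, Finset.mem_singleton, not_or] at hc
    exact pm_swap_mem hf hQ hpol hpure hn hc.1 hc.2

end Slots

end Cfsg.Agent.FormWreath
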