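/-
The stabiliser of a tensor power of a symplectic form is maximal in the commutator subgroup of the orthogonal group.
-/
import Cfsg.Agent.Lib.FormWreath.OmegaPerm

set_option autoImplicit false
set_option linter.unusedSectionVars false

namespace Cfsg.Agent.FormWreath

open scoped Matrix
open Matrix Cfsg.Agent.Transvec Cfsg.Agent.TensorMax Cfsg.Agent.WreathMax

variable {F : Type*} [Field F] {k : ℕ} {f : (Fin k → F) → (Fin k → F) → F}

theorem not_mem_span_symm {u v : Fin k → F} (hv : v ≠ 0) (h : u ∉ Submodule.span F {v}) (hu : u ≠ 0) :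
    v ∉ Submodule.span F {u} := fun hm => by
  obtain ⟨r, hr⟩ := Submodule.mem_span_singleton.1 hm
  have hr0 : r ≠ 0 := fun h0 => hv (by rw [← hr, h0, zero_smul])
  exact h (Submodule.mem_span_singleton.2 ⟨r⁻¹, by rw [← hr, smul_smul, inv_mul_cancel₀ hr0, one_smul]⟩)

section Impure

variable {J : Type} [Fintype J] [DecidableEq J]

/-- The sum of pure tensors differing in two slots is not pure. -/
theorem sum_not_pure {z y u : J → Fin k → F} {a b : J} (hab : b ≠ a) (hz0 : ∀ j, z j ≠ 0) (hy0 : ∀ j, y j ≠ 0)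
    (ha : z a ∉ Submodule.span F {y a}) (hb : y b ∉ Submodule.span F {z b}) : pten z + pten y ≠ pten u := by
  intro e
  obtain ⟨θ, hθ, hθz⟩ := exists_dot ha
  obtain ⟨η, hη, hηy⟩ := exists_dot (not_mem_span_symm (hy0 a) ha (hz0 a))
  obtain ⟨ξ, hξ, hξy⟩ := exists_dot hb
  have e' := congrArg (push a) e
  rw [map_add, push_pten, push_pten, push_pten] at e'
  have p1 := congrArg (ctr θ) e'
  have p2 := congrArg (ctr η) e'
  simp only [map_add, ctr_ten, hθz, hηy, hθ (y a) (Submodule.mem_span_singleton_self _),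
    hη (z a) (Submodule.mem_span_singleton_self _), one_smul, zero_smul, add_zero, zero_add] at p1 p2
  have hne : θ ⬝ᵥ u a ≠ 0 := fun h => pten_ne_zero (fun j => hz0 _) (by rw [p1, h, zero_smul])
  have hprop : (pten fun j : {j // j ≠ a} => y j) =
      ((η ⬝ᵥ u a) / (θ ⬝ᵥ u a)) • pten fun j : {j // j ≠ a} => z j := by
    rw [p1, p2, smul_smul, div_mul_cancel₀ _ hne]
  -- contract the second slot
  have q := congrArg (fun w => ctr ξ (push (⟨b, hab⟩ : {j // j ≠ a}) w)) hprop
  simp only [map_smul, push_pten, ctr_ten, hξy, hξ (z b) (Submodule.mem_span_singleton_self _), zero_smul,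
    smul_zero, one_smul] at q
  exact pten_ne_zero (fun j => hy0 _) q

/-- Some Siegel element takes a pure tensor to a tensor that is not pure. -/
theorem exists_impure_siegel [Finite F] [Nontrivial J] {Q : ((J → Fin k) → F) → F} (hk : 2 ≤ k)
    (hJ : k = 2 → 3 ≤ Fintype.card J) (hf : Geo.IsSymplecticForm f) (hQ : Geo.IsNondegenerateQuadraticForm Q)
    (hpol : ∀ x y, Transvec.Orth.pol Q x y = Bt (RingEquiv.refl F) f x y) (hpure : ∀ x, Q (pten x) = 0)
    (hn : 7 ≤ Fintype.card (J → Fin k)) :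
    ∃ g ∈ Geo.omegaGL Q, ¬Mono g := by
  classical
  have hs := Grow.sform hf
  set c : Fin k → F := Pi.single ⟨0, by omega⟩ 1
  have hc : c ≠ 0 := Pi.single_ne_zero_iff.2 one_ne_zero
  obtain ⟨d, hd⟩ := TensorMax.S.exists_pair hf hc
  have hd0 : d ≠ 0 := fun h => by rw [h, f_zero_left hf] at hd; exact zero_ne_one hd
  have hdc : d ∉ Submodule.span F {c} := fun hm => by
    obtain ⟨r, hr⟩ := Submodule.mem_span_singleton.1 hm
    rw [← hr, hf.bilinear.smul_left, hf.alternating, mul_zero] at hd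
    exact zero_ne_one hd
  obtain ⟨a, b, hab⟩ := exists_pair_ne J
  obtain ⟨h, hh0, hhd, hhq⟩ : ∃ h : Fin k → F, h ≠ 0 ∧ h ∉ Submodule.span F {d} ∧
      (f d h = 0 ∨ 3 ≤ Fintype.card J) := by
    by_cases hk2 : k = 2
    · exact ⟨c, hc, not_mem_span_symm hc hdc hd0, Or.inr (hJ hk2)⟩
    obtain ⟨v, hv, hvd⟩ := TensorMax.S.exists_perp_out hf (P := Submodule.span F {d}) (by
      obtain ⟨p, hp⟩ := TensorMax.S.even_card hf
      rw [Fintype.card_fin] at hp
      rw [finrank_span_singleton hd0, Fintype.card_fin]; omega)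
    exact ⟨v, fun h => hv (h ▸ zero_mem _), hv, Or.inl (hvd d (Submodule.mem_span_singleton_self d))⟩
  set u : J → Fin k → F := fun _ => c
  set z : J → Fin k → F := fun _ => d
  set y : J → Fin k → F := fun j => if j = a then c else if j = b then h else d
  have hy0 : ∀ j, y j ≠ 0 := fun j => by
    simp only [y]; split_ifs
    · exact hc
    · exact hh0
    · exact hd0
  have huy : Transvec.Orth.pol Q (pten u) (pten y) = 0 := by
    rw [hpol, Bt_pten hs]
    exact Finset.prod_eq_zero (Finset.mem_univ a) (by simp [u, y, hf.alternating])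
  have hzy : Transvec.Orth.pol Q (pten z) (pten y) = 0 := by
    rw [hpol, Bt_pten hs]
    rcases hhq with hq | h3
    · exact Finset.prod_eq_zero (Finset.mem_univ b) (by simp [z, y, hab.symm, hq])
    · obtain ⟨e, he⟩ : ∃ e, e ∉ ({a, b} : Finset J) := by
        by_contra hcon
        push Not at hcon
        have h1 : (Finset.univ : Finset J) ⊆ {a, b} := fun e _ => hcon e
        have := (Finset.card_le_card h1).trans Finset.card_le_two
        rw [Finset.card_univ] at this
        omega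
      simp only [Finset.mem_insert, Finset.mem_singleton, not_or] at he
      exact Finset.prod_eq_zero (Finset.mem_univ e) (by simp [z, y, he.1, he.2, hf.alternating])
  have hzu : Transvec.Orth.pol Q (pten z) (pten u) = 1 := by
    rw [hpol, Bt_pten hs]; exact Finset.prod_eq_one fun _ _ => hd
  obtain ⟨g, hg, hgs⟩ := Transvec.Orth.exists_siegel hQ (hpure u) huy
  refine ⟨g, Transvec.Orth.siegel_mem_omega hQ hn (hpure u) huy hgs, ?_⟩
  rintro ⟨π, A, hA⟩
  have e : mv g (pten z) = pten z + pten y := by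
    rw [hgs, hzu, hzy, hpure y]
    simp
  refine sum_not_pure (a := a) (b := b) hab.symm (fun _ => hd0) hy0 ?_ ?_ (e.symm.trans (hA z))
  · simpa [z, y] using hdc
  · simpa [z, y, hab.symm] using hhd

end Impure

/-- The monomial members form a maximal subgroup of the commutator subgroup. -/
theorem omega_maximal_std [Fintype F] {t : ℕ} {Q : ((Fin t → Fin k) → F) → F} (hk : 2 ≤ k) (ht : 2 ≤ t)
    (hn : 11 ≤ k ^ t) (hodd : (2 : F) ≠ 0 → Even t) (hbig : (2 : F) = 0 → 6 ≤ k)
    (hq : k = 2 → ∃ a : F, a ≠ 0 ∧ a * a ≠ 1) (hf : Geo.IsSymplecticForm f)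
    (hQ : Geo.IsNondegenerateQuadraticForm Q)
    (hpol : ∀ x y, Transvec.Orth.pol Q x y = Bt (RingEquiv.refl F) f x y) (hpure : ∀ x, Q (pten x) = 0) :
    Geo.IsMaximalIn (Geo.omegaGL Q) (Geo.tensorWreathStandard k t F ⊓ Geo.omegaGL Q) := by
  classical
  haveI : Nonempty (Fin t) := ⟨⟨0, by omega⟩⟩
  haveI : Nontrivial (Fin t) := Fin.nontrivial_iff_two_le.2 ht
  have hs := Grow.sform hf
  have hn' : 11 ≤ Fintype.card (Fin t → Fin k) := by simpa using hn
  have h3 : k = 2 ∨ 3 ≤ Fintype.card (Fin t) → 3 ≤ Fintype.card (Fin t) := fun h => h.elim (fun h2 => by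
    subst h2
    rw [Fintype.card_fin]
    by_contra hlt
    interval_cases t
    norm_num at hn) id
  refine ⟨lt_of_le_of_ne inf_le_right fun heq => ?_, fun M h1 hM2 => ?_⟩
  · obtain ⟨g, hg, hnot⟩ := exists_impure_siegel hk (fun h2 => h3 (Or.inl h2)) hf hQ hpol hpure (by omega)
    rw [← heq] at hg
    exact hnot ((mem_standard_iff _).1 hg.1)
  have hU : UForm (RingEquiv.refl F) (-1) f := ⟨hs, Or.inl ⟨fun _ => rfl, rfl, hf.alternating⟩⟩
  have hFac : FacSU f M := fun i A hA _ =>
    h1 ⟨(mem_standard_iff _).2 ⟨1, monoOf_fac i A⟩, fac_mem_omega hf hQ hpol hpure hn' i hA⟩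
  have hmono : k = 2 ∨ 3 ≤ Fintype.card (Fin t) → ∀ π : Equiv.Perm (Fin t), ∃ g ∈ M, MonoOf π g := fun h π =>
    ⟨pm π⁻¹, h1 ⟨(mem_standard_iff _).2 ⟨_, monoOf_pm π⁻¹⟩, pm_mem_omega hf hQ hpol hpure hn' (h3 h) π⁻¹⟩, by
      have := monoOf_pm (F := F) (m := k) π⁻¹
      rwa [inv_inv] at this⟩
  by_cases hRM : ScalarRad hU.toSF M ∧ MiddleScalar hU.toSF M
  · have C : Mon f M :=
      { hf := hs
        alt := hf.alternating
        hk := hk
        hq := hq
        sim := fun g hg => ⟨1, one_ne_zero, fun x y => by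
          rw [one_mul, ← hpol, ← hpol, Transvec.Orth.pol_mv hQ (Transvec.Orth.omega_le_isometry hQ (hM2 hg))]⟩
        hM := hFac
        rad := hRM.1
        mid := fun i c hc g hg _ h3 h4 => hRM.2 i c hc (hf.alternating c) g hg h3 h4
        perm := hmono
        big := hbig }
    exact Or.inl (le_antisymm (fun g hg => ⟨(mem_standard_iff g).2 (C.all_mono g hg), hM2 hg⟩) h1)
  · refine Or.inr (le_antisymm hM2 (Grow.omega_le_of_not_scalar hU hQ hpol hpure hk (by omega)
      (by rwa [Fintype.card_fin]) (fun h2 => by rw [Fintype.card_fin]; exact hodd h2) hbig hM2 hFac hmono hRM))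

/-- The stabiliser of a symplectic tensor power decomposition is maximal in the commutator subgroup. -/
theorem orth_symp_tensor_wreath_maximal [Fintype F] {n : ℕ} (hn : 13 ≤ n) (Q : (Fin n → F) → F)
    (hQ : Geo.IsNondegenerateQuadraticForm Q) (k' t : ℕ) (ht : 2 ≤ t) (hqt : Odd (Fintype.card F) → Even t)
    (hex1 : ¬ (Fintype.card F = 2 ∧ k' = 2)) (hex2 : ¬ (Fintype.card F = 3 ∧ k' = 2))
    (hex3 : ¬ Odd (Fintype.card F) → 6 ≤ k') (e : Fin n ≃ (Fin t → Fin k')) (P : GL (Fin n) F)
    (f₁ : (Fin k' → F) → (Fin k' → F) → F) (hf₁ : Geo.IsSymplecticForm f₁)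
    (hT : Geo.IsTensorPowerFormStructure id (QuadraticMap.polar Q) f₁ e P)
    (hpure : ∀ xs : Fin t → (Fin k' → F), Q (Matrix.mulVec (P : Matrix (Fin n) (Fin n) F)
      ((fun a : Fin t → Fin k' => ∏ i, xs i (a i)) ∘ e)) = 0) :
    Geo.IsMaximalIn (Geo.omegaGL Q) (Geo.tensorWreathSubgroup k' t e P ⊓ Geo.omegaGL Q) := by
  classical
  have hcard : n = k' ^ t := by simpa using Fintype.card_congr e
  have hk : 2 ≤ k' := by
    by_contra hlt
    interval_cases k'
    · rw [zero_pow (by omega)] at hcard; omega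
    · rw [one_pow] at hcard; omega
  have h2 : (2 : F) = 0 → ¬ Odd (Fintype.card F) := fun h ho => Transvec.Orth.two_ne_zero_of_odd_card ho h
  have h2' : (2 : F) ≠ 0 → Odd (Fintype.card F) := fun h => by
    rw [← Nat.not_even_iff_odd]
    intro he
    haveI := ringChar.charP F
    have hc := FiniteField.even_card_iff_char_two.2 (Nat.even_iff.1 he)
    haveI : CharP F 2 := hc ▸ ringChar.charP F
    exact h (CharTwo.two_eq_zero)
  have hq : k' = 2 → ∃ a : F, a ≠ 0 ∧ a * a ≠ 1 := fun hk2 => by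
    by_contra hcon
    push Not at hcon
    have h3 : (Finset.univ : Finset F) ⊆ {0, 1, -1} := fun a _ => by
      by_cases ha : a = 0
      · simp [ha]
      · rcases mul_self_eq_one_iff.1 (hcon a ha) with h | h <;> simp [h]
    have h4 := (Finset.card_le_card h3).trans Finset.card_le_three
    rw [Finset.card_univ] at h4
    have h5 := Fintype.one_lt_card (α := F)
    rcases Nat.lt_or_ge (Fintype.card F) 3 with h6 | h6
    · exact hex1 ⟨by omega, hk2⟩
    · exact hex2 ⟨by omega, hk2⟩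
  obtain ⟨c, hc, hT⟩ := hT
  set Q' : ((Fin t → Fin k') → F) → F := fun x => c⁻¹ * Q (mv P (x ∘ e)) with hQ'def
  have hB := Bt_sf (J := Fin t) (Grow.sform hf₁)
  have hpol' : ∀ x y, Transvec.Orth.pol Q' x y = Bt (RingEquiv.refl F) f₁ x y := fun x y => by
    have e1 : Transvec.Orth.pol Q' x y = c⁻¹ * QuadraticMap.polar Q (mv P (x ∘ e)) (mv P (y ∘ e)) := by
      simp only [hQ'def, Transvec.Orth.pol, QuadraticMap.polar, ← mv_add]
      rw [show (x + y) ∘ e = x ∘ e + y ∘ e from rfl]
      ring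
    rw [e1, show QuadraticMap.polar Q (mv P (x ∘ e)) (mv P (y ∘ e)) = c * Bt (RingEquiv.refl F) f₁ x y from hT x y,
      inv_mul_cancel_left₀ hc]
  have hQ' : Geo.IsNondegenerateQuadraticForm Q' := by
    refine ⟨fun r v => ?_, ⟨fun x y v => ?_, fun r x v => ?_, fun v x y => ?_, fun r v x => ?_⟩, fun v hv => ?_⟩
    · simp only [hQ'def]
      rw [show (r • v) ∘ e = r • (v ∘ e) from rfl, mv_smul, Transvec.Orth.q_smul hQ]
      ring
    · show Transvec.Orth.pol Q' _ _ = Transvec.Orth.pol Q' _ _ + Transvec.Orth.pol Q' _ _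
      rw [hpol', hpol', hpol', hB.add_left]
    · show Transvec.Orth.pol Q' _ _ = r * Transvec.Orth.pol Q' _ _
      rw [hpol', hpol', hB.smul_left]
    · show Transvec.Orth.pol Q' _ _ = Transvec.Orth.pol Q' _ _ + Transvec.Orth.pol Q' _ _
      rw [hpol', hpol', hpol', hB.add_right]
    · show Transvec.Orth.pol Q' _ _ = r * Transvec.Orth.pol Q' _ _
      rw [hpol', hpol', hB.smul_right, RingEquiv.refl_apply]
    · obtain ⟨y, hy⟩ : ∃ y, Bt (RingEquiv.refl F) f₁ v y ≠ 0 := by
        by_contra hcon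
        push Not at hcon
        exact hv (hB.nondeg v hcon)
      refine ⟨⟨y, show Transvec.Orth.pol Q' y v ≠ 0 from ?_⟩, ⟨y, show Transvec.Orth.pol Q' v y ≠ 0 from ?_⟩⟩
      · rw [Transvec.Orth.pol_comm, hpol']; exact hy
      · rw [hpol']; exact hy
  have hpure' : ∀ xs, Q' (pten xs) = 0 := fun xs => by
    show c⁻¹ * Q (mv P (pten xs ∘ e)) = 0
    rw [show Q (mv P (pten xs ∘ e)) = 0 from hpure xs, mul_zero]
  have h := omega_maximal_std (f := f₁) (t := t) (Q := Q') hk ht (by omega) (fun h => hqt (h2' h))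
    (fun h => hex3 (h2 h)) hq hf₁ hQ' hpol' hpure'
  have h' := TensorMax.isMaximalIn_map (MulAut.conj P) (TensorMax.isMaximalIn_map (Geo.glReindex e.symm) h)
  simp only [Subgroup.map_inf _ _ (Geo.glReindex (F := F) e.symm).toMonoidHom (Geo.glReindex e.symm).injective,
    Subgroup.map_inf _ _ (MulAut.conj P).toMonoidHom (MulAut.conj P).injective] at h'
  rw [TensorMax.S.map_omega e P hQ hQ' (inv_ne_zero hc) (fun x => rfl) (by rw [Fintype.card_fin]; omega)] at h'
  exact h'

end Cfsg.Agent.FormWreath
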